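/-
Six coordinates: conjugates of axis pairs, traces of monomial involutions, and dihedral subgroups.
-/
import Cfsg.Agent.Lib.Classical22.Frame.EvenCols

set_option autoImplicit false

namespace CfsgLib.SLFour.Six

open Cfsg CfsgLib.Classical CfsgLib.Classical22 CfsgLib.Classical22.Frame
open scoped Matrix _root_.Classical

variable {F : Type*} [Field F] [Fintype F]

local notation "Q6" => qAut (sq F 6)

/-- An overgroup of the even monomial isometries of six coordinates with monomial axis stabilisers,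
over a prime field with at least five elements. -/
structure Ctx (H : Subgroup Q6) : Prop where
  base : Base H
  stab : ∀ g ∈ H, ∀ i, g.1 (ax i) = ax i → Mono g
  five_le : 5 ≤ Fintype.card F

/-- The sign change of two coordinates. -/
noncomputable abbrev pr (F : Type*) [Field F] (a b : Fin 6) : qAut (sq F 6) := sgn F {a, b}

omit [Fintype F] in
theorem pr_apply {a b : Fin 6} (hab : a ≠ b) (x : Fin 6 → F) :
    (pr F a b).1 x = x - (2 * x a) • ax a - (2 * x b) • ax b := funext fun i => by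
  rw [sgn_apply, Pi.sub_apply, Pi.sub_apply, Pi.smul_apply, Pi.smul_apply]
  by_cases hia : i = a
  · subst hia
    rw [if_pos (by simp), ax_self, ax_ne hab, smul_zero, sub_zero, smul_eq_mul]
    ring
  by_cases hib : i = b
  · subst hib
    rw [if_pos (by simp), ax_self, ax_ne hia, smul_zero, sub_zero, smul_eq_mul]
    ring
  rw [if_neg (by simp [hia, hib]), ax_ne hia, ax_ne hib, smul_zero, smul_zero, sub_zero, sub_zero]

omit [Fintype F] in
theorem pr_fix {a b : Fin 6} {x : Fin 6 → F} (ha : x a = 0) (hb : x b = 0) : (pr F a b).1 x = x :=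
  funext fun i => by
    rw [sgn_apply]
    split_ifs with h
    · simp only [Finset.mem_insert, Finset.mem_singleton] at h
      rcases h with rfl | rfl <;> simp [ha, hb]
    · rfl

omit [Fintype F] in
theorem pr_neg {a b : Fin 6} {x : Fin 6 → F} (h : ∀ i, i ≠ a → i ≠ b → x i = 0) : (pr F a b).1 x = -x :=
  funext fun i => by
    rw [sgn_apply, Pi.neg_apply]
    split_ifs with hi
    · rfl
    · simp only [Finset.mem_insert, Finset.mem_singleton, not_or] at hi
      rw [h i hi.1 hi.2, neg_zero]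

omit [Fintype F] in
theorem pr_inv (a b : Fin 6) : (pr F a b)⁻¹ = pr F a b := inv_eq_of_mul_eq_one_right (sgn_mul_self _)

omit [Fintype F] in
theorem pr_comm (a b : Fin 6) : pr F a b = pr F b a := by rw [pr, pr, Finset.pair_comm]

section Two

variable (h2 : (2 : F) ≠ 0)
include h2

omit [Fintype F] in
/-- A conjugate of an axis pair. -/
theorem conj_pr (g : Q6) {a b : Fin 6} (hab : a ≠ b) (x : Fin 6 → F) :
    (g * pr F a b * g⁻¹).1 x =
      x - (2 * (x ⬝ᵥ g.1 (ax a))) • g.1 (ax a) - (2 * (x ⬝ᵥ g.1 (ax b))) • g.1 (ax b) := by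
  have e : ∀ i, ((g⁻¹).1 x) i = x ⬝ᵥ g.1 (ax i) := fun i => by
    rw [← dot_ax i ((g⁻¹).1 x), ← dot_inv h2 g (ax i) x |>.trans (dotProduct_comm _ _), dotProduct_comm]
  rw [qAut_mul_apply, qAut_mul_apply, pr_apply hab, map_sub, map_sub, map_smul, map_smul, qApply_inv_self, e, e]

omit [Fintype F] in
theorem conj_pr_left (g : Q6) {a b : Fin 6} (hab : a ≠ b) :
    (g * pr F a b * g⁻¹).1 (g.1 (ax a)) = -g.1 (ax a) := by
  rw [qAut_mul_apply, qAut_mul_apply, qInv_apply_self, pr_neg fun i hi _ => ax_ne hi, map_neg]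

omit [Fintype F] in
theorem conj_pr_other (g : Q6) {a b c : Fin 6} (hca : c ≠ a) (hcb : c ≠ b) :
    (g * pr F a b * g⁻¹).1 (g.1 (ax c)) = g.1 (ax c) := by
  rw [qAut_mul_apply, qAut_mul_apply, qInv_apply_self, pr_fix (ax_ne (Ne.symm hca)) (ax_ne (Ne.symm hcb))]

omit [Fintype F] in
/-- Monomial isometries move axis pairs to axis pairs. -/
theorem conj_pr_axes (g : Q6) {a b c d : Fin 6} (hab : a ≠ b) (hcd : c ≠ d) {σ τ : F}
    (ha : g.1 (ax a) = σ • ax c) (hb : g.1 (ax b) = τ • ax d) : g * pr F a b * g⁻¹ = pr F c d := by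
  refine qAut_ext fun x => ?_
  rw [conj_pr h2 g hab, pr_apply hcd, ha, hb, dotProduct_smul, dotProduct_smul, dot_ax, dot_ax, smul_smul, smul_smul,
    smul_eq_mul, smul_eq_mul]
  have hs := mono_coeff ha
  have ht := mono_coeff hb
  congr 2
  · congr 1
    linear_combination (2 * x c) * hs
  · linear_combination (2 * x d) * ht

omit [Fintype F] in
theorem comm_pr_axes (g : Q6) {a b : Fin 6} (hab : a ≠ b) {σ τ : F}
    (ha : g.1 (ax a) = σ • ax a) (hb : g.1 (ax b) = τ • ax b) : g * pr F a b = pr F a b * g := by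
  conv_rhs => rw [← conj_pr_axes h2 g hab hab ha hb, inv_mul_cancel_right]

omit [Fintype F] in
theorem comm_pr_swap (g : Q6) {a b : Fin 6} (hab : a ≠ b) {σ τ : F}
    (ha : g.1 (ax a) = σ • ax b) (hb : g.1 (ax b) = τ • ax a) : g * pr F a b = pr F a b * g := by
  conv_rhs => rw [pr_comm, ← conj_pr_axes h2 g hab (Ne.symm hab) ha hb, inv_mul_cancel_right]

end Two

/-- The trace of an isometry. -/
noncomputable def tr (g : Q6) : F := LinearMap.trace F (Fin 6 → F) g.1.toLinearMap

omit [Fintype F] in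
theorem tr_eq_sum (g : Q6) : tr g = ∑ i, g.1 (ax i) i := by
  rw [tr, LinearMap.trace_eq_matrix_trace F (Pi.basisFun F (Fin 6))]
  refine Finset.sum_congr rfl fun i _ => ?_
  rw [Matrix.diag_apply, LinearMap.toMatrix_apply, Pi.basisFun_apply, Pi.basisFun_repr]
  rfl

omit [Fintype F] in
theorem tr_conj (g h : Q6) : tr (g * h * g⁻¹) = tr h := by
  have e : ∀ u v : Q6, (u * v).1.toLinearMap = u.1.toLinearMap * v.1.toLinearMap := fun u v => rfl
  rw [tr, tr, e, e, LinearMap.trace_mul_comm, ← mul_assoc, ← e, inv_mul_cancel]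
  exact congrArg _ (LinearMap.ext fun x => rfl)

omit [Fintype F] in
theorem tr_pr {a b : Fin 6} (hab : a ≠ b) : tr (pr F a b) = 2 := by
  rw [tr_eq_sum]
  have e : ∀ i, (pr F a b).1 (ax i) i = if i ∈ ({a, b} : Finset (Fin 6)) then -1 else 1 := fun i => by
    rw [sgn_apply]
    split_ifs <;> simp [ax_self]
  simp only [e]
  rw [Finset.sum_ite, Finset.sum_const, Finset.sum_const]
  have h1 : (Finset.univ.filter fun i : Fin 6 => i ∈ ({a, b} : Finset (Fin 6))).card = 2 := by
    rw [Finset.filter_mem_eq_inter, Finset.univ_inter, Finset.card_pair hab]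
  have h3 := Finset.card_filter_add_card_filter_not (s := (Finset.univ : Finset (Fin 6)))
    (fun i => i ∈ ({a, b} : Finset (Fin 6)))
  rw [h1, Finset.card_univ, Fintype.card_fin] at h3
  rw [h1, show (Finset.univ.filter fun i : Fin 6 => ¬ i ∈ ({a, b} : Finset (Fin 6))).card = 4 by omega]
  norm_num

variable {H : Subgroup (qAut (sq F 6))}

theorem Ctx.two (C : Ctx H) : (2 : F) ≠ 0 := C.base.two

/-- A prime field with a square root of minus one has at least five elements. -/
theorem five_of_root (h2 : (2 : F) ≠ 0) (hp : (Fintype.card F).Prime) {im : F} (hroot : im * im = -1) :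
    5 ≤ Fintype.card F := by
  have him : im ≠ 0 := fun h => by
    rw [h, mul_zero] at hroot
    exact one_ne_zero (α := F) (by linear_combination hroot)
  by_contra hlt
  have h3 : Fintype.card F = 2 ∨ Fintype.card F = 3 := by
    have := hp.two_le
    rcases (show Fintype.card F = 2 ∨ Fintype.card F = 3 ∨ Fintype.card F = 4 by omega) with h | h | h
    · exact Or.inl h
    · exact Or.inr h
    · rw [h] at hp; norm_num at hp
  rcases h3 with h | h
  · haveI := charP_of_card_eq_prime h (hp := ⟨Nat.prime_two⟩)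
    exact h2 (CharP.cast_eq_zero F 2)
  · have e := FiniteField.pow_card im
    rw [h, pow_succ, pow_two, hroot] at e
    exact h2 (mul_right_cancel₀ him (by linear_combination -e : (2 : F) * im = 0 * im))

/-- An integer between small bounds is determined by its image. -/
theorem Ctx.cast_exact (C : Ctx H) {d t : ℤ} (hev : 2 ∣ d - t) (h1 : -10 < d - t) (h1' : d - t < 10)
    (h : (d : F) = t) : d = t := by
  have hp := C.base.prime
  have h5 := C.five_le
  haveI := charP_of_card_eq_prime (R := F) (p := Fintype.card F) rfl (hp := ⟨hp⟩)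
  have h0 : ((d - t : ℤ) : F) = 0 := by rw [Int.cast_sub, h, sub_self]
  obtain ⟨k, hk⟩ := (CharP.intCast_eq_zero_iff F (Fintype.card F) _).1 h0
  obtain ⟨j, hj⟩ := hev
  have hodd : Odd (Fintype.card F : ℤ) := by exact_mod_cast hp.odd_of_ne_two (by omega)
  have hk2 : Even k := by
    by_contra hko
    have := hodd.mul (Int.not_even_iff_odd.1 hko)
    rw [← hk, hj] at this
    exact Int.not_even_iff_odd.2 this ⟨j, two_mul j⟩
  obtain ⟨m, rfl⟩ := hk2
  by_contra hne
  have hm : m ≠ 0 := fun e => hne (by rw [e] at hk; linarith)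
  have h5' : (5 : ℤ) ≤ (Fintype.card F : ℤ) := by exact_mod_cast h5
  rcases lt_or_gt_of_ne hm with hlt | hgt
  · nlinarith
  · nlinarith

/-- The shape of a monomial involution. -/
theorem shape (g : Q6) (hm : Mono g) (hinv : g * g = 1) :
    ∃ P N : Finset (Fin 6), (∀ i ∈ P, g.1 (ax i) = ax i) ∧ (∀ i ∈ N, g.1 (ax i) = -ax i) ∧
      (∀ i ∉ P, i ∉ N → ∃ j, ∃ σ : F, j ≠ i ∧ j ∉ P ∧ j ∉ N ∧ σ * σ = 1 ∧ g.1 (ax i) = σ • ax j ∧
        g.1 (ax j) = σ • ax i) ∧
      Disjoint P N ∧ 2 ∣ ((P.card : ℤ) - N.card) ∧ tr g = ((((P.card : ℤ) - N.card : ℤ)) : F) := by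
  choose π c hπ using hm
  have hback : ∀ i, g.1 (ax (π i)) = c i • ax i := fun i => by
    have h := mono_inv_apply (hπ i)
    rwa [inv_eq_of_mul_eq_one_right hinv] at h
  have hππ : ∀ i, π (π i) = i := fun i => by
    have h := (hπ (π i)).symm.trans (hback i)
    by_contra hne
    have h' := congrFun h (π (π i))
    simp only [Pi.smul_apply, ax_self, ax_ne hne, smul_eq_mul, mul_one, mul_zero] at h'
    exact mono_coeff_ne (hπ (π i)) h'
  have hcc : ∀ i, c i * c i = 1 := fun i => mono_coeff (hπ i)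
  obtain ⟨P, hP⟩ : ∃ P, P = Finset.univ.filter fun i => π i = i ∧ c i = 1 := ⟨_, rfl⟩
  obtain ⟨N, hN⟩ : ∃ N, N = Finset.univ.filter fun i => π i = i ∧ c i ≠ 1 := ⟨_, rfl⟩
  have hPm : ∀ i, i ∈ P ↔ π i = i ∧ c i = 1 := fun i => by simp [hP]
  have hNm : ∀ i, i ∈ N ↔ π i = i ∧ c i ≠ 1 := fun i => by simp [hN]
  have hfix : ∀ i, π i = i → i ∈ P ∨ i ∈ N := fun i h => by
    by_cases hc : c i = 1
    · exact Or.inl ((hPm i).2 ⟨h, hc⟩)
    · exact Or.inr ((hNm i).2 ⟨h, hc⟩)
  have hneg : ∀ i ∈ N, c i = -1 := fun i hi =>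
    (mul_self_eq_one_iff.1 (hcc i)).resolve_left ((hNm i).1 hi).2
  have hdis : Disjoint P N := Finset.disjoint_left.2 fun i h h' => ((hNm i).1 h').2 ((hPm i).1 h).2
  refine ⟨P, N, fun i hi => ?_, fun i hi => ?_, fun i h h' => ?_, hdis, ?_, ?_⟩
  · rw [hπ, ((hPm i).1 hi).1, ((hPm i).1 hi).2, one_smul]
  · rw [hπ, ((hNm i).1 hi).1, hneg i hi, neg_one_smul]
  · have hne : π i ≠ i := fun e => (hfix i e).elim h h'
    refine ⟨π i, c i, hne, fun hj => ?_, fun hj => ?_, hcc i, hπ i, hback i⟩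
    · exact hne (((hPm _).1 hj).1.symm.trans (hππ i))
    · exact hne (((hNm _).1 hj).1.symm.trans (hππ i))
  · obtain ⟨σ, hσ⟩ : ∃ σ : Equiv.Perm (Fin 6), ∀ i, σ i = π i := ⟨Function.Involutive.toPerm π hππ, fun i => rfl⟩
    have h2d := Equiv.Perm.two_dvd_card_support (σ := σ) (by
      rw [pow_two]
      exact Equiv.ext fun i => by rw [Equiv.Perm.mul_apply, hσ, hσ, hππ]; rfl)
    have hsupp : σ.support = Finset.univ \ (P ∪ N) := by
      ext i
      rw [Equiv.Perm.mem_support, hσ, Finset.mem_sdiff, Finset.mem_union, hPm, hNm]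
      simp only [Finset.mem_univ, true_and]
      tauto
    rw [hsupp, Finset.card_univ_sdiff, Finset.card_union_of_disjoint hdis, Fintype.card_fin] at h2d
    have h6 : (P ∪ N).card ≤ 6 := (Finset.card_le_univ _).trans (by simp)
    rw [Finset.card_union_of_disjoint hdis] at h6
    omega
  · have e : ∀ i, g.1 (ax i) i = (if i ∈ P then (1 : F) else 0) - if i ∈ N then 1 else 0 := fun i => by
      rw [hπ]
      by_cases hi : π i = i
      · rw [hi, Pi.smul_apply, ax_self, smul_eq_mul, mul_one]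
        rcases hfix i hi with h | h
        · rw [if_pos h, if_neg (Finset.disjoint_left.1 hdis h), sub_zero, ((hPm i).1 h).2]
        · rw [if_pos h, if_neg (Finset.disjoint_right.1 hdis h), zero_sub, hneg i h]
      · rw [Pi.smul_apply, ax_ne (Ne.symm hi), smul_zero, if_neg fun h => hi ((hPm i).1 h).1,
          if_neg fun h => hi ((hNm i).1 h).1, sub_zero]
    rw [tr_eq_sum]
    simp only [e, Finset.sum_sub_distrib, Finset.sum_ite_mem, Finset.univ_inter, Finset.sum_const, nsmul_one]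
    push_cast
    rfl

section Group

variable {G : Type*} [Group G]

theorem conj_invol {u D : G} (hu : u * u = 1) (hD : u * D * u = D⁻¹) (j : ℕ) :
    D ^ j * u * (D ^ j)⁻¹ = D ^ (2 * j) * u := by
  have hu' : u⁻¹ = u := inv_eq_of_mul_eq_one_right hu
  have e : u * D ^ j * u = (D ^ j)⁻¹ := by
    have h := (conj_pow (a := u) (b := D) (i := j)).symm
    rw [hu', hD, inv_pow] at h
    exact h
  rw [← e, two_mul, pow_add]
  simp only [mul_assoc]
  rw [← mul_assoc u u, hu, one_mul]

/-- A dihedral group of odd degree: the two involutions are conjugate. -/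
theorem dihedral_odd {K : Subgroup G} {u v : G} (hu : u * u = 1) (hv : v * v = 1) (huK : u ∈ K) (hvK : v ∈ K)
    (ho : Odd (orderOf (u * v))) : ∃ g ∈ K, g * u * g⁻¹ = v := by
  obtain ⟨l, hl⟩ := ho
  have hD : u * (u * v) * u = (u * v)⁻¹ := by
    rw [← mul_assoc, hu, one_mul, mul_inv_rev, inv_eq_of_mul_eq_one_right hu, inv_eq_of_mul_eq_one_right hv]
  refine ⟨(u * v) ^ l, pow_mem (mul_mem huK hvK) l, ?_⟩
  rw [conj_invol hu hD]
  have h := pow_orderOf_eq_one (u * v)
  rw [hl, pow_succ] at h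
  rw [eq_inv_of_mul_eq_one_left h, mul_inv_rev, inv_eq_of_mul_eq_one_right hu, inv_eq_of_mul_eq_one_right hv,
    mul_assoc, hu, mul_one]

/-- A dihedral group of even degree has a central involution. -/
theorem dihedral_even [Finite G] {K : Subgroup G} {u v : G} (hu : u * u = 1) (hv : v * v = 1) (huK : u ∈ K)
    (hvK : v ∈ K) (he : Even (orderOf (u * v))) :
    ∃ z ∈ K, z ≠ 1 ∧ z * z = 1 ∧ z * u = u * z ∧ z * v = v * z ∧
      ∃ g ∈ K, z * u = g * u * g⁻¹ ∨ z * u = g * v * g⁻¹ := by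
  obtain ⟨D, hDdef⟩ : ∃ D, D = u * v := ⟨_, rfl⟩
  rw [← hDdef] at he
  have hDK : D ∈ K := hDdef ▸ mul_mem huK hvK
  obtain ⟨m, hm⟩ := he
  have hm0 : 0 < m := by have := orderOf_pos D; omega
  have hD : u * D * u = D⁻¹ := by
    rw [hDdef, ← mul_assoc, hu, one_mul, mul_inv_rev, inv_eq_of_mul_eq_one_right hu, inv_eq_of_mul_eq_one_right hv]
  have hzz : D ^ m * D ^ m = 1 := by rw [← pow_add, ← hm, pow_orderOf_eq_one]
  have hzu : D ^ m * u = u * D ^ m := by
    have h := (conj_pow (a := u) (b := D) (i := m)).symm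
    rw [inv_eq_of_mul_eq_one_right hu, hD, inv_pow, inv_eq_of_mul_eq_one_right hzz] at h
    calc D ^ m * u = u * (u * D ^ m * u) := by
          simp only [mul_assoc]
          rw [← mul_assoc u u, hu, one_mul]
      _ = u * D ^ m := by rw [h]
  have hv' : v = u * D := by rw [hDdef, ← mul_assoc, hu, one_mul]
  refine ⟨D ^ m, pow_mem hDK m, fun h => ?_, hzz, hzu, ?_, ?_⟩
  · have := orderOf_dvd_of_pow_eq_one h
    have := Nat.le_of_dvd hm0 this
    omega
  · rw [hv', ← mul_assoc, hzu, mul_assoc, ← pow_succ, pow_succ', ← mul_assoc]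
  · rcases Nat.even_or_odd' m with ⟨l, hl | hl⟩
    · exact ⟨D ^ l, pow_mem hDK l, Or.inl (by rw [conj_invol hu hD, hl])⟩
    · refine ⟨D ^ l * u, mul_mem (pow_mem hDK l) huK, Or.inr ?_⟩
      rw [hl, mul_inv_rev, inv_eq_of_mul_eq_one_right hu]
      have e : u * v * u = D * u := by rw [hDdef]
      calc D ^ (2 * l + 1) * u = D * (D ^ (2 * l) * u) := by rw [pow_succ', mul_assoc]
        _ = D * (D ^ l * u * (D ^ l)⁻¹) := by rw [conj_invol hu hD]
        _ = D ^ l * (D * u) * (D ^ l)⁻¹ := by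
            rw [← mul_assoc, ← mul_assoc, ← pow_succ', pow_succ, ← mul_assoc]
        _ = D ^ l * u * v * (u * (D ^ l)⁻¹) := by rw [← e]; group

end Group

instance : Finite Q6 :=
  Finite.of_injective (fun g : Q6 => (g.1 : (Fin 6 → F) → Fin 6 → F)) fun _ _ h => qAut_ext (congrFun h)

end CfsgLib.SLFour.Six
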