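/-
Six coordinates: an element commuting with an axis pair, or sending one to another, is monomial.
-/
import Cfsg.Agent.Lib.Classical22.SLFour.SixBasic

set_option autoImplicit false

namespace CfsgLib.SLFour.Six

open Cfsg CfsgLib.Classical CfsgLib.Classical22 CfsgLib.Classical22.Frame
open scoped Matrix _root_.Classical

variable {F : Type*} [Field F] [Fintype F] {H : Subgroup (qAut (sq F 6))}

theorem exists_out {A : Finset (Fin 6)} (hA : A.card < 6) : ∃ l, l ∉ A := by
  obtain ⟨l, -, hl⟩ := Finset.exists_mem_notMem_of_card_lt_card (s := A) (t := Finset.univ) (by simpa using hA)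
  exact ⟨l, hl⟩

theorem Ctx.pr_mem (C : Ctx H) {a b : Fin 6} (h : a ≠ b) : pr F a b ∈ H :=
  C.base.sgn_mem _ (by rw [Finset.card_pair h]; exact ⟨1, rfl⟩)

/-- A three-cycle of axes. -/
noncomputable abbrev cy (h2 : (2 : F) ≠ 0) {a b c : Fin 6} (hab : a ≠ b) (hbc : b ≠ c) : qAut (sq F 6) :=
  swp h2 hab * swp h2 hbc

section Cy

variable {h2 : (2 : F) ≠ 0} {a b c : Fin 6} (hab : a ≠ b) (hbc : b ≠ c) (hac : a ≠ c)

omit [Fintype F] in
theorem cy_first : (cy h2 hab hbc).1 (ax a : Fin 6 → F) = ax b ∨ a = c := by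
  by_cases h : a = c
  · exact Or.inr h
  · exact Or.inl (by rw [qAut_mul_apply, swp_other _ _ (Ne.symm hab) (Ne.symm h), swp_left])

include hac

omit [Fintype F] in
theorem cy_a : (cy h2 hab hbc).1 (ax a : Fin 6 → F) = ax b := (cy_first hab hbc).resolve_right hac

omit [Fintype F] in
theorem cy_b : (cy h2 hab hbc).1 (ax b : Fin 6 → F) = ax c := by
  rw [qAut_mul_apply, swp_left, swp_other _ _ hac hbc]

omit [Fintype F] in
theorem cy_c : (cy h2 hab hbc).1 (ax c : Fin 6 → F) = ax a := by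
  rw [qAut_mul_apply, swp_right, swp_right]

omit [Fintype F] in
theorem cy_o {i : Fin 6} (ha : i ≠ a) (hb : i ≠ b) (hc : i ≠ c) :
    (cy h2 hab hbc).1 (ax i : Fin 6 → F) = ax i := by
  rw [qAut_mul_apply, swp_other _ _ (Ne.symm hb) (Ne.symm hc), swp_other _ _ (Ne.symm ha) (Ne.symm hb)]

omit [Fintype F] in
theorem cy_mono : Mono (cy h2 hab hbc) := fun i => by
  by_cases ha : i = a
  · subst ha; exact ⟨b, 1, by rw [cy_a hab hbc hac, one_smul]⟩
  by_cases hb : i = b
  · subst hb; exact ⟨c, 1, by rw [cy_b hab hbc hac, one_smul]⟩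
  by_cases hc : i = c
  · subst hc; exact ⟨a, 1, by rw [cy_c hab hbc hac, one_smul]⟩
  exact ⟨i, 1, by rw [cy_o hab hbc hac ha hb hc, one_smul]⟩

end Cy

omit [Fintype F] in
theorem pr_mono (a b : Fin 6) : Mono (pr F a b) := fun i => by
  rw [sgn_ax]
  split_ifs
  · exact ⟨i, -1, by rw [neg_one_smul]⟩
  · exact ⟨i, 1, by rw [one_smul]⟩

/-- An axis can be moved to another one, some axes being kept. -/
theorem Ctx.exists_move (C : Ctx H) (i j : Fin 6) (A : Finset (Fin 6)) (hA : A.card ≤ 3) (hi : i ∉ A)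
    (hj : j ∉ A) : ∃ m ∈ H, Mono m ∧ m.1 (ax i : Fin 6 → F) = ax j ∧ ∀ l ∈ A, m.1 (ax l : Fin 6 → F) = ax l := by
  by_cases hij : i = j
  · exact ⟨1, H.one_mem, (monoGroup F 6).one_mem, by rw [hij]; rfl, fun l _ => rfl⟩
  obtain ⟨k, hk⟩ := exists_out (A := insert i (insert j A))
    (lt_of_le_of_lt ((Finset.card_insert_le _ _).trans (Nat.succ_le_succ ((Finset.card_insert_le _ _).trans
      (Nat.succ_le_succ hA)))) (by norm_num))
  simp only [Finset.mem_insert, not_or] at hk
  obtain ⟨hki, hkj, hkA⟩ := hk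
  refine ⟨cy C.two hij (Ne.symm hkj), C.base.cyc i j k hij (Ne.symm hkj) (Ne.symm hki),
    cy_mono hij (Ne.symm hkj) (Ne.symm hki), cy_a hij (Ne.symm hkj) (Ne.symm hki), fun l hl => ?_⟩
  exact cy_o hij (Ne.symm hkj) (Ne.symm hki) (fun e => hi (e ▸ hl)) (fun e => hj (e ▸ hl)) (fun e => hkA (e ▸ hl))

omit [Fintype F] in
theorem col_ne {g : qAut (sq F 6)} {i j k : Fin 6} {σ τ : F} (hij : i ≠ j) (hi : g.1 (ax i) = σ • ax k)
    (hj : g.1 (ax j) = τ • ax k) : False := by
  have h1 := mono_inv_apply hi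
  rw [mono_inv_apply hj] at h1
  have := congrFun h1 i
  simp only [Pi.smul_apply, ax_self, ax_ne hij, smul_eq_mul, mul_zero, mul_one] at this
  exact mono_coeff_ne hi this.symm

/-- A column on one axis makes the element monomial. -/
theorem Ctx.mono_of_col (C : Ctx H) {g : qAut (sq F 6)} (hg : g ∈ H) {i j : Fin 6} {s : F}
    (h : g.1 (ax i) = s • ax j) : Mono g := by
  obtain ⟨m, hm, hmm, hmj, -⟩ := C.exists_move j i ∅ (by simp) (by simp) (by simp)
  obtain ⟨q, hq, hqm, hqi⟩ : ∃ q ∈ H, Mono q ∧ q.1 (s • ax i : Fin 6 → F) = ax i := by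
    rcases mul_self_eq_one_iff.1 (mono_coeff h) with rfl | rfl
    · exact ⟨1, H.one_mem, (monoGroup F 6).one_mem, by rw [one_smul]; rfl⟩
    obtain ⟨l, hl⟩ := exists_out (A := {i}) (by simp)
    rw [Finset.mem_singleton] at hl
    exact ⟨_, C.pr_mem (Ne.symm hl), pr_mono _ _, by
      rw [map_smul, sgn_ax, if_pos (by simp), neg_one_smul, neg_neg]⟩
  have hfix : (q * m * g).1 (ax i) = ax i := by
    rw [qAut_mul_apply, qAut_mul_apply, h, map_smul, hmj, hqi]
  have hmg := C.stab _ (H.mul_mem (H.mul_mem hq hm) hg) i hfix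
  have := (monoGroup F 6).mul_mem ((monoGroup F 6).inv_mem ((monoGroup F 6).mul_mem (mem_monoGroup.2 hqm)
    (mem_monoGroup.2 hmm))) (mem_monoGroup.2 hmg)
  rwa [inv_mul_cancel_left] at this

/-- A column with a unique non-zero entry. -/
theorem Ctx.mono_of_supp (C : Ctx H) {g : qAut (sq F 6)} (hg : g ∈ H) {i j : Fin 6}
    (h : ∀ l, l ≠ j → g.1 (ax i) l = 0) : Mono g := by
  refine C.mono_of_col hg (i := i) (j := j) (s := g.1 (ax i) j) (funext fun l => ?_)
  by_cases hl : l = j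
  · subst hl; rw [Pi.smul_apply, ax_self, smul_eq_mul, mul_one]
  · rw [h l hl, Pi.smul_apply, ax_ne hl, smul_zero]

/-- A monomial conjugate of an element fixing a column permutes the columns. -/
theorem Ctx.col_image (C : Ctx H) {g : qAut (sq F 6)} (hg : g ∈ H) {m : qAut (sq F 6)} (hm : m ∈ H) {i : Fin 6}
    (hfix : m.1 (g.1 (ax i)) = g.1 (ax i)) (j : Fin 6) :
    ∃ k, ∃ σ : F, σ * σ = 1 ∧ m.1 (g.1 (ax j)) = σ • g.1 (ax k) := by
  have hmono := C.stab (g⁻¹ * m * g) (H.mul_mem (H.mul_mem (H.inv_mem hg) hm) hg) i (by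
    rw [qAut_mul_apply, qAut_mul_apply, hfix, qInv_apply_self])
  obtain ⟨k, σ, hk⟩ := hmono j
  refine ⟨k, σ, mono_coeff hk, ?_⟩
  have h := congrArg g.1 hk
  rwa [qAut_mul_apply, qAut_mul_apply, qApply_inv_self, map_smul] at h

omit [Fintype F] in
theorem pow_eigen {g : qAut (sq F 6)} {X : Fin 6 → F} {ζ : F} (h : g.1 X = ζ • X) : ∀ n : ℕ,
    (g ^ n).1 X = ζ ^ n • X
  | 0 => by rw [pow_zero, pow_zero, one_smul]; rfl
  | n + 1 => by rw [pow_succ, qAut_mul_apply, h, map_smul, pow_eigen h n, smul_smul, ← pow_succ']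

omit [Fintype F] in
/-- A column of a monomial isometry in the plane of two axes has a zero entry. -/
theorem mono_entry {g : qAut (sq F 6)} (hm : Mono g) {a b : Fin 6} (hab : a ≠ b) {x y : F}
    (h : g.1 (ax a) = x • ax a + y • ax b) : x = 0 ∨ y = 0 := by
  by_contra hcon
  push Not at hcon
  exact hab (mono_col hm (i := a) (j := a) (l := b)
    (by rw [h]; simpa [ax_self, ax_ne hab] using hcon.1)
    (by rw [h]; simpa [ax_self, ax_ne (Ne.symm hab)] using hcon.2))

/-- An element commuting with an axis pair is monomial. -/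
theorem Ctx.mono_of_comm (C : Ctx H) {h : qAut (sq F 6)} (hh : h ∈ H) {a b : Fin 6} (hab : a ≠ b)
    (hc : h * pr F a b = pr F a b * h) : Mono h := by
  have h2 := C.two
  by_contra hnm
  have hcol : ∀ x, ∀ i, (x = a ∨ x = b → i ≠ a → i ≠ b → h.1 (ax x) i = 0) ∧
      (x ≠ a → x ≠ b → i = a ∨ i = b → h.1 (ax x) i = 0) := fun x i => by
    have e : (pr F a b).1 (h.1 (ax x)) i = h.1 ((pr F a b).1 (ax x)) i := by
      rw [← qAut_mul_apply, ← qAut_mul_apply, hc]
    constructor
    · intro hx hia hib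
      rw [sgn_apply, if_neg (by simp [hia, hib]), sgn_ax, if_pos (by simpa using hx), map_neg, Pi.neg_apply] at e
      exact (mul_eq_zero.1 (show (2 : F) * h.1 (ax x) i = 0 by linear_combination e)).resolve_left h2
    · intro hxa hxb hi
      rw [sgn_apply, if_pos (by simpa using hi), sgn_ax, if_neg (by simp [hxa, hxb])] at e
      exact (mul_eq_zero.1 (show (2 : F) * h.1 (ax x) i = 0 by linear_combination -e)).resolve_left h2
  -- the first column
  obtain ⟨v, hv⟩ : ∃ v, v = h.1 (ax a) := ⟨_, rfl⟩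
  have hv0 : ∀ i, i ≠ a → i ≠ b → v i = 0 := fun i h1 h1' => hv ▸ (hcol a i).1 (Or.inl rfl) h1 h1'
  have hva : v a ≠ 0 := fun e => hnm (C.mono_of_supp hh (i := a) (j := b) fun l hl => by
    rw [← hv]
    by_cases hla : l = a
    · subst hla; exact e
    · exact hv0 l hla hl)
  have hvb : v b ≠ 0 := fun e => hnm (C.mono_of_supp hh (i := a) (j := a) fun l hl => by
    rw [← hv]
    by_cases hlb : l = b
    · subst hlb; exact e
    · exact hv0 l hl hlb)
  have hvd : ∀ x : Fin 6 → F, v ⬝ᵥ x = v a * x a + v b * x b := fun x => by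
    rw [dot_eq_sum (T := {a, b}) (supp_subset fun i hi => by
      simp only [Finset.mem_insert, Finset.mem_singleton, not_or] at hi
      exact hv0 i hi.1 hi.2), Finset.sum_pair hab]
  have hvv : v a * v a + v b * v b = 1 := by rw [← hvd, hv, col_unit h2]
  -- the other columns have four non-zero entries
  have hfull : ∀ x l, x ≠ a → x ≠ b → l ≠ a → l ≠ b → h.1 (ax x) l ≠ 0 := fun x l hxa hxb hla hlb e => by
    have hy : ∀ i, i = a ∨ i = b ∨ i = l → h.1 (ax x) i = 0 := fun i hi => by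
      rcases hi with rfl | rfl | rfl
      · exact (hcol x _).2 hxa hxb (Or.inl rfl)
      · exact (hcol x _).2 hxa hxb (Or.inr rfl)
      · exact e
    have hmH := C.base.cyc a b l hab (Ne.symm hlb) (Ne.symm hla)
    have hfix : (cy h2 hab (Ne.symm hlb)).1 (h.1 (ax x)) = h.1 (ax x) := by
      rw [qAut_mul_apply, show (swp h2 (Ne.symm hlb)).1 (h.1 (ax x)) = h.1 (ax x) by
          rw [swp_apply, hy b (Or.inr (Or.inl rfl)), hy l (Or.inr (Or.inr rfl)), sub_zero, zero_smul, sub_zero],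
        swp_apply, hy a (Or.inl rfl), hy b (Or.inr (Or.inl rfl)), sub_zero, zero_smul, sub_zero]
    obtain ⟨k, σ, hσ, hk⟩ := C.col_image hh hmH hfix a
    rw [← hv] at hk
    have himg : (cy h2 hab (Ne.symm hlb)).1 v = v a • ax b + v b • ax l := by
      have ev : v = v a • ax a + v b • ax b := funext fun i => by
        by_cases hia : i = a
        · subst hia; simp [ax_self, ax_ne hab]
        by_cases hib : i = b
        · subst hib; simp [ax_self, ax_ne hia]
        simp [ax_ne hia, ax_ne hib, hv0 i hia hib]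
      conv_lhs => rw [ev, map_add, map_smul, map_smul, cy_a hab (Ne.symm hlb) (Ne.symm hla),
        cy_b hab (Ne.symm hlb) (Ne.symm hla)]
    rw [himg] at hk
    by_cases hka : k = a
    · subst hka
      have hl' := congrFun hk l
      rw [← hv] at hl'
      simp only [Pi.add_apply, Pi.smul_apply, ax_self, ax_ne hlb, smul_eq_mul, mul_zero, zero_add, mul_one,
        hv0 l hla hlb] at hl'
      exact hvb hl'
    · have hd := congrArg (fun z => v ⬝ᵥ z) hk
      simp only [dotProduct_smul, smul_eq_mul] at hd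
      rw [dotProduct_add, dotProduct_smul, dotProduct_smul, dot_ax, dot_ax, hv0 l hla hlb, hv,
        col_orth h2 h (Ne.symm hka), ← hv, smul_eq_mul, smul_eq_mul, mul_zero, mul_zero, add_zero] at hd
      exact mul_ne_zero hva hvb hd
  -- three of them
  obtain ⟨c, hc'⟩ := exists_out (A := {a, b}) (lt_of_le_of_lt Finset.card_le_two (by norm_num))
  obtain ⟨d, hd'⟩ := exists_out (A := {a, b, c}) (lt_of_le_of_lt Finset.card_le_three (by norm_num))
  obtain ⟨e, he'⟩ := exists_out (A := {a, b, c, d})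
    (lt_of_le_of_lt Finset.card_le_four (by norm_num))
  simp only [Finset.mem_insert, Finset.mem_singleton, not_or] at hc' hd' he'
  obtain ⟨hca, hcb⟩ := hc'
  obtain ⟨hda, hdb, hdc⟩ := hd'
  obtain ⟨hea, heb, hec, hed⟩ := he'
  have hW : ∀ i, i ≠ a → i ≠ b → ∀ x y z, x ≠ y → x ≠ z → y ≠ z → x ≠ a → x ≠ b → y ≠ a → y ≠ b → z ≠ a → z ≠ b →
      h.1 (ax x) i * h.1 (ax x) i + h.1 (ax y) i * h.1 (ax y) i = 1 / 2 := by
    intro i hia hib x y z hxy hxz hyz hxa hxb hya hyb hza hzb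
    obtain ⟨K, hK⟩ : ∃ K, K = h * pr F x y * h⁻¹ := ⟨_, rfl⟩
    have hKa : K.1 (ax a) = ax a := by
      rw [hK, conj_pr h2 h hxy, ax_dot, ax_dot, (hcol x a).2 hxa hxb (Or.inl rfl),
        (hcol y a).2 hya hyb (Or.inl rfl)]
      simp
    have hKm := C.stab K (hK ▸ H.mul_mem (H.mul_mem hh (C.pr_mem hxy)) (H.inv_mem hh)) a hKa
    obtain ⟨j, δ, hj⟩ := hKm i
    have hdiag : K.1 (ax i) i = 1 - 2 * (h.1 (ax x) i * h.1 (ax x) i + h.1 (ax y) i * h.1 (ax y) i) := by
      rw [hK, conj_pr h2 h hxy, ax_dot, ax_dot]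
      simp only [Pi.sub_apply, Pi.smul_apply, ax_self, smul_eq_mul]
      ring
    by_cases hji : i = j
    · subst hji
      exfalso
      have ex : K.1 (h.1 (ax x)) = -h.1 (ax x) := hK ▸ conj_pr_left h2 h hxy
      have ez : K.1 (h.1 (ax z)) = h.1 (ax z) := hK ▸ conj_pr_other h2 h (Ne.symm hxz) (Ne.symm hyz)
      have e1 := iso_dot h2 K (ax i) (h.1 (ax x))
      have e3 := iso_dot h2 K (ax i) (h.1 (ax z))
      rw [hj, ex, smul_dotProduct, dotProduct_neg, ax_dot, smul_eq_mul] at e1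
      rw [hj, ez, smul_dotProduct, ax_dot, smul_eq_mul] at e3
      have k1 : δ = -1 := mul_right_cancel₀ (hfull x i hxa hxb hia hib) (by linear_combination -e1)
      have k3 : δ = 1 := mul_right_cancel₀ (hfull z i hza hzb hia hib) (by linear_combination e3)
      exact h2 (by linear_combination k1 - k3)
    · rw [hj, Pi.smul_apply, ax_ne hji, smul_zero] at hdiag
      rw [eq_div_iff h2]
      linear_combination hdiag
  obtain ⟨y, hy⟩ : ∃ y, y = h.1 (ax c) := ⟨_, rfl⟩
  have hy4 : ∀ i, i ≠ a → i ≠ b → 4 * (y i * y i) = 1 := fun i hia hib => by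
    have e1 := hW i hia hib c d e (Ne.symm hdc) (Ne.symm hec) (Ne.symm hed) hca hcb hda hdb hea heb
    have e2 := hW i hia hib c e d (Ne.symm hec) (Ne.symm hdc) hed hca hcb hea heb hda hdb
    have e3 := hW i hia hib d e c (Ne.symm hed) hdc hec hda hdb hea heb hca hcb
    rw [eq_div_iff h2] at e1 e2 e3
    rw [hy]
    linear_combination e1 + e2 - e3
  have hy0 : ∀ i, i = a ∨ i = b → y i = 0 := fun i hi => hy ▸ (hcol c i).2 hca hcb hi
  have hyy : y ⬝ᵥ y = 1 := hy ▸ col_unit h2 h c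
  -- the reflection pair
  obtain ⟨k, hk⟩ : ∃ k, k = h * pr F a c * h⁻¹ := ⟨_, rfl⟩
  have hkH : k ∈ H := hk ▸ H.mul_mem (H.mul_mem hh (C.pr_mem (Ne.symm hca))) (H.inv_mem hh)
  have hkx : ∀ x, k.1 x = x - (2 * (x ⬝ᵥ v)) • v - (2 * (x ⬝ᵥ y)) • y := fun x => by
    rw [hk, hv, hy]; exact conj_pr h2 h (Ne.symm hca) x
  have hkW : ∀ i, i ≠ a → i ≠ b → k.1 (ax i) = ax i - (2 * y i) • y := fun i hia hib => by
    rw [hkx, ax_dot, ax_dot, hv0 i hia hib, mul_zero, zero_smul, sub_zero]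
  have hky : k.1 y = -y := by rw [hk, hy, pr_comm]; exact conj_pr_left h2 h hca
  obtain ⟨p, hp⟩ : ∃ p, p = 1 - 2 * v a * v a := ⟨_, rfl⟩
  obtain ⟨q, hq⟩ : ∃ q, q = -2 * v a * v b := ⟨_, rfl⟩
  have hka : k.1 (ax a) = p • ax a + q • ax b := by
    rw [hkx, ax_dot, ax_dot, hy0 a (Or.inl rfl), mul_zero, zero_smul, sub_zero]
    funext i
    simp only [Pi.sub_apply, Pi.add_apply, Pi.smul_apply, smul_eq_mul]
    by_cases hia : i = a
    · subst hia; rw [ax_self, ax_ne hab, hp]; ring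
    by_cases hib : i = b
    · subst hib; rw [ax_self, ax_ne hia, hq]; ring
    rw [ax_ne hia, ax_ne hib, hv0 i hia hib]; ring
  have hkb : k.1 (ax b) = q • ax a + (-p) • ax b := by
    rw [hkx, ax_dot, ax_dot, hy0 b (Or.inr rfl), mul_zero, zero_smul, sub_zero]
    funext i
    simp only [Pi.sub_apply, Pi.add_apply, Pi.smul_apply, smul_eq_mul]
    by_cases hia : i = a
    · subst hia; rw [ax_self, ax_ne hab, hq]; ring
    by_cases hib : i = b
    · subst hib; rw [ax_self, ax_ne hia, hp]; linear_combination (-2 : F) * hvv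
    rw [ax_ne hia, ax_ne hib, hv0 i hia hib]; ring
  -- the first product
  have hrot3 : ((-p) ^ 3 - 3 * (-p) * q ^ 2) = 0 ∨ (3 * (-p) ^ 2 * q - q ^ 3) = 0 := by
    obtain ⟨g, hg⟩ : ∃ g, g = pr F a c * k := ⟨_, rfl⟩
    have hga : g.1 (ax a) = (-p) • ax a + q • ax b := by
      rw [hg, qAut_mul_apply, hka, map_add, map_smul, map_smul, sgn_ax, sgn_ax, if_pos (by simp),
        if_neg (by simp [Ne.symm hab, Ne.symm hcb])]
      module
    have hgb : g.1 (ax b) = (-q) • ax a + (-p) • ax b := by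
      rw [hg, qAut_mul_apply, hkb, map_add, map_smul, map_smul, sgn_ax, sgn_ax, if_pos (by simp),
        if_neg (by simp [Ne.symm hab, Ne.symm hcb])]
      module
    have hg1 : g.1 (ax c) = (-2 * y c) • y := by
      rw [hg, qAut_mul_apply, hkW c hca hcb, map_sub, map_smul, sgn_ax, if_pos (by simp), pr_apply (Ne.symm hca),
        hy0 a (Or.inl rfl), mul_zero, zero_smul, sub_zero]
      match_scalars
      · linear_combination hy4 c hca hcb
      · ring
    have hg2 : g.1 y = (2 * y c) • ax c - y := by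
      rw [hg, qAut_mul_apply, hky, map_neg, pr_apply (Ne.symm hca), hy0 a (Or.inl rfl), mul_zero, zero_smul,
        sub_zero, neg_sub]
    have hfix : (g ^ 3).1 (ax c) = ax c := by
      rw [pow_succ, pow_two, qAut_mul_apply, qAut_mul_apply, hg1, map_smul, hg2, map_smul, map_sub, map_smul, hg1,
        hg2]
      match_scalars
      · linear_combination (2 * y c) * hy4 c hca hcb
      · linear_combination hy4 c hca hcb
    have hm := C.stab _ (H.pow_mem (hg ▸ H.mul_mem (C.pr_mem (Ne.symm hca)) hkH) 3) c hfix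
    refine mono_entry hm hab ?_
    simp only [pow_succ, pow_zero, one_mul, qAut_mul_apply, map_add, map_smul, hga, hgb]
    module
  -- the second product
  have hrot2 : (q * q - p * p) = 0 ∨ (2 * p * q) = 0 := by
    obtain ⟨x₁, x₂, hx12, h1a, h1b, h2a, h2b, hxy⟩ : ∃ x₁ x₂, x₁ ≠ x₂ ∧ x₁ ≠ a ∧ x₁ ≠ b ∧ x₂ ≠ a ∧ x₂ ≠ b ∧
        y x₁ = y x₂ := by
      have hpm : ∀ i, i ≠ a → i ≠ b → y i = y c ∨ y i = -y c := fun i hia hib =>
        mul_self_eq_mul_self_iff.1 (mul_left_cancel₀ (show (4 : F) ≠ 0 from fun h4 =>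
          mul_ne_zero h2 h2 (by linear_combination h4)) ((hy4 i hia hib).trans (hy4 c hca hcb).symm))
      rcases hpm d hda hdb with e1 | e1
      · exact ⟨d, c, hdc, hda, hdb, hca, hcb, e1⟩
      rcases hpm e hea heb with e2 | e2
      · exact ⟨e, c, hec, hea, heb, hca, hcb, e2⟩
      exact ⟨e, d, hed, hea, heb, hda, hdb, e2.trans e1.symm⟩
    obtain ⟨n, hn⟩ : ∃ n, n = swp h2 hab * swp h2 hx12 := ⟨_, rfl⟩
    have hnH : n ∈ H := by
      have e : n = cy h2 hab (Ne.symm h1b) * cy h2 (Ne.symm h1b) hx12 := by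
        rw [hn, cy, cy, mul_assoc, ← mul_assoc (swp h2 (Ne.symm h1b)) (swp h2 (Ne.symm h1b))]
        rw [show swp h2 (Ne.symm h1b) * swp h2 (Ne.symm h1b) = 1 from qRefl_mul_self _ _, one_mul]
      rw [e]
      exact H.mul_mem (C.base.cyc _ _ _ hab (Ne.symm h1b) (Ne.symm h1a))
        (C.base.cyc _ _ _ (Ne.symm h1b) hx12 (Ne.symm h2b))
    have hna : n.1 (ax a) = ax b := by
      rw [hn, qAut_mul_apply, swp_other _ _ h1a h2a, swp_left]
    have hnb : n.1 (ax b) = ax a := by
      rw [hn, qAut_mul_apply, swp_other _ _ h1b h2b, swp_right]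
    have hn1 : n.1 (ax x₁) = ax x₂ := by
      rw [hn, qAut_mul_apply, swp_left, swp_other _ _ (Ne.symm h2a) (Ne.symm h2b)]
    have hny : n.1 y = y := by
      rw [hn, qAut_mul_apply, show (swp h2 hx12).1 y = y by rw [swp_apply, hxy, sub_self, zero_smul, sub_zero],
        swp_apply, hy0 a (Or.inl rfl), hy0 b (Or.inr rfl), sub_zero, zero_smul, sub_zero]
    obtain ⟨g, hg⟩ : ∃ g, g = n * k := ⟨_, rfl⟩
    have hga : g.1 (ax a) = q • ax a + p • ax b := by
      rw [hg, qAut_mul_apply, hka, map_add, map_smul, map_smul, hna, hnb]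
      abel
    have hgb : g.1 (ax b) = (-p) • ax a + q • ax b := by
      rw [hg, qAut_mul_apply, hkb, map_add, map_smul, map_smul, hna, hnb]
      abel
    have hg1 : g.1 (ax x₁) = ax x₂ - (2 * y x₁) • y := by
      rw [hg, qAut_mul_apply, hkW x₁ h1a h1b, map_sub, map_smul, hny, hn1]
    have hn2 : n.1 (ax x₂) = ax x₁ := by
      rw [hn, qAut_mul_apply, swp_right, swp_other _ _ (Ne.symm h1a) (Ne.symm h1b)]
    have hfix : (g ^ 2).1 (ax x₁) = ax x₁ := by
      rw [pow_two, qAut_mul_apply, hg1, hg, qAut_mul_apply, map_sub, map_smul, hky, hkW x₂ h2a h2b, map_sub,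
        map_sub, map_smul, map_smul, map_neg, hny, hn2, hxy]
      module
    have hm := C.stab _ (H.pow_mem (hg ▸ H.mul_mem hnH hkH) 2) x₁ hfix
    refine mono_entry hm hab ?_
    rw [pow_two, qAut_mul_apply, hga, map_add, map_smul, map_smul, hga, hgb]
    module
  have hpq : p = 0 ∨ q = 0 := by
    rcases hrot2 with e | e
    · by_contra hcon
      push Not at hcon
      have e' : q ^ 2 = p ^ 2 := by linear_combination e
      rcases hrot3 with e3 | e3
      · exact mul_ne_zero h2 (pow_ne_zero 3 hcon.1) (by linear_combination e3 - 3 * p * e')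
      · exact mul_ne_zero h2 (pow_ne_zero 3 hcon.2) (by linear_combination e3 + 3 * q * e')
    · exact (mul_eq_zero.1 e).imp (fun e => (mul_eq_zero.1 e).resolve_left h2) id
  have hkm : Mono k := by
    rcases hpq with e | e
    · exact C.mono_of_col hkH (i := a) (j := b) (s := q) (by rw [hka, e, zero_smul, zero_add])
    · exact C.mono_of_col hkH (i := a) (j := a) (s := p) (by rw [hka, e, zero_smul, add_zero])
  have hne : ∀ i, i ≠ a → i ≠ b → y i ≠ 0 := fun i hia hib => hy ▸ hfull c i hca hcb hia hib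
  have hval : ∀ i, i ≠ a → i ≠ b → i ≠ c → k.1 (ax c) i ≠ 0 := fun i hia hib hic => by
    rw [hkW c hca hcb, Pi.sub_apply, ax_ne hic, zero_sub, Pi.smul_apply, neg_ne_zero]
    exact mul_ne_zero (mul_ne_zero h2 (hne c hca hcb)) (hne i hia hib)
  exact hed (mono_col hkm (hval e hea heb hec) (hval d hda hdb hdc))

/-- An element sending an axis pair to an axis pair is monomial. -/
theorem Ctx.mono_of_conj_pr (C : Ctx H) {g : qAut (sq F 6)} (hg : g ∈ H) {a b c d : Fin 6} (hab : a ≠ b)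
    (hcd : c ≠ d) (h : g * pr F a b * g⁻¹ = pr F c d) : Mono g := by
  obtain ⟨m, hm, hmm, hmc, -⟩ := C.exists_move c a ∅ (by simp) (by simp) (by simp)
  obtain ⟨d₁, σ, hd₁⟩ := hmm d
  have hd1 : d₁ ≠ a := fun e => col_ne hcd (σ := 1) (by rw [hmc, one_smul]) (e ▸ hd₁)
  obtain ⟨m', hm', hmm', hmd, hma⟩ := C.exists_move d₁ b {a} (by simp) (by simpa using hd1) (by simpa using Ne.symm hab)
  have hma' : (m' * m).1 (ax c) = (1 : F) • ax a := by
    rw [qAut_mul_apply, hmc, hma a (by simp), one_smul]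
  have hmd' : (m' * m).1 (ax d) = σ • ax b := by rw [qAut_mul_apply, hd₁, map_smul, hmd]
  have e := conj_pr_axes C.two (m' * m) hcd hab hma' hmd'
  have hMH : m' * m ∈ H := H.mul_mem hm' hm
  have hcomm : (m' * m * g) * pr F a b = pr F a b * (m' * m * g) := by
    calc (m' * m * g) * pr F a b = (m' * m) * (g * pr F a b * g⁻¹) * (m' * m)⁻¹ * (m' * m * g) := by group
      _ = _ := by rw [h, e]
  have := (monoGroup F 6).mul_mem ((monoGroup F 6).inv_mem ((monoGroup F 6).mul_mem (mem_monoGroup.2 hmm')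
    (mem_monoGroup.2 hmm))) (mem_monoGroup.2 (C.mono_of_comm (H.mul_mem hMH hg) hab hcomm))
  rwa [inv_mul_cancel_left] at this

end CfsgLib.SLFour.Six
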