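/-
Six coordinates: a monomial conjugate of an axis pair comes from a monomial element.
-/
import Cfsg.Agent.Lib.Classical22.SLFour.SixPair

set_option autoImplicit false

namespace CfsgLib.SLFour.Six

open Cfsg CfsgLib.Classical CfsgLib.Classical22 CfsgLib.Classical22.Frame
open scoped Matrix _root_.Classical

variable {F : Type*} [Field F] [Fintype F] {H : Subgroup (qAut (sq F 6))}

omit [Fintype F] in
/-- The entries of an eigenvector of a monomial involution along a fixed axis. -/
theorem coord_eigen (h2 : (2 : F) ≠ 0) {w : qAut (sq F 6)} (hw : w * w = 1) (x : Fin 6 → F) {i j : Fin 6} {σ : F}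
    (h : w.1 (ax i) = σ • ax j) : w.1 x i = σ * x j := by
  rw [← dot_ax i (w.1 x), dot_inv h2, inv_eq_of_mul_eq_one_right hw, h, dotProduct_smul, dot_ax, smul_eq_mul]

/-- A monomial element fixing a column moves a second column to a column. -/
theorem Ctx.image_col (C : Ctx H) {g m : qAut (sq F 6)} (hg : g ∈ H) (hm : m ∈ H) {a b : Fin 6} (hab : a ≠ b)
    (hcomm : m * (g * pr F a b * g⁻¹) = g * pr F a b * g⁻¹ * m) (x : Fin 6) :
    ∃ y, ∃ σ : F, σ * σ = 1 ∧ m.1 (g.1 (ax x)) = σ • g.1 (ax y) := by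
  have hmono := C.mono_of_comm (H.mul_mem (H.mul_mem (H.inv_mem hg) hm) hg) hab (h := g⁻¹ * m * g) (by
    have h := congrArg (fun u => g⁻¹ * u * g) hcomm
    simpa [mul_assoc] using h)
  obtain ⟨y, σ, hy⟩ := hmono x
  refine ⟨y, σ, mono_coeff hy, ?_⟩
  have h := congrArg g.1 hy
  rwa [qAut_mul_apply, qAut_mul_apply, qApply_inv_self, map_smul] at h

/-- The case with a negated axis. -/
theorem Ctx.case_neg (C : Ctx H) {g : qAut (sq F 6)} (hg : g ∈ H) {a b c : Fin 6} (hab : a ≠ b)
    {w : qAut (sq F 6)} (hw : g * pr F a b * g⁻¹ = w) (hw2 : w * w = 1) (hc : w.1 (ax c) = -ax c) {K : Finset (Fin 6)}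
    (hK : 3 ≤ K.card) (hfix : ∀ k ∈ K, w.1 (ax k) = ax k) : Mono g := by
  have h2 := C.two
  by_contra hnm
  obtain ⟨v, hv⟩ : ∃ v, v = g.1 (ax a) := ⟨_, rfl⟩
  obtain ⟨v', hv'⟩ : ∃ v', v' = g.1 (ax b) := ⟨_, rfl⟩
  have hwv : w.1 v = -v := by rw [← hw, hv]; exact conj_pr_left h2 g hab
  have hwv' : w.1 v' = -v' := by rw [← hw, hv', pr_comm]; exact conj_pr_left h2 g (Ne.symm hab)
  have hz : ∀ k ∈ K, ∀ x, w.1 x = -x → x k = 0 := fun k hk x hx => by
    have h := coord_eigen h2 hw2 x (σ := 1) (j := k) (by rw [one_smul]; exact hfix k hk)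
    rw [hx, Pi.neg_apply, one_mul] at h
    exact (mul_eq_zero.1 (show (2 : F) * x k = 0 by linear_combination -h)).resolve_left h2
  -- the negated axis lies in the first two columns
  have hgc : ∀ x, x ≠ a → x ≠ b → g.1 (ax x) c = 0 := fun x hxa hxb => by
    have h := coord_eigen h2 hw2 (g.1 (ax x)) (σ := -1) (j := c) (by rw [neg_one_smul]; exact hc)
    rw [← hw, conj_pr_other h2 g hxa hxb] at h
    exact (mul_eq_zero.1 (show (2 : F) * g.1 (ax x) c = 0 by linear_combination h)).resolve_left h2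
  have hck : ∀ k ∈ K, c ≠ k := fun k hk e => by
    subst e
    have := congrFun ((hfix c hk).symm.trans hc) c
    rw [Pi.neg_apply, ax_self] at this
    exact h2 (by linear_combination this)
  obtain ⟨r, hr⟩ : ∃ r : Fin 6 → Fin 6 → F, ∀ k, r k = (g⁻¹).1 (ax k) := ⟨_, fun _ => rfl⟩
  have hrk : ∀ k x, g.1 (ax x) k = r k x := fun k x => by rw [hr, apply_ax_eq h2]
  have hsupp : ∀ k ∈ K, ∀ x l, r k x ≠ 0 → r k l ≠ 0 → ∀ m, r k m ≠ 0 → x = l ∨ x = m ∨ l = m := by
    intro k hk x l hx hl m hm
    by_contra hcon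
    push Not at hcon
    obtain ⟨hxl, hxm, hlm⟩ := hcon
    have hx' : x ≠ a ∧ x ≠ b := ⟨fun e => hx (by rw [e, ← hrk, ← hv]; exact hz k hk v hwv),
      fun e => hx (by rw [e, ← hrk, ← hv']; exact hz k hk v' hwv')⟩
    have hmono := C.mono_of_comm (H.mul_mem (H.mul_mem (H.inv_mem hg) (C.pr_mem (hck k hk))) hg) hab
      (h := g⁻¹ * pr F c k * g) (by
        have hcomm : pr F c k * w = w * pr F c k :=
          (comm_pr_axes h2 w (hck k hk) (σ := -1) (τ := 1) (by rw [neg_one_smul]; exact hc)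
            (by rw [one_smul]; exact hfix k hk)).symm
        rw [← hw] at hcomm
        have h := congrArg (fun u => g⁻¹ * u * g) hcomm
        simpa [mul_assoc] using h)
    have hval : ∀ i, i ≠ x → r k i ≠ 0 → (g⁻¹ * pr F c k * g).1 (ax x) i ≠ 0 := fun i hix hi => by
      rw [qAut_mul_apply, qAut_mul_apply, pr_apply (hck k hk), hgc x hx'.1 hx'.2, mul_zero, zero_smul, sub_zero,
        map_sub, map_smul, qInv_apply_self, ← hr, hrk, Pi.sub_apply, ax_ne hix, zero_sub, Pi.smul_apply,
        neg_ne_zero]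
      exact mul_ne_zero (mul_ne_zero h2 hx) hi
    exact hlm (mono_col hmono (hval l (Ne.symm hxl) hl) (hval m (Ne.symm hxm) hm))
  have hru : ∀ k, r k ⬝ᵥ r k = 1 := fun k => by rw [hr]; exact col_unit h2 _ k
  have hro : ∀ k l, k ≠ l → r k ⬝ᵥ r l = 0 := fun k l h => by rw [hr, hr]; exact col_orth h2 _ h
  -- exactly two entries
  have htwo : ∀ k ∈ K, (supp (r k)).card = 2 := fun k hk => by
    refine le_antisymm ?_ ?_
    · by_contra hlt
      obtain ⟨x, hx, l, hl, m, hm, hxl, hxm, hlm⟩ := Finset.two_lt_card.1 (not_le.1 hlt)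
      rcases hsupp k hk x l (mem_supp.1 hx) (mem_supp.1 hl) m (mem_supp.1 hm) with e | e | e
      · exact hxl e
      · exact hxm e
      · exact hlm e
    · by_contra hlt
      obtain ⟨x, hx⟩ : ∃ x, ∀ l, l ≠ x → r k l = 0 := by
        rcases (supp (r k)).eq_empty_or_nonempty with e | ⟨x, hx⟩
        · exact ⟨0, fun l _ => notMem_supp.1 (by rw [e]; simp)⟩
        · exact ⟨x, fun l hl => notMem_supp.1 fun hl' =>
            hl (Finset.card_le_one.1 (by omega) l hl' x hx)⟩
      refine hnm (inv_inv g ▸ (monoGroup F 6).inv_mem (mem_monoGroup.2 ?_))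
      exact C.mono_of_supp (H.inv_mem hg) (i := k) (j := x) fun l hl => by rw [← hr]; exact hx l hl
  -- overlapping supports are equal
  have hover : ∀ k ∈ K, ∀ l ∈ K, k ≠ l → supp (r k) ≠ supp (r l) → Disjoint (supp (r k)) (supp (r l)) := by
    intro k hk l hl hkl hne
    rw [Finset.disjoint_left]
    intro x hx hx'
    have h := hro k l hkl
    rw [dot_eq_sum (T := supp (r k)) subset_rfl, Finset.sum_eq_single x (fun y hy hyx => by
      by_contra hne0
      refine hne ?_
      have hy' : y ∈ supp (r l) := mem_supp.2 (right_ne_zero_of_mul hne0)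
      have e1 : ({x, y} : Finset (Fin 6)) = supp (r k) := Finset.eq_of_subset_of_card_le
        (by simp [Finset.insert_subset_iff, hx, hy]) (by rw [htwo k hk, Finset.card_pair (Ne.symm hyx)])
      have e2 : ({x, y} : Finset (Fin 6)) = supp (r l) := Finset.eq_of_subset_of_card_le
        (by simp [Finset.insert_subset_iff, hx', hy']) (by rw [htwo l hl, Finset.card_pair (Ne.symm hyx)])
      rw [← e1, e2]) (fun h' => absurd hx h')] at h
    exact mul_ne_zero (mem_supp.1 hx) (mem_supp.1 hx') h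
  obtain ⟨d, hd, e, he, hde, heq⟩ : ∃ d ∈ K, ∃ e ∈ K, d ≠ e ∧ supp (r d) = supp (r e) := by
    by_contra hcon
    push Not at hcon
    have hsub : K.biUnion (fun k => supp (r k)) ⊆ (Finset.univ.erase a).erase b := fun x hx => by
      obtain ⟨k, hk, hxk⟩ := Finset.mem_biUnion.1 hx
      simp only [Finset.mem_erase, Finset.mem_univ, and_true]
      exact ⟨fun e => mem_supp.1 hxk (by rw [e, ← hrk, ← hv']; exact hz k hk v' hwv'),
        fun e => mem_supp.1 hxk (by rw [e, ← hrk, ← hv]; exact hz k hk v hwv)⟩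
    have h := Finset.card_le_card hsub
    rw [Finset.card_biUnion fun k hk l hl hkl => hover k hk l hl hkl (hcon k hk l hl hkl),
      Finset.sum_congr rfl htwo, Finset.sum_const, smul_eq_mul,
      Finset.card_erase_of_mem (by simp [Ne.symm hab]), Finset.card_erase_of_mem (Finset.mem_univ a),
      Finset.card_univ, Fintype.card_fin] at h
    omega
  obtain ⟨x, y, hxy, hs⟩ := Finset.card_eq_two.1 (htwo d hd)
  have hs' : supp (r e) = {x, y} := heq ▸ hs
  have hz' : ∀ k, supp (r k) = {x, y} → ∀ i, i ≠ x → i ≠ y → r k i = 0 := fun k hk i h1 h1' =>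
    eq_zero_of_supp hk.le (by simp [h1, h1'])
  have E1 := hru d
  have E2 := hru e
  have E3 := hro d e hde
  rw [dot_eq_sum hs.le, Finset.sum_pair hxy] at E1 E3
  rw [dot_eq_sum hs'.le, Finset.sum_pair hxy] at E2
  obtain ⟨D, hD⟩ : ∃ D, D = r d x * r e y - r e x * r d y := ⟨_, rfl⟩
  have hDD : D * D = 1 := by
    rw [hD]
    linear_combination (r e x * r e x + r e y * r e y) * E1 + E2 - (r d x * r e x + r d y * r e y) * E3
  have hey : r e y = D * r d x := by
    rw [hD]
    linear_combination (-r e y) * E1 + r d y * E3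
  have hex : r e x = -D * r d y := by
    rw [hD]
    linear_combination (-r e x) * E1 + r d x * E3
  refine hnm (C.mono_of_conj_pr hg hxy hde ?_)
  have key : g⁻¹ * pr F d e * g⁻¹⁻¹ = pr F x y := qAut_ext_ax fun i => by
    rw [conj_pr h2 (g⁻¹) hde, ← hr, ← hr, ax_dot, ax_dot, sgn_ax]
    funext j
    simp only [Pi.sub_apply, Pi.smul_apply, smul_eq_mul]
    by_cases hix : i = x
    · subst hix
      rw [if_pos (by simp), Pi.neg_apply]
      by_cases hjx : j = i
      · subst hjx
        rw [ax_self, hex]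
        linear_combination (-2 * (r d y * r d y)) * hDD - 2 * E1
      rw [ax_ne hjx]
      by_cases hjy : j = y
      · subst hjy
        rw [hex, hey]
        linear_combination (2 * r d i * r d j) * hDD
      · rw [hz' d hs j hjx hjy, hz' e hs' j hjx hjy]; ring
    by_cases hiy : i = y
    · subst hiy
      rw [if_pos (by simp), Pi.neg_apply]
      by_cases hjy : j = i
      · subst hjy
        rw [ax_self, hey]
        linear_combination (-2 * (r d x * r d x)) * hDD - 2 * E1
      rw [ax_ne hjy]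
      by_cases hjx : j = x
      · subst hjx
        rw [hex, hey]
        linear_combination (2 * r d j * r d i) * hDD
      · rw [hz' d hs j hjx hjy, hz' e hs' j hjx hjy]; ring
    rw [if_neg (by simp [hix, hiy]), hz' d hs i hix hiy, hz' e hs' i hix hiy]
    ring
  rw [← key]
  group

end CfsgLib.SLFour.Six
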