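/-
Six coordinates: the conjugate of an axis pair cannot exchange two pairs of axes.
-/
import Cfsg.Agent.Lib.Classical22.SLFour.SixClass

set_option autoImplicit false

namespace CfsgLib.SLFour.Six

open Cfsg CfsgLib.Classical CfsgLib.Classical22 CfsgLib.Classical22.Frame
open scoped Matrix _root_.Classical

variable {F : Type*} [Field F] [Fintype F] {H : Subgroup (qAut (sq F 6))}

/-- The coordinates involved. -/
structure Four (b c d e : Fin 6) : Prop where
  bc : b ≠ c
  bd : b ≠ d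
  be : b ≠ e
  cd : c ≠ d
  ce : c ≠ e
  de : d ≠ e

/-- The two fixed coordinates. -/
structure Rest (p q b c d e : Fin 6) : Prop where
  pq : p ≠ q
  pb : p ≠ b
  pc : p ≠ c
  pd : p ≠ d
  pe : p ≠ e
  qb : q ≠ b
  qc : q ≠ c
  qd : q ≠ d
  qe : q ≠ e
  cover : ∀ i, i = p ∨ i = q ∨ i = b ∨ i = c ∨ i = d ∨ i = e

omit [Fintype F] in
/-- Four coordinates determine a vector. -/
theorem vec_four {p q b c d e : Fin 6} (h : Rest p q b c d e) {x : Fin 6 → F} (hp : x p = 0) (hq : x q = 0)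
    (hb : x b = 0) (hc : x c = 0) (hd : x d = 0) (he : x e = 0) : x = 0 := funext fun i => by
  rcases h.cover i with rfl | rfl | rfl | rfl | rfl | rfl <;> assumption

/-- No first column sits on a single exchanged pair. -/
theorem Ctx.not_one_pair (C : Ctx H) {g : qAut (sq F 6)} (hg : g ∈ H) {a₀ b₀ p q b c d e : Fin 6} (hab : a₀ ≠ b₀)
    (h4 : Four b c d e) (hr : Rest p q b c d e) {w : qAut (sq F 6)} (hw : g * pr F a₀ b₀ * g⁻¹ = w) (hw2 : w * w = 1)
    (hp : w.1 (ax p) = ax p) (hq : w.1 (ax q) = ax q) (hb : w.1 (ax b) = ax c) (hc : w.1 (ax c) = ax b)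
    (hd : w.1 (ax d) = ax e) (he : w.1 (ax e) = ax d) (h0 : g.1 (ax a₀) d = 0) : False := by
  have h2 := C.two
  have hneg : ∀ x, w.1 x = -x → x p = 0 ∧ x q = 0 ∧ x c = -x b ∧ x e = -x d := fun x hx => by
    have k : ∀ {i j}, w.1 (ax i) = ax j → -x i = x j := fun {i j} h => by
      have h' := coord_eigen h2 hw2 x (σ := 1) (j := j) (by rw [one_smul]; exact h)
      rwa [hx, one_mul] at h'
    exact ⟨(mul_eq_zero.1 (show (2 : F) * x p = 0 by linear_combination -k hp)).resolve_left h2,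
      (mul_eq_zero.1 (show (2 : F) * x q = 0 by linear_combination -k hq)).resolve_left h2, (k hb).symm, (k hd).symm⟩
  obtain ⟨vp, vq, vc, ve⟩ := hneg _ (by rw [← hw]; exact conj_pr_left h2 g hab)
  obtain ⟨up, uq, uc, ue⟩ := hneg (g.1 (ax b₀)) (by rw [← hw, pr_comm]; exact conj_pr_left h2 g (Ne.symm hab))
  obtain ⟨v, hv⟩ : ∃ v, v = g.1 (ax a₀) := ⟨_, rfl⟩
  obtain ⟨u, hu⟩ : ∃ u, u = g.1 (ax b₀) := ⟨_, rfl⟩
  rw [← hv] at vp vq vc ve h0
  rw [← hu] at up uq uc ue
  have hve : v e = 0 := by rw [ve, h0, neg_zero]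
  have hsub : ∀ x : Fin 6 → F, v ⬝ᵥ x = v b * (x b - x c) := fun x => by
    rw [dot_eq_sum (T := {b, c}) (supp_subset fun i hi => by
      simp only [Finset.mem_insert, Finset.mem_singleton, not_or] at hi
      rcases hr.cover i with rfl | rfl | rfl | rfl | rfl | rfl
      · exact vp
      · exact vq
      · exact absurd rfl hi.1
      · exact absurd rfl hi.2
      · exact h0
      · exact hve), Finset.sum_pair h4.bc, vc]
    ring
  have hvb : v b ≠ 0 := fun e' => by
    have := col_unit h2 g a₀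
    rw [← hv, hsub, e', zero_mul] at this
    exact zero_ne_one this
  have hub : u b = 0 := by
    have := col_orth h2 g hab
    rw [← hv, ← hu, hsub, uc] at this
    exact (mul_eq_zero.1 (show (2 * v b) * u b = 0 by linear_combination this)).resolve_left (mul_ne_zero h2 hvb)
  have hud : u d ≠ 0 := fun e' => by
    have := col_unit h2 g b₀
    rw [← hu, vec_four hr up uq hub (by rw [uc, hub, neg_zero]) e' (by rw [ue, e', neg_zero]),
      zero_dotProduct] at this
    exact zero_ne_one this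
  -- a three-cycle fixing the first column
  have hmH := C.base.cyc p d e hr.pd h4.de hr.pe
  have hcyc : ∀ x, (cy h2 hr.pd h4.de).1 x = x + (x e - x p) • ax p + (x p - x d) • ax d + (x d - x e) • ax e := by
    intro x
    rw [qAut_mul_apply, swp_apply, swp_apply]
    simp only [Pi.sub_apply, Pi.smul_apply, ax_self, ax_ne hr.pd, ax_ne (Ne.symm h4.de), ax_ne hr.pe,
      ax_ne (Ne.symm hr.pd), ax_ne (Ne.symm hr.pe), ax_ne h4.de, smul_eq_mul]
    module
  obtain ⟨k, σ, hσ, hk⟩ := C.col_image hg hmH (i := a₀) (by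
    rw [← hv, hcyc, vp, h0, hve]; simp) b₀
  rw [← hu] at hk
  have himg : ∀ i, (cy h2 hr.pd h4.de).1 u i =
      u i + (u e - u p) * (ax p : Fin 6 → F) i + (u p - u d) * (ax d : Fin 6 → F) i +
        (u d - u e) * (ax e : Fin 6 → F) i := fun i => by
    rw [hcyc]; rfl
  by_cases hkb : k = b₀
  · subst hkb
    have := congrFun hk p
    rw [himg, ← hu, Pi.smul_apply, ax_self, ax_ne hr.pd, ax_ne hr.pe, up, ue, smul_zero] at this
    exact hud (by linear_combination -this)
  · have := congrArg (fun z => u ⬝ᵥ z) hk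
    rw [dotProduct_smul, hu, col_orth h2 g (Ne.symm hkb), smul_zero, ← hu] at this
    rw [show u ⬝ᵥ (cy h2 hr.pd h4.de).1 u = u d * (cy h2 hr.pd h4.de).1 u d + u e * (cy h2 hr.pd h4.de).1 u e by
      rw [dot_eq_sum (T := {d, e}) (supp_subset fun i hi => by
        simp only [Finset.mem_insert, Finset.mem_singleton, not_or] at hi
        rcases hr.cover i with rfl | rfl | rfl | rfl | rfl | rfl
        · exact up
        · exact uq
        · exact hub
        · rw [uc, hub, neg_zero]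
        · exact absurd rfl hi.1
        · exact absurd rfl hi.2), Finset.sum_pair h4.de]] at this
    rw [himg, himg, ax_self, ax_self, ax_ne (Ne.symm hr.pd), ax_ne h4.de, ax_ne (Ne.symm hr.pe),
      ax_ne (Ne.symm h4.de), up, ue] at this
    exact mul_ne_zero hud hud (by linear_combination -this)

/-- The case of two exchanged pairs. -/
theorem Ctx.case_swaps (C : Ctx H) {g : qAut (sq F 6)} (hg : g ∈ H) {a₀ b₀ p q b c d e : Fin 6} (hab : a₀ ≠ b₀)
    (h4 : Four b c d e) (hr : Rest p q b c d e) {w : qAut (sq F 6)} (hw : g * pr F a₀ b₀ * g⁻¹ = w) (hw2 : w * w = 1)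
    (hp : w.1 (ax p) = ax p) (hq : w.1 (ax q) = ax q) (hb : w.1 (ax b) = ax c) (hc : w.1 (ax c) = ax b)
    (hd : w.1 (ax d) = ax e) (he : w.1 (ax e) = ax d) : Mono g := by
  have h2 := C.two
  have hneg : ∀ x, w.1 x = -x → x p = 0 ∧ x q = 0 ∧ x c = -x b ∧ x e = -x d := fun x hx => by
    have k : ∀ {i j}, w.1 (ax i) = ax j → -x i = x j := fun {i j} h => by
      have h' := coord_eigen h2 hw2 x (σ := 1) (j := j) (by rw [one_smul]; exact h)
      rwa [hx, one_mul] at h'
    exact ⟨(mul_eq_zero.1 (show (2 : F) * x p = 0 by linear_combination -k hp)).resolve_left h2,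
      (mul_eq_zero.1 (show (2 : F) * x q = 0 by linear_combination -k hq)).resolve_left h2, (k hb).symm, (k hd).symm⟩
  have hr' : Rest p q d e b c :=
    ⟨hr.pq, hr.pd, hr.pe, hr.pb, hr.pc, hr.qd, hr.qe, hr.qb, hr.qc, fun i => by
      rcases hr.cover i with h | h | h | h | h | h <;> simp [h]⟩
  have h4' : Four d e b c := ⟨h4.de, Ne.symm h4.bd, Ne.symm h4.cd, Ne.symm h4.be, Ne.symm h4.ce, h4.bc⟩
  have hcomm : pr F b c * w = w * pr F b c :=
    (comm_pr_swap h2 w h4.bc (σ := 1) (τ := 1) (by rw [one_smul]; exact hb) (by rw [one_smul]; exact hc)).symm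
  rw [← hw] at hcomm
  have hprH := C.pr_mem (F := F) (H := H) h4.bc
  have hpr : ∀ x : Fin 6 → F, (pr F b c).1 x = x - (2 * x b) • ax b - (2 * x c) • ax c := pr_apply h4.bc
  -- orient the first two columns
  obtain ⟨a, a', haa, hw', hor⟩ : ∃ a a', a ≠ a' ∧ g * pr F a a' * g⁻¹ = w ∧
      g.1 (ax a) d = g.1 (ax a) b ∧ g.1 (ax a) b ≠ 0 := by
    obtain ⟨vp, vq, vc, ve⟩ := hneg _ (by rw [← hw]; exact conj_pr_left h2 g hab)
    have hvb : g.1 (ax a₀) b ≠ 0 := fun e' => C.not_one_pair hg hab h4' hr' hw hw2 hp hq hd he hb hc e'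
    have hvd : g.1 (ax a₀) d ≠ 0 := fun e' => C.not_one_pair hg hab h4 hr hw hw2 hp hq hb hc hd he e'
    obtain ⟨k, σ, hσ, hk⟩ := C.image_col hg hprH hab hcomm a₀
    have kb := congrFun hk b
    have kd := congrFun hk d
    rw [hpr] at kb kd
    simp only [Pi.sub_apply, Pi.smul_apply, smul_eq_mul, ax_self, ax_ne h4.bc, ax_ne (Ne.symm h4.bd),
      ax_ne (Ne.symm h4.cd)] at kb kd
    by_cases hka : k = a₀
    · subst hka
      exfalso
      have k1 : σ = -1 := mul_right_cancel₀ hvb (by linear_combination -kb)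
      rw [k1] at kd
      exact mul_ne_zero h2 hvd (by linear_combination kd)
    have hkb : k = b₀ := by
      by_contra hkb
      have h1 := coord_eigen h2 hw2 (g.1 (ax k)) (σ := 1) (j := c) (by rw [one_smul]; exact hb)
      rw [← hw, conj_pr_other h2 g hka hkb, one_mul] at h1
      have kc := congrFun hk c
      rw [hpr] at kc
      simp only [Pi.sub_apply, Pi.smul_apply, smul_eq_mul, ax_self, ax_ne (Ne.symm h4.bc), vc] at kc
      exact mul_ne_zero h2 hvb (by linear_combination -kb + kc - σ * h1)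
    subst hkb
    have horth := col_orth h2 g hab
    rw [show g.1 (ax k) = σ • (pr F b c).1 (g.1 (ax a₀)) by rw [hk, smul_smul, hσ, one_smul]] at horth
    have hdot : g.1 (ax a₀) ⬝ᵥ (pr F b c).1 (g.1 (ax a₀)) = 1 - 4 * (g.1 (ax a₀) b * g.1 (ax a₀) b) := by
      rw [hpr, dotProduct_sub, dotProduct_sub, dotProduct_smul, dotProduct_smul, dot_ax, dot_ax, col_unit h2, vc,
        smul_eq_mul, smul_eq_mul]
      ring
    rw [dotProduct_smul, hdot, smul_eq_mul] at horth
    have hb4 : 4 * (g.1 (ax a₀) b * g.1 (ax a₀) b) = 1 := by linear_combination (-σ) * horth + (1 - 4 * (g.1 (ax a₀) b * g.1 (ax a₀) b)) * hσ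
    have hd4 : 4 * (g.1 (ax a₀) d * g.1 (ax a₀) d) = 1 := by
      have := col_unit h2 g a₀
      rw [dot_eq_sum (T := {b, c, d, e}) (supp_subset fun i hi => by
          simp only [Finset.mem_insert, Finset.mem_singleton, not_or] at hi
          rcases hr.cover i with rfl | rfl | rfl | rfl | rfl | rfl
          · exact vp
          · exact vq
          · exact absurd rfl hi.1
          · exact absurd rfl hi.2.1
          · exact absurd rfl hi.2.2.1
          · exact absurd rfl hi.2.2.2),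
        Finset.sum_insert (by simp [h4.bc, h4.bd, h4.be]), Finset.sum_insert (by simp [h4.cd, h4.ce]),
        Finset.sum_pair h4.de, vc, ve] at this
      linear_combination 2 * this - hb4
    rcases mul_self_eq_mul_self_iff.1 (mul_left_cancel₀ (show (4 : F) ≠ 0 from fun h => mul_ne_zero h2 h2
      (by linear_combination h)) (hd4.trans hb4.symm)) with e1 | e1
    · exact ⟨a₀, k, hab, hw, e1, hvb⟩
    refine ⟨k, a₀, Ne.symm hab, by rw [pr_comm]; exact hw, ?_⟩
    have kb' : g.1 (ax k) b = -σ * g.1 (ax a₀) b := by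
      linear_combination σ * kb.symm - g.1 (ax k) b * hσ
    have kd' : g.1 (ax k) d = σ * g.1 (ax a₀) d := by
      linear_combination σ * kd.symm - g.1 (ax k) d * hσ
    refine ⟨by rw [kb', kd', e1]; ring, ?_⟩
    rw [kb']
    exact mul_ne_zero (neg_ne_zero.2 fun e' => by rw [e', mul_zero] at hσ; exact zero_ne_one hσ) hvb
  obtain ⟨hd', hvb⟩ := hor
  obtain ⟨v, hv⟩ : ∃ v, v = g.1 (ax a) := ⟨_, rfl⟩
  obtain ⟨u, hu⟩ : ∃ u, u = g.1 (ax a') := ⟨_, rfl⟩
  obtain ⟨vp, vq, vc, ve⟩ := hneg v (by rw [← hw', hv]; exact conj_pr_left h2 g haa)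
  obtain ⟨up, uq, uc, ue⟩ := hneg u (by rw [← hw', hu, pr_comm]; exact conj_pr_left h2 g (Ne.symm haa))
  rw [← hv] at hd' hvb
  rw [hd'] at ve
  have hfour : ∀ {x : Fin 6 → F}, x p = 0 → x q = 0 → ∀ y : Fin 6 → F,
      x ⬝ᵥ y = x b * y b + x c * y c + x d * y d + x e * y e := fun {x} xp xq y => by
    rw [dot_eq_sum (T := {b, c, d, e}) (supp_subset fun i hi => by
        simp only [Finset.mem_insert, Finset.mem_singleton, not_or] at hi
        rcases hr.cover i with rfl | rfl | rfl | rfl | rfl | rfl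
        · exact xp
        · exact xq
        · exact absurd rfl hi.1
        · exact absurd rfl hi.2.1
        · exact absurd rfl hi.2.2.1
        · exact absurd rfl hi.2.2.2),
      Finset.sum_insert (by simp [h4.bc, h4.bd, h4.be]), Finset.sum_insert (by simp [h4.cd, h4.ce]),
      Finset.sum_pair h4.de]
    ring
  have hud : u d = -u b := by
    have := col_orth h2 g haa
    rw [← hv, ← hu, hfour vp vq, vc, hd', ve, uc, ue] at this
    exact eq_neg_of_add_eq_zero_left ((mul_eq_zero.1 (show (2 * v b) * (u d + u b) = 0 by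
      linear_combination this)).resolve_left (mul_ne_zero h2 hvb))
  have hub : u b ≠ 0 := fun e' => by
    have := col_unit h2 g a'
    rw [← hu, hfour up uq, uc, ue, hud, e'] at this
    simp at this
  -- the element exchanging the two pairs
  obtain ⟨m, hm⟩ : ∃ m, m = swp h2 h4.bd * swp h2 hr.pq := ⟨_, rfl⟩
  have hmH : m ∈ H := by
    have e' : m = cy h2 h4.bd (Ne.symm hr.pd) * cy h2 (Ne.symm hr.pd) hr.pq := by
      rw [hm, cy, cy, mul_assoc, ← mul_assoc (swp h2 (Ne.symm hr.pd)) (swp h2 (Ne.symm hr.pd)),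
        show swp h2 (Ne.symm hr.pd) * swp h2 (Ne.symm hr.pd) = 1 from qRefl_mul_self _ _, one_mul]
    rw [e']
    exact H.mul_mem (C.base.cyc _ _ _ h4.bd (Ne.symm hr.pd) (Ne.symm hr.pb))
      (C.base.cyc _ _ _ (Ne.symm hr.pd) hr.pq (Ne.symm hr.qd))
  have hmx : ∀ x : Fin 6 → F, x p = 0 → x q = 0 → m.1 x = x - (x b - x d) • (ax b - ax d) := fun x xp xq => by
    rw [hm, qAut_mul_apply, show (swp h2 hr.pq).1 x = x by rw [swp_apply, xp, xq, sub_self, zero_smul, sub_zero],
      swp_apply]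
  obtain ⟨x, σ, hσ, hx⟩ := C.col_image hg hmH (i := a) (by
    rw [← hv, hmx v vp vq, hd', sub_self, zero_smul, sub_zero]) a'
  rw [← hu] at hx
  obtain ⟨y, hy⟩ : ∃ y, y = m.1 u := ⟨_, rfl⟩
  rw [← hy] at hx
  have ybd : y b = -u b ∧ y d = u b ∧ y c = -u b ∧ y e = u b ∧ y p = 0 ∧ y q = 0 := by
    rw [hy, hmx u up uq, hud]
    refine ⟨?_, ?_, ?_, ?_, ?_, ?_⟩ <;>
      simp only [Pi.sub_apply, Pi.smul_apply, ax_self, ax_ne h4.bd, ax_ne (Ne.symm h4.bd), ax_ne (Ne.symm h4.bc),
        ax_ne h4.cd, ax_ne (Ne.symm h4.be), ax_ne (Ne.symm h4.de), ax_ne hr.pb, ax_ne hr.pd, ax_ne hr.qb,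
        ax_ne hr.qd, smul_eq_mul, up, uq, uc, ue, hud] <;> ring
  obtain ⟨yb, yd, yc, ye, yp, yq⟩ := ybd
  have hyv : v ⬝ᵥ y = 0 := by rw [hfour vp vq, vc, hd', ve, yb, yc, yd, ye]; ring
  have hyu : u ⬝ᵥ y = 0 := by rw [hfour up uq, uc, ue, hud, yb, yc, yd, ye]; ring
  have hσ0 : σ ≠ 0 := fun e' => by rw [e', mul_zero] at hσ; exact zero_ne_one hσ
  have hxne : x ≠ a ∧ x ≠ a' := by
    constructor <;> rintro rfl
    · rw [hx, ← hv, dotProduct_smul, hv, col_unit h2, smul_eq_mul, mul_one] at hyv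
      exact hσ0 hyv
    · rw [hx, ← hu, dotProduct_smul, hu, col_unit h2, smul_eq_mul, mul_one] at hyu
      exact hσ0 hyu
  rw [hw, ← hw'] at hcomm
  obtain ⟨z, τ, hτ, hz⟩ := C.image_col hg hprH haa hcomm x
  obtain ⟨y', hy'⟩ : ∃ y', y' = (pr F b c).1 y := ⟨_, rfl⟩
  have hy'e : y' b = u b ∧ y' c = u b ∧ y' d = u b ∧ y' e = u b ∧ y' p = 0 ∧ y' q = 0 := by
    rw [hy', hpr]
    refine ⟨?_, ?_, ?_, ?_, ?_, ?_⟩ <;>
      simp only [Pi.sub_apply, Pi.smul_apply, ax_self, ax_ne h4.bc, ax_ne (Ne.symm h4.bc), ax_ne (Ne.symm h4.bd),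
        ax_ne (Ne.symm h4.cd), ax_ne (Ne.symm h4.be), ax_ne (Ne.symm h4.ce), ax_ne hr.pb, ax_ne hr.pc, ax_ne hr.qb,
        ax_ne hr.qc, smul_eq_mul, yb, yc, yd, ye, yp, yq] <;> ring
  obtain ⟨b', c', d', e', p', q'⟩ := hy'e
  have hzy : y' = (σ * τ) • g.1 (ax z) := by rw [hy', hx, map_smul, hz, smul_smul]
  have hzne : z ≠ a ∧ z ≠ a' ∧ z ≠ x := by
    have hvy : v ⬝ᵥ y' = 0 := by rw [hfour vp vq, vc, hd', ve, b', c', d', e']; ring
    have huy : u ⬝ᵥ y' = 0 := by rw [hfour up uq, uc, ue, hud, b', c', d', e']; ring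
    have hyy : y ⬝ᵥ y' = 0 := by rw [hfour yp yq, yb, yc, yd, ye, b', c', d', e']; ring
    have hne : σ * τ ≠ 0 := mul_ne_zero hσ0 fun e'' => by rw [e'', mul_zero] at hτ; exact zero_ne_one hτ
    refine ⟨?_, ?_, ?_⟩ <;> rintro rfl
    · rw [hzy, ← hv, dotProduct_smul, hv, col_unit h2, smul_eq_mul, mul_one] at hvy
      exact hne hvy
    · rw [hzy, ← hu, dotProduct_smul, hu, col_unit h2, smul_eq_mul, mul_one] at huy
      exact hne huy
    · rw [hzy, hx, smul_dotProduct, dotProduct_smul, col_unit h2, smul_eq_mul, smul_eq_mul, mul_one] at hyy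
      exact mul_ne_zero hσ0 hne hyy
  -- the other two columns lie on the two fixed axes
  obtain ⟨k, hk⟩ := exists_out (A := {a, a', x, z}) (lt_of_le_of_lt Finset.card_le_four (by norm_num))
  obtain ⟨l, hl⟩ := exists_out (A := {a, a', x, z, k}) (lt_of_le_of_lt Finset.card_le_five (by norm_num))
  simp only [Finset.mem_insert, Finset.mem_singleton, not_or] at hk hl
  obtain ⟨hka, hka', hkx, hkz⟩ := hk
  obtain ⟨hla, hla', hlx, hlz, hlk⟩ := hl
  have hout : ∀ j, j ≠ a → j ≠ a' → j ≠ x → j ≠ z → ∀ i, i ≠ p → i ≠ q → g.1 (ax j) i = 0 := by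
    intro j ja ja' jx jz i hip hiq
    obtain ⟨G, hG⟩ : ∃ G, G = g.1 (ax j) := ⟨_, rfl⟩
    rw [← hG]
    have o1 : v ⬝ᵥ G = 0 := by rw [hv, hG]; exact col_orth h2 g (Ne.symm ja)
    have o2 : u ⬝ᵥ G = 0 := by rw [hu, hG]; exact col_orth h2 g (Ne.symm ja')
    have o3 : y ⬝ᵥ G = 0 := by rw [hx, hG, smul_dotProduct, col_orth h2 g (Ne.symm jx), smul_zero]
    have o4 : y' ⬝ᵥ G = 0 := by rw [hzy, hG, smul_dotProduct, col_orth h2 g (Ne.symm jz), smul_zero]
    rw [hfour vp vq, vc, hd', ve] at o1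
    rw [hfour up uq, uc, ue, hud] at o2
    rw [hfour yp yq, yb, yc, yd, ye] at o3
    rw [hfour p' q', b', c', d', e'] at o4
    have n1 : G b - G c + G d - G e = 0 :=
      (mul_eq_zero.1 (show v b * (G b - G c + G d - G e) = 0 by linear_combination o1)).resolve_left hvb
    have n2 : G b - G c - G d + G e = 0 :=
      (mul_eq_zero.1 (show u b * (G b - G c - G d + G e) = 0 by linear_combination o2)).resolve_left hub
    have n3 : -G b - G c + G d + G e = 0 :=
      (mul_eq_zero.1 (show u b * (-G b - G c + G d + G e) = 0 by linear_combination o3)).resolve_left hub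
    have n4 : G b + G c + G d + G e = 0 :=
      (mul_eq_zero.1 (show u b * (G b + G c + G d + G e) = 0 by linear_combination o4)).resolve_left hub
    have hfour0 : (4 : F) ≠ 0 := fun h => mul_ne_zero h2 h2 (by linear_combination h)
    rcases hr.cover i with rfl | rfl | rfl | rfl | rfl | rfl
    · exact absurd rfl hip
    · exact absurd rfl hiq
    all_goals refine (mul_eq_zero.1 ?_).resolve_left hfour0
    · linear_combination n1 + n2 - n3 + n4
    · linear_combination -n1 - n2 - n3 + n4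
    · linear_combination n1 - n2 + n3 + n4
    · linear_combination -n1 + n2 + n3 + n4
  refine C.mono_of_conj_pr hg (Ne.symm hlk) hr.pq ?_
  have hcol : ∀ j, (g * pr F k l * g⁻¹).1 (g.1 (ax j)) = (pr F p q).1 (g.1 (ax j)) := fun j => by
    by_cases hjk : j = k
    · subst hjk
      rw [conj_pr_left h2 g (Ne.symm hlk), pr_neg (hout _ hka hka' hkx hkz)]
    by_cases hjl : j = l
    · subst hjl
      rw [pr_comm k j, conj_pr_left h2 g hlk, pr_neg (hout _ hla hla' hlx hlz)]
    rw [conj_pr_other h2 g hjk hjl]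
    have hj : j = a ∨ j = a' ∨ j = x ∨ j = z := by
      by_contra hcon
      push Not at hcon
      have hcard : ({a, a', x, z, k, l, j} : Finset (Fin 6)).card = 7 := by
        simp [haa, Ne.symm hxne.1, Ne.symm hxne.2, Ne.symm hzne.1, Ne.symm hzne.2.1, Ne.symm hzne.2.2, Ne.symm hka,
          Ne.symm hka', Ne.symm hkx, Ne.symm hkz, Ne.symm hla, Ne.symm hla', Ne.symm hlx, Ne.symm hlz, Ne.symm hlk,
          Ne.symm hcon.1, Ne.symm hcon.2.1, Ne.symm hcon.2.2.1, Ne.symm hcon.2.2.2, Ne.symm hjk, Ne.symm hjl]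
      have := Finset.card_le_univ ({a, a', x, z, k, l, j} : Finset (Fin 6))
      rw [hcard, Fintype.card_fin] at this
      omega
    symm
    rcases hj with rfl | rfl | rfl | rfl
    · exact pr_fix (hv ▸ vp) (hv ▸ vq)
    · exact pr_fix (hu ▸ up) (hu ▸ uq)
    · refine pr_fix ?_ ?_
      · have := congrFun hx p; rw [yp, Pi.smul_apply, smul_eq_mul] at this
        exact (mul_eq_zero.1 this.symm).resolve_left hσ0
      · have := congrFun hx q; rw [yq, Pi.smul_apply, smul_eq_mul] at this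
        exact (mul_eq_zero.1 this.symm).resolve_left hσ0
    · have hne : σ * τ ≠ 0 := mul_ne_zero hσ0 fun e'' => by rw [e'', mul_zero] at hτ; exact zero_ne_one hτ
      refine pr_fix ?_ ?_
      · have := congrFun hzy p; rw [p', Pi.smul_apply, smul_eq_mul] at this
        exact (mul_eq_zero.1 this.symm).resolve_left hne
      · have := congrFun hzy q; rw [q', Pi.smul_apply, smul_eq_mul] at this
        exact (mul_eq_zero.1 this.symm).resolve_left hne
  have h : g * pr F k l * g⁻¹ * g = pr F p q * g := qAut_ext_ax fun j => by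
    have e1 := hcol j
    rw [qAut_mul_apply, e1, qAut_mul_apply]
  exact mul_right_cancel h

end CfsgLib.SLFour.Six
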