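/-
Six coordinates: an overgroup of the even monomial isometries with monomial axis stabilisers is monomial.
-/
import Cfsg.Agent.Lib.Classical22.SLFour.SixSwaps

set_option autoImplicit false

namespace CfsgLib.SLFour.Six

open Cfsg CfsgLib.Classical CfsgLib.Classical22 CfsgLib.Classical22.Frame
open scoped Matrix _root_.Classical

variable {F : Type*} [Field F] [Fintype F] {H : Subgroup (qAut (sq F 6))}

omit [Fintype F] in
theorem sgn_mul (A B : Finset (Fin 6)) : sgn F A * sgn F B = sgn F (symmDiff A B) :=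
  qAut_ext fun x => funext fun i => by
    rw [qAut_mul_apply, sgn_apply, sgn_apply, sgn_apply]
    by_cases h1 : i ∈ A <;> by_cases h2 : i ∈ B <;> simp [h1, h2, Finset.mem_symmDiff]

omit [Fintype F] in
theorem sgn_univ_apply (x : Fin 6 → F) : (sgn F Finset.univ).1 x = -x := funext fun i => by
  rw [sgn_apply]
  simp

omit [Fintype F] in
theorem tr_neg (g : qAut (sq F 6)) : tr (sgn F Finset.univ * g) = -tr g := by
  rw [tr_eq_sum, tr_eq_sum, ← Finset.sum_neg_distrib]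
  exact Finset.sum_congr rfl fun i _ => by rw [qAut_mul_apply, sgn_univ_apply, Pi.neg_apply]

omit [Fintype F] in
theorem conj_sq_one {g s : qAut (sq F 6)} (hs : s * s = 1) : g * s * g⁻¹ * (g * s * g⁻¹) = 1 := by
  calc g * s * g⁻¹ * (g * s * g⁻¹) = g * (s * s) * g⁻¹ := by group
    _ = 1 := by rw [hs, mul_one, mul_inv_cancel]

/-- A monomial conjugate of an axis pair comes from a monomial element. -/
theorem Ctx.mono_of_conj_mono (C : Ctx H) {g : qAut (sq F 6)} (hg : g ∈ H) {a b : Fin 6} (hab : a ≠ b)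
    (hm : Mono (g * pr F a b * g⁻¹)) : Mono g := by
  have h2 := C.two
  obtain ⟨w, hw⟩ : ∃ w, w = g * pr F a b * g⁻¹ := ⟨_, rfl⟩
  rw [← hw] at hm
  have hw2 : w * w = 1 := hw ▸ conj_sq_one (sgn_mul_self _)
  obtain ⟨P, N, hP, hN, hmove, hdis, hev, htr⟩ := shape w hm hw2
  have ht2 : tr w = 2 := by rw [hw, tr_conj, tr_pr hab]
  have hcard : (P ∪ N).card ≤ 6 := (Finset.card_le_univ _).trans (by simp)
  rw [Finset.card_union_of_disjoint hdis] at hcard
  have hd : (P.card : ℤ) - N.card = 2 := C.cast_exact (by omega) (by omega) (by omega) (by rw [← htr, ht2]; norm_num)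
  by_cases hN0 : N = ∅
  swap
  · obtain ⟨c, hc⟩ := Finset.nonempty_iff_ne_empty.2 hN0
    have hN1 : 0 < N.card := Finset.card_pos.2 ⟨c, hc⟩
    exact C.case_neg hg hab hw.symm hw2 (hN c hc) (K := P) (by omega) hP
  subst hN0
  simp only [Finset.card_empty, Nat.cast_zero, sub_zero] at hd
  have hP2 : P.card = 2 := by exact_mod_cast hd
  obtain ⟨p, q, hpq, hPe⟩ := Finset.card_eq_two.1 hP2
  obtain ⟨b₁, hb₁⟩ := exists_out (A := P) (by omega)
  obtain ⟨c₁, σ, hcb, hcP, -, hσ, hwb, hwc⟩ := hmove b₁ hb₁ (Finset.notMem_empty _)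
  obtain ⟨d₁, hd₁⟩ := exists_out (A := insert b₁ (insert c₁ P))
    (lt_of_le_of_lt ((Finset.card_insert_le _ _).trans (Nat.succ_le_succ (Finset.card_insert_le _ _))) (by omega))
  simp only [Finset.mem_insert, not_or] at hd₁
  obtain ⟨hdb, hdc, hdP⟩ := hd₁
  obtain ⟨e₁, δ, hed, heP, -, hδ, hwd, hwe⟩ := hmove d₁ hdP (Finset.notMem_empty _)
  have key : ∀ {i j k : Fin 6} {s t : F}, w.1 (ax i) = s • ax j → w.1 (ax i) = t • ax k → j = k :=
    fun {i j k s t} h1 h1' => by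
      by_contra hne
      have h := congrFun (h1.symm.trans h1') j
      simp only [Pi.smul_apply, ax_self, ax_ne hne, smul_eq_mul, mul_one, mul_zero] at h
      exact mono_coeff_ne h1 h
  have heb : e₁ ≠ b₁ := fun e => hdc (key (e ▸ hwe) hwb)
  have hec : e₁ ≠ c₁ := fun e => hdb (key (e ▸ hwe) hwc)
  simp only [hPe, Finset.mem_insert, Finset.mem_singleton, not_or] at hb₁ hcP hdP heP
  have h4 : Four b₁ c₁ d₁ e₁ := ⟨Ne.symm hcb, Ne.symm hdb, Ne.symm heb, Ne.symm hdc, Ne.symm hec, Ne.symm hed⟩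
  have hr : Rest p q b₁ c₁ d₁ e₁ := ⟨hpq, Ne.symm hb₁.1, Ne.symm hcP.1, Ne.symm hdP.1, Ne.symm heP.1, Ne.symm hb₁.2,
    Ne.symm hcP.2, Ne.symm hdP.2, Ne.symm heP.2, fun i => by
      by_contra hcon
      push Not at hcon
      have hc7 : ({p, q, b₁, c₁, d₁, e₁, i} : Finset (Fin 6)).card = 7 := by
        simp [hpq, Ne.symm hb₁.1, Ne.symm hb₁.2, Ne.symm hcP.1, Ne.symm hcP.2, Ne.symm hdP.1, Ne.symm hdP.2,
          Ne.symm heP.1, Ne.symm heP.2, Ne.symm hcb, Ne.symm hdb, Ne.symm heb, Ne.symm hdc, Ne.symm hec, Ne.symm hed,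
          Ne.symm hcon.1, Ne.symm hcon.2.1, Ne.symm hcon.2.2.1, Ne.symm hcon.2.2.2.1, Ne.symm hcon.2.2.2.2.1,
          Ne.symm hcon.2.2.2.2.2]
      have := Finset.card_le_univ ({p, q, b₁, c₁, d₁, e₁, i} : Finset (Fin 6))
      rw [hc7, Fintype.card_fin] at this
      omega⟩
  have hwp := hP p (by simp [hPe])
  have hwq := hP q (by simp [hPe])
  -- adjust the two signs
  obtain ⟨D, hDe, hDb, hDd, hDc, hDe'⟩ : ∃ D : Finset (Fin 6), Even D.card ∧ b₁ ∉ D ∧ d₁ ∉ D ∧
      (σ = if c₁ ∈ D then -1 else 1) ∧ (δ = if e₁ ∈ D then -1 else 1) := by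
    rcases mul_self_eq_one_iff.1 hσ with hs | hs <;> rcases mul_self_eq_one_iff.1 hδ with ht | ht
    · exact ⟨∅, ⟨0, rfl⟩, by simp, by simp, by simp [hs], by simp [ht]⟩
    · exact ⟨{e₁, p}, ⟨1, Finset.card_pair (Ne.symm hr.pe)⟩, by simp [h4.be, Ne.symm hr.pb],
        by simp [h4.de, Ne.symm hr.pd], by simp [hs, h4.ce, Ne.symm hr.pc], by simp [ht]⟩
    · exact ⟨{c₁, p}, ⟨1, Finset.card_pair (Ne.symm hr.pc)⟩, by simp [h4.bc, Ne.symm hr.pb],
        by simp [Ne.symm h4.cd, Ne.symm hr.pd], by simp [hs], by simp [ht, Ne.symm h4.ce, Ne.symm hr.pe]⟩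
    · exact ⟨{c₁, e₁}, ⟨1, Finset.card_pair h4.ce⟩, by simp [h4.bc, h4.be],
        by simp [Ne.symm h4.cd, h4.de], by simp [hs], by simp [ht]⟩
  obtain ⟨S, hS⟩ : ∃ S, S = sgn F D := ⟨_, rfl⟩
  have hSS : S * S = 1 := hS ▸ sgn_mul_self _
  have hSi : S⁻¹ = S := inv_eq_of_mul_eq_one_right hSS
  have hw' : (S * g) * pr F a b * (S * g)⁻¹ = S * w * S := by
    rw [hw, mul_inv_rev, hSi]
    group
  have happ : ∀ i, (S * w * S).1 (ax i) = S.1 (w.1 (if i ∈ D then -ax i else ax i)) := fun i => by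
    rw [qAut_mul_apply, qAut_mul_apply, hS, sgn_ax]
  have hfix : ∀ i, w.1 (ax i) = ax i → (S * w * S).1 (ax i) = ax i := fun i hi => by
    rw [happ]
    split_ifs with h <;> simp [hi, hS, sgn_ax, h]
  have hm' := C.case_swaps (H.mul_mem (hS ▸ C.base.sgn_mem _ hDe) hg) hab h4 hr hw'
    (by
      calc S * w * S * (S * w * S) = S * w * (S * S) * w * S := by group
        _ = 1 := by rw [hSS, mul_one, mul_assoc S w w, hw2, mul_one, hSS])
    (hfix p hwp) (hfix q hwq)
    (by rw [happ, if_neg hDb, hwb, map_smul, hS, sgn_ax, hDc]; split_ifs <;> simp)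
    (by rw [happ]; by_cases h : c₁ ∈ D <;> simp [hwc, hS, sgn_ax, hDb, hDc, h])
    (by rw [happ, if_neg hDd, hwd, map_smul, hS, sgn_ax, hDe']; split_ifs <;> simp)
    (by rw [happ]; by_cases h : e₁ ∈ D <;> simp [hwe, hS, sgn_ax, hDd, hDe', h])
  have := (monoGroup F 6).mul_mem ((monoGroup F 6).inv_mem (mem_monoGroup.2 (show Mono S from fun i => by
    rw [hS, sgn_ax]
    split_ifs
    · exact ⟨i, -1, by rw [neg_one_smul]⟩
    · exact ⟨i, 1, by rw [one_smul]⟩))) (mem_monoGroup.2 hm')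
  rwa [inv_mul_cancel_left] at this

/-- The axis pair of a monomial conjugate. -/
theorem Ctx.pr_of_conj_mono (C : Ctx H) {g : qAut (sq F 6)} (hg : g ∈ H) {a b : Fin 6} (hab : a ≠ b)
    (hm : Mono (g * pr F a b * g⁻¹)) : ∃ c d, c ≠ d ∧ g * pr F a b * g⁻¹ = pr F c d := by
  have hgm := C.mono_of_conj_mono hg hab hm
  obtain ⟨c, σ, hc⟩ := hgm a
  obtain ⟨d, τ, hd⟩ := hgm b
  have hcd : c ≠ d := fun e => col_ne hab hc (e ▸ hd)
  exact ⟨c, d, hcd, conj_pr_axes C.two g hab hcd hc hd⟩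

/-- A monomial involution other than an axis pair is not moved into the monomial group. -/
theorem Ctx.mono_of_perm (C : Ctx H) {w x : qAut (sq F 6)} (hx : x ∈ H) (hw : Mono w) (hw2 : w * w = 1)
    (htr : tr w = 2) (hnd : ∀ a b, a ≠ b → w ≠ pr F a b) (hw' : Mono (x⁻¹ * w * x)) : Mono x := by
  have h2 := C.two
  have hexact : ∀ (v : qAut (sq F 6)), tr v = 2 → ∀ P N : Finset (Fin 6), Disjoint P N →
      2 ∣ ((P.card : ℤ) - N.card) → tr v = ((((P.card : ℤ) - N.card : ℤ)) : F) → 2 ≤ P.card := by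
    intro v hv P N hdis hev h
    have hcard : (P ∪ N).card ≤ 6 := (Finset.card_le_univ _).trans (by simp)
    rw [Finset.card_union_of_disjoint hdis] at hcard
    have := C.cast_exact (d := (P.card : ℤ) - N.card) (t := 2) (by omega) (by omega) (by omega)
      (by rw [← h, hv]; norm_num)
    omega
  -- a pair negating a vector negated by `w`
  obtain ⟨c, d, hcd, hu, p₀, hp₀, hwp, hup⟩ : ∃ c d, c ≠ d ∧ pr F c d * w = w * pr F c d ∧
      ∃ p₀ : Fin 6 → F, p₀ ≠ 0 ∧ w.1 p₀ = -p₀ ∧ (pr F c d).1 p₀ = -p₀ := by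
    obtain ⟨P, N, hP, hN, hmove, hdis, hev, ht⟩ := shape w hw hw2
    have hP2 := hexact w htr P N hdis hev ht
    rcases N.eq_empty_or_nonempty with rfl | ⟨c, hc⟩
    · obtain ⟨i, hi⟩ : ∃ i, i ∉ P := by
        by_contra hcon
        push Not at hcon
        have hPu : P = Finset.univ := Finset.eq_univ_of_forall hcon
        have h1 : w = 1 := qAut_ext_ax fun i => hP i (hcon i)
        rw [h1, tr_eq_sum] at htr
        have h6 : (6 : F) = 2 := by
          rw [← htr, Finset.sum_congr rfl fun i _ => show (1 : qAut (sq F 6)).1 (ax i) i = (1 : F) from ax_self i]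
          simp
        exact mul_ne_zero h2 h2 (by linear_combination h6)
      obtain ⟨j, σ, hji, -, -, hσ, hwi, hwj⟩ := hmove i hi (Finset.notMem_empty _)
      refine ⟨i, j, Ne.symm hji, (comm_pr_swap h2 w (Ne.symm hji) hwi hwj).symm, ax i - σ • ax j, fun h => ?_, ?_,
        pr_neg fun l hl hl' => by simp [ax_ne hl, ax_ne hl']⟩
      · have := congrFun h i
        simp [ax_self, ax_ne (Ne.symm hji)] at this
      · rw [map_sub, map_smul, hwi, hwj, smul_smul, hσ, one_smul, neg_sub]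
    · obtain ⟨d, hd⟩ := Finset.card_pos.1 (show 0 < P.card by omega)
      have hcd : c ≠ d := fun e => Finset.disjoint_left.1 hdis hd (e ▸ hc)
      exact ⟨c, d, hcd, (comm_pr_axes h2 w hcd (σ := -1) (τ := 1) (by rw [neg_one_smul]; exact hN c hc)
        (by rw [one_smul]; exact hP d hd)).symm, ax c, ax_ne_zero c, hN c hc, pr_neg fun l hl _ => ax_ne hl⟩
  -- a pair trivial on the vectors negated by the other involution
  obtain ⟨p, q, hpq, hs'⟩ : ∃ p q, p ≠ q ∧ ∀ y, (x⁻¹ * w * x).1 y = -y → (pr F p q).1 y = y := by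
    have hsq : x⁻¹ * w * x * (x⁻¹ * w * x) = 1 := by
      have h := conj_sq_one (g := x⁻¹) hw2
      rwa [inv_inv] at h
    obtain ⟨P, N, hP, -, -, hdis, hev, ht⟩ := shape _ hw' hsq
    have hP2 := hexact _ (by rw [show x⁻¹ * w * x = x⁻¹ * w * x⁻¹⁻¹ by rw [inv_inv], tr_conj, htr]) P N hdis hev ht
    obtain ⟨p, hp, q, hq, hpq⟩ := Finset.one_lt_card.1 (show 1 < P.card by omega)
    refine ⟨p, q, hpq, fun y hy => ?_⟩
    have hz : ∀ k ∈ P, y k = 0 := fun k hk => by
      have h := coord_eigen h2 hsq y (σ := 1) (j := k) (by rw [one_smul]; exact hP k hk)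
      rw [hy, Pi.neg_apply, one_mul] at h
      exact (mul_eq_zero.1 (show (2 : F) * y k = 0 by linear_combination -h)).resolve_left h2
    exact pr_fix (hz p hp) (hz q hq)
  obtain ⟨u', hu'⟩ : ∃ u', u' = x * pr F p q * x⁻¹ := ⟨_, rfl⟩
  have hu'H : u' ∈ H := hu' ▸ H.mul_mem (H.mul_mem hx (C.pr_mem hpq)) (H.inv_mem hx)
  have hu'p : u'.1 p₀ = p₀ := by
    rw [hu', qAut_mul_apply, qAut_mul_apply, hs' _ (by
      rw [qAut_mul_apply, qAut_mul_apply, qApply_inv_self, hwp, map_neg]), qApply_inv_self]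
  have hD : (pr F c d * u').1 p₀ = (-1 : F) • p₀ := by rw [qAut_mul_apply, hu'p, hup, neg_one_smul]
  have heven : Even (orderOf (pr F c d * u')) := by
    by_contra hodd
    have h := pow_eigen hD (orderOf (pr F c d * u'))
    rw [pow_orderOf_eq_one, (Nat.not_even_iff_odd.1 hodd).neg_one_pow] at h
    change p₀ = _ at h
    rw [neg_one_smul] at h
    exact hp₀ ((smul_eq_zero.1 (show (2 : F) • p₀ = 0 by rw [two_smul]; nth_rewrite 2 [h]; rw [add_neg_cancel])).resolve_left h2)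
  obtain ⟨z, hzH, hz1, -, hzu, hzu', g, hgH, hg⟩ := dihedral_even (K := H) (sgn_mul_self _)
    (hu' ▸ conj_sq_one (sgn_mul_self _)) (C.pr_mem hcd) hu'H heven
  have hzm : Mono z := C.mono_of_comm hzH hcd hzu
  have hzum : Mono (z * pr F c d) := (monoGroup F 6).mul_mem (mem_monoGroup.2 hzm) (mem_monoGroup.2 (pr_mono c d))
  obtain ⟨α, β, hαβ, hαe⟩ : ∃ α β, α ≠ β ∧ z * pr F c d = pr F α β := by
    rcases hg with h | h
    · rw [h] at hzum ⊢
      exact C.pr_of_conj_mono hgH hcd hzum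
    · rw [hu', show g * (x * pr F p q * x⁻¹) * g⁻¹ = g * x * pr F p q * (g * x)⁻¹ by group] at h
      rw [h] at hzum ⊢
      exact C.pr_of_conj_mono (H.mul_mem hgH hx) hpq hzum
  have hzd : z = sgn F (symmDiff {α, β} {c, d}) := by
    calc z = z * pr F c d * pr F c d := by rw [mul_assoc, sgn_mul_self, mul_one]
      _ = _ := by rw [hαe, sgn_mul]
  obtain ⟨D, hD⟩ : ∃ D : Finset (Fin 6), D = symmDiff {α, β} {c, d} := ⟨_, rfl⟩
  rw [← hD] at hzd
  have hDc : D.card = 0 ∨ D.card = 2 ∨ D.card = 4 := by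
    obtain ⟨A, hA⟩ : ∃ A : Finset (Fin 6), A = {α, β} := ⟨_, rfl⟩
    obtain ⟨B, hB⟩ : ∃ B : Finset (Fin 6), B = {c, d} := ⟨_, rfl⟩
    have hA2 : A.card = 2 := hA ▸ Finset.card_pair hαβ
    have hB2 : B.card = 2 := hB ▸ Finset.card_pair hcd
    rw [hD, ← hA, ← hB, symmDiff_def, Finset.sup_eq_union, Finset.card_union_of_disjoint disjoint_sdiff_sdiff]
    have e1 := Finset.card_sdiff_add_card_inter A B
    have e2 := Finset.card_sdiff_add_card_inter B A
    rw [Finset.inter_comm B A] at e2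
    omega
  obtain ⟨e, f, hef, hcomm⟩ : ∃ e f, e ≠ f ∧ u' * pr F e f = pr F e f * u' := by
    rcases hDc with h0 | h0 | h0
    · exact absurd (by rw [hzd, Finset.card_eq_zero.1 h0, sgn_empty]) hz1
    · obtain ⟨e, f, hef, rfl⟩ := Finset.card_eq_two.1 h0
      exact ⟨e, f, hef, by rw [pr, ← hzd]; exact hzu'.symm⟩
    · obtain ⟨e, f, hef, hc'⟩ := Finset.card_eq_two.1 (show Dᶜ.card = 2 by
        rw [Finset.card_compl, Fintype.card_fin, h0])
      refine ⟨e, f, hef, ?_⟩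
      have e' : pr F e f = sgn F Finset.univ * z := by
        rw [hzd, sgn_mul, pr, ← hc']
        congr 1
        rw [symmDiff_def, Finset.sup_eq_union]
        ext i
        simp
      rw [e', ← mul_assoc, sgn_univ_comm, mul_assoc, ← hzu', mul_assoc]
  exact C.mono_of_conj_mono hx hpq (hu' ▸ C.mono_of_comm hu'H hef hcomm)

/-- Every element is monomial. -/
theorem Ctx.all_mono (C : Ctx H) : ∀ h ∈ H, Mono h := by
  intro h hh
  have h2 := C.two
  have h01 : (0 : Fin 6) ≠ 1 := by decide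
  have h12 : (1 : Fin 6) ≠ 2 := by decide
  have h23 : (2 : Fin 6) ≠ 3 := by decide
  obtain ⟨w, hw⟩ : ∃ w : qAut (sq F 6), w = swp h2 h01 * swp h2 h23 := ⟨_, rfl⟩
  have hwH : w ∈ H := by
    have e : w = cy h2 h01 h12 * cy h2 h12 h23 := by
      rw [hw, cy, cy, mul_assoc, ← mul_assoc (swp h2 h12) (swp h2 h12),
        show swp h2 h12 * swp h2 h12 = (1 : qAut (sq F 6)) from qRefl_mul_self _ _, one_mul]
    rw [e]
    exact H.mul_mem (C.base.cyc _ _ _ h01 h12 (by decide)) (C.base.cyc _ _ _ h12 h23 (by decide))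
  have w0 : w.1 (ax 0) = ax 1 := by rw [hw, qAut_mul_apply, swp_other _ _ (by decide) (by decide), swp_left]
  have w1 : w.1 (ax 1) = ax 0 := by rw [hw, qAut_mul_apply, swp_other _ _ (by decide) (by decide), swp_right]
  have w2 : w.1 (ax 2) = ax 3 := by rw [hw, qAut_mul_apply, swp_left, swp_other _ _ (by decide) (by decide)]
  have w3 : w.1 (ax 3) = ax 2 := by rw [hw, qAut_mul_apply, swp_right, swp_other _ _ (by decide) (by decide)]
  have w4 : w.1 (ax 4) = ax 4 := by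
    rw [hw, qAut_mul_apply, swp_other _ _ (by decide) (by decide), swp_other _ _ (by decide) (by decide)]
  have w5 : w.1 (ax 5) = ax 5 := by
    rw [hw, qAut_mul_apply, swp_other _ _ (by decide) (by decide), swp_other _ _ (by decide) (by decide)]
  have hwm : Mono w := fun i => by
    fin_cases i
    · exact ⟨1, 1, by rw [one_smul]; exact w0⟩
    · exact ⟨0, 1, by rw [one_smul]; exact w1⟩
    · exact ⟨3, 1, by rw [one_smul]; exact w2⟩
    · exact ⟨2, 1, by rw [one_smul]; exact w3⟩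
    · exact ⟨4, 1, by rw [one_smul]; exact w4⟩
    · exact ⟨5, 1, by rw [one_smul]; exact w5⟩
  have hw2 : w * w = 1 := qAut_ext_ax fun i => by
    rw [qAut_mul_apply]
    fin_cases i <;> simp [w0, w1, w2, w3, w4, w5] <;> rfl
  have htr : tr w = 2 := by
    rw [tr_eq_sum, Fin.sum_univ_six, w0, w1, w2, w3, w4, w5, ax_ne h01, ax_ne (Ne.symm h01), ax_ne h23,
      ax_ne (Ne.symm h23), ax_self, ax_self]
    norm_num
  have hnd : ∀ a b, a ≠ b → w ≠ pr F a b := fun a b _ e => by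
    have h' := congrFun (w0.symm.trans (by rw [e])) (1 : Fin 6)
    rw [ax_self, sgn_apply, ax_ne (Ne.symm h01)] at h'
    simp at h'
  obtain ⟨w', hw'⟩ : ∃ w', w' = h * w * h⁻¹ := ⟨_, rfl⟩
  have hw'H : w' ∈ H := hw' ▸ H.mul_mem (H.mul_mem hh hwH) (H.inv_mem hh)
  have hw'2 : w' * w' = 1 := hw' ▸ conj_sq_one hw2
  suffices hw'm : Mono w' by
    have := C.mono_of_perm (H.inv_mem hh) hwm hw2 htr hnd (by rw [inv_inv, ← hw']; exact hw'm)
    exact mem_monoGroup.1 (inv_inv h ▸ (monoGroup F 6).inv_mem (mem_monoGroup.2 this))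
  rcases Nat.even_or_odd (orderOf (pr F 0 1 * w')) with he | ho
  swap
  · obtain ⟨g, hg, hge⟩ := dihedral_odd (K := H) (sgn_mul_self _) hw'2 (C.pr_mem h01) hw'H ho
    exfalso
    have e : h⁻¹ * g * pr F 0 1 * (h⁻¹ * g)⁻¹ = w := by
      calc h⁻¹ * g * pr F 0 1 * (h⁻¹ * g)⁻¹ = h⁻¹ * (g * pr F 0 1 * g⁻¹) * h := by group
        _ = w := by rw [hge, hw']; group
    obtain ⟨a, b, hab, hab'⟩ := C.pr_of_conj_mono (H.mul_mem (H.inv_mem hh) hg) h01 (e ▸ hwm)
    exact hnd a b hab (e ▸ hab')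
  obtain ⟨z, hzH, hz1, hzz, hzs, hzw, g, hgH, hg⟩ := dihedral_even (K := H) (sgn_mul_self _) hw'2 (C.pr_mem h01) hw'H he
  have hzm : Mono z := C.mono_of_comm hzH h01 hzs
  have hts : tr (z * pr F 0 1) = 2 := by
    rcases hg with e | e <;> rw [e, tr_conj]
    · exact tr_pr h01
    · rw [hw', tr_conj, htr]
  obtain ⟨P, N, hP, hN, hmove, hdis, hev, ht⟩ := shape z hzm hzz
  obtain ⟨A, hA⟩ : ∃ A, A = z.1 (ax 0) 0 + z.1 (ax 1) 1 := ⟨_, rfl⟩
  have htsum : tr (z * pr F 0 1) = tr z - 2 * A := by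
    rw [tr_eq_sum, tr_eq_sum, hA, Fin.sum_univ_six, Fin.sum_univ_six]
    simp only [qAut_mul_apply, sgn_ax, Finset.mem_insert, Finset.mem_singleton, Fin.reduceEq, or_false, or_true,
      if_true, if_false, map_neg, Pi.neg_apply]
    ring
  have hdiag : ∀ i j : Fin 6, (i = 0 ∧ j = 1) ∨ (i = 1 ∧ j = 0) → z.1 (ax i) i = 0 → z.1 (ax j) j = 0 := by
    intro i j hij hi
    obtain ⟨l, σ, hl⟩ := hzm i
    have hli : l ≠ i := fun e => by
      rw [hl, e, Pi.smul_apply, ax_self, smul_eq_mul, mul_one] at hi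
      exact mono_coeff_ne hl hi
    have hlj : l = j := by
      have hc := congrArg (fun u : qAut (sq F 6) => u.1 (ax i) l) hzs
      simp only [qAut_mul_apply] at hc
      rw [sgn_ax, if_pos (by rcases hij with h | h <;> simp [h.1]), map_neg, hl, map_smul, Pi.neg_apply,
        Pi.smul_apply, Pi.smul_apply, ax_self, sgn_ax] at hc
      by_contra hlj
      rw [if_neg (by rcases hij with h | h <;> simp [h.1, h.2] at hli hlj ⊢ <;> simp [hli, hlj]), ax_self] at hc
      exact mono_coeff_ne hl ((mul_eq_zero.1 (show (2 : F) * σ = 0 by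
        simp only [smul_eq_mul, mul_one] at hc
        linear_combination -hc)).resolve_left h2)
    subst hlj
    have hback := mono_inv_apply hl
    rw [inv_eq_of_mul_eq_one_right hzz] at hback
    rw [hback, Pi.smul_apply, ax_ne (Ne.symm (Ne.symm hli)), smul_zero]
  have hval : ∀ i, (i ∈ P ∧ z.1 (ax i) i = 1) ∨ z.1 (ax i) i = -1 ∨ z.1 (ax i) i = 0 := fun i => by
    by_cases h1 : i ∈ P
    · exact Or.inl ⟨h1, by rw [hP i h1, ax_self]⟩
    by_cases h1' : i ∈ N
    · exact Or.inr (Or.inl (by rw [hN i h1', Pi.neg_apply, ax_self]))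
    obtain ⟨j, σ, hji, -, -, -, hzi, -⟩ := hmove i h1 h1'
    exact Or.inr (Or.inr (by rw [hzi, Pi.smul_apply, ax_ne (Ne.symm hji), smul_zero]))
  have hcard : (P ∪ N).card ≤ 6 := (Finset.card_le_univ _).trans (by simp)
  rw [Finset.card_union_of_disjoint hdis] at hcard
  have htz : tr z = 2 ∨ tr z = -2 := by
    rw [hts] at htsum
    rcases hval 0 with ⟨p0, v0⟩ | v0 | v0 <;> rcases hval 1 with ⟨p1, v1⟩ | v1 | v1
    · exfalso
      have hP2 : 2 ≤ P.card := Finset.one_lt_card.2 ⟨0, p0, 1, p1, h01⟩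
      have hd := C.cast_exact (d := (P.card : ℤ) - N.card) (t := 6) (by omega) (by omega) (by omega) (by
        rw [← ht]; push_cast; rw [hA, v0, v1] at htsum; linear_combination -htsum)
      have hPu : P = Finset.univ := Finset.eq_univ_of_card _ (by rw [Fintype.card_fin]; omega)
      exact hz1 (qAut_ext_ax fun i => hP i (hPu ▸ Finset.mem_univ i))
    all_goals rw [hA, v0, v1] at htsum
    · exact Or.inl (by linear_combination -htsum)
    · exact absurd (hdiag 1 0 (Or.inr ⟨rfl, rfl⟩) v1) (by rw [v0]; exact one_ne_zero)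
    · exact Or.inl (by linear_combination -htsum)
    · exact Or.inr (by linear_combination -htsum)
    · exact absurd (hdiag 1 0 (Or.inr ⟨rfl, rfl⟩) v1) (by rw [v0]; exact neg_ne_zero.2 one_ne_zero)
    · exact absurd (hdiag 0 1 (Or.inl ⟨rfl, rfl⟩) v0) (by rw [v1]; exact one_ne_zero)
    · exact absurd (hdiag 0 1 (Or.inl ⟨rfl, rfl⟩) v0) (by rw [v1]; exact neg_ne_zero.2 one_ne_zero)
    · exact Or.inl (by linear_combination -htsum)
  have hU : Mono (sgn F (Finset.univ : Finset (Fin 6))) := fun i =>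
    ⟨i, -1, by rw [sgn_univ_apply, neg_one_smul]⟩
  obtain ⟨z', hz'm, hz'2, hz't, hz'w⟩ : ∃ z', Mono z' ∧ z' * z' = 1 ∧ tr z' = 2 ∧ z' * w' = w' * z' := by
    rcases htz with h' | h'
    · exact ⟨z, hzm, hzz, h', hzw⟩
    refine ⟨sgn F Finset.univ * z, (monoGroup F 6).mul_mem (mem_monoGroup.2 hU) (mem_monoGroup.2 hzm), ?_,
      by rw [tr_neg, h', neg_neg], ?_⟩
    · rw [mul_assoc, ← mul_assoc z, sgn_univ_comm, mul_assoc, hzz, mul_one, sgn_mul_self]
    · rw [mul_assoc, hzw, ← mul_assoc, ← sgn_univ_comm, mul_assoc]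
  by_cases hdg : ∃ a b, a ≠ b ∧ z' = pr F a b
  · obtain ⟨a, b, hab, rfl⟩ := hdg
    exact C.mono_of_comm hw'H hab hz'w.symm
  push Not at hdg
  exact C.mono_of_perm hw'H hz'm hz'2 hz't hdg (by rw [mul_assoc, hz'w, inv_mul_cancel_left]; exact hz'm)

end CfsgLib.SLFour.Six
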