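/-
Groups of symplectic type in four dimensions with centre of order four: the frame and a standard basis.
-/
import Cfsg.Agent.Lib.Classical22.SympTypeFour.Normal
import Cfsg.Agent.Lib.Techniques.AschGen.ClassTwoBasis
import Cfsg.Agent.Lib.Techniques.AschSL.SymType

set_option autoImplicit false

namespace CfsgLib.SLFour.SympType

open Matrix CfsgLib.Classical22 CfsgLib.Techniques.AschGen
open CfsgLib.Classical22.SympTypeFour (Setting Frame)
open scoped MatrixGroups

variable {F : Type*} [Field F] [Fintype F]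

/-- The frame of a group of symplectic type with centre of order four. -/
theorem exists_frame_of {R : Subgroup (GL (Fin 4) F)} (h2 : (2 : F) ≠ 0)
    (hS0 : Cfsg.Geo.IsSymplecticTypeGroup 2 R) (hirr : Cfsg.Geo.ActsAbsolutelyIrreducibly (Cfsg.Geo.matrixSet R))
    (hZ4 : Nat.card (Subgroup.center R) = 4) :
    (2 : F) ≠ 0 ∧ ∃ (c : F) (z : GL (Fin 4) F), c * c = -1 ∧ z ∈ R ∧ (z : Matrix (Fin 4) (Fin 4) F) = c • 1 ∧
      Setting R ∧ ∃ e : Fin 5 → GL (Fin 4) F, Frame R e ∧ e 4 = -(e 0 * e 1 * e 2 * e 3) ∧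
        ∃ C D : GL (Fin 4) F, C * C = 1 ∧ D * D = 1 ∧ e 0 * C = C * e 0 ∧ e 0 * D = D * e 0 ∧ e 1 * C = C * e 1 ∧
          e 1 * D = D * e 1 ∧ C * D = -(D * C) ∧ e 2 = -(z * (e 0 * e 1 * C)) ∧ e 3 = -(z * (e 0 * e 1 * D)) := by
  classical
  haveI : Fact (Nat.Prime 2) := ⟨Nat.prime_two⟩
  -- a central element of order four
  haveI := hS0.cyclic_of_characteristic (Subgroup.center R) inferInstance inferInstance
  obtain ⟨g, hg⟩ := IsCyclic.exists_ofOrder_eq_natCard (α := Subgroup.center R)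
  rw [hZ4] at hg
  obtain ⟨c, -, hc⟩ := SympTypeFour.scalar_of_commute hirr fun a ha =>
    (congrArg Subtype.val (Subgroup.mem_center_iff.1 g.2 ⟨a, ha⟩)).symm
  obtain ⟨z, hzdef⟩ : ∃ z, z = ((g : R) : GL (Fin 4) F) := ⟨_, rfl⟩
  rw [← hzdef] at hc
  have hzR : z ∈ R := hzdef ▸ (g : R).2
  have hzo : orderOf z = 4 := by rw [hzdef, Subgroup.orderOf_coe, Subgroup.orderOf_coe, hg]
  have hz4 : z ^ 4 = 1 := by
    have h := pow_orderOf_eq_one z
    rwa [hzo] at h
  have hz2 : z ^ 2 ≠ 1 := fun h => by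
    have := Nat.le_of_dvd two_pos (orderOf_dvd_of_pow_eq_one h)
    omega
  have hval : ∀ n : ℕ, ((z ^ n : GL (Fin 4) F) : Matrix (Fin 4) (Fin 4) F) = c ^ n • 1 := fun n => by
    rw [Units.val_pow_eq_pow_val, hc, smul_pow, one_pow]
  have hc4 : c ^ 4 = 1 := SympTypeFour.scalar_inj (ι := Fin 4) (by
    rw [← hval, hz4, Units.val_one, one_smul])
  have hc2 : c * c = -1 := by
    rcases mul_self_eq_one_iff.1 (show c ^ 2 * c ^ 2 = 1 by rw [← pow_add]; exact hc4) with h | h
    · exact absurd (Units.ext (by rw [hval, h, one_smul, Units.val_one])) hz2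
    · rw [← pow_two]; exact h
  have hzz : z * z = -1 := Units.ext (by
    rw [Units.val_mul, hc, smul_mul_smul_comm, one_mul, hc2, neg_one_smul, Units.val_neg, Units.val_one])
  have hneg : (-1 : GL (Fin 4) F) ∈ R := hzz ▸ mul_mem hzR hzR
  -- squares and commutators
  have h4 : ∀ q : R, q ^ 4 = 1 := fun q => by
    have h := Monoid.pow_exponent_eq_one q
    rwa [hS0.exponent_eq, show 2 * Nat.gcd 2 2 = 4 from rfl] at h
  have hzc : (⟨-1, hneg⟩ : R) ∈ Subgroup.center R :=
    Subgroup.mem_center_iff.2 fun y => Subtype.ext (by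
      rw [Subgroup.coe_mul, Subgroup.coe_mul, neg_one_mul, mul_neg_one])
  obtain ⟨hcm, hsq, -⟩ := CfsgLib.Local.symplectic_four (Q := R) ⟨hS0.pGroup, hS0.cyclic_of_characteristic⟩ h4 hzc
    (Subtype.ext (by rw [Subgroup.coe_pow, pow_two]; simp)) fun h =>
      SympTypeFour.neg_one_ne (ι := Fin 4) h2 (congrArg Subtype.val h)
  have hsq' : ∀ a ∈ R, a * a = 1 ∨ a * a = -1 := fun a ha => by
    rcases hsq ⟨a, ha⟩ with h | h <;> have h' := congrArg Subtype.val h <;>
      simp only [Subgroup.coe_pow, pow_two, OneMemClass.coe_one] at h'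
    · exact Or.inl h'
    · exact Or.inr h'
  have hcomm : ∀ a ∈ R, ∀ b ∈ R, a * b = b * a ∨ a * b = -(b * a) := fun a ha b hb => by
    rcases hcm ⟨a, ha⟩ ⟨b, hb⟩ with h | h <;> have h' := congrArg Subtype.val h <;>
      simp only [Subgroup.coe_mul, Subgroup.coe_inv, OneMemClass.coe_one, mul_inv_eq_iff_eq_mul, one_mul] at h'
    · exact Or.inl h'
    · exact Or.inr (by rw [h', neg_mul, neg_mul, one_mul])
  -- the order
  have hscal : ∀ d : Fˣ, d ^ (2 * Nat.gcd 2 2) = 1 → scal (Fin 4) d ∈ R := fun d hd => by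
    have hd4 : (d : F) ^ 2 * (d : F) ^ 2 = 1 := by
      rw [← pow_add, ← Units.val_pow_eq_pow_val]; exact congrArg Units.val hd
    have key : ∀ (s : F) (u : GL (Fin 4) F), (d : F) = s → u ∈ R → (u : Matrix (Fin 4) (Fin 4) F) = s • 1 →
        scal (Fin 4) d ∈ R := fun s u hs hu hv => by
      have e : scal (Fin 4) d = u := Units.ext (by
        rw [hv, ← hs, Matrix.smul_one_eq_diagonal]; rfl)
      exact e ▸ hu
    rcases mul_self_eq_one_iff.1 hd4 with h | h
    · rcases sq_eq_one_iff.1 h with e | e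
      · exact key 1 1 e (one_mem R) (by rw [one_smul, Units.val_one])
      · exact key (-1) (-1) e hneg (by rw [neg_one_smul, Units.val_neg, Units.val_one])
    · rw [← hc2, pow_two] at h
      rcases mul_self_eq_mul_self_iff.1 h with e | e
      · exact key c z e hzR hc
      · exact key (-c) (-1 * z) e (mul_mem hneg hzR) (by
          rw [neg_one_mul, Units.val_neg, hc, neg_smul])
  have hT : TypeData R R 2 := ⟨Nat.prime_two, hirr, fun h hh x hx => R.mul_mem (R.mul_mem hh hx) (R.inv_mem hh),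
    fun x hx => congrArg Subtype.val (h4 ⟨x, hx⟩), hscal, fun x hx y hy => by
      rcases hcomm y hy x hx with h | h
      · exact ⟨1, one_pow _, by rw [show scal (Fin 4) (1 : Fˣ) = (1 : GL (Fin 4) F) from map_one _, one_mul, h]⟩
      · exact ⟨-1, by simp, by
          rw [show scal (Fin 4) (-1 : Fˣ) = (-1 : GL (Fin 4) F) from Units.ext (by
            show Matrix.scalar (Fin 4) ((-1 : Fˣ) : F) = _
            rw [Units.val_neg, Units.val_one, map_neg, map_one, Units.val_neg, Units.val_one]),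
            neg_one_mul, neg_mul, h]⟩,
    hS0, ⟨-1, orderOf_eq_prime (by simp) fun h => h2 (by
      have := congrArg Units.val h
      rw [Units.val_neg, Units.val_one] at this
      linear_combination -this)⟩⟩
  have hζ : IsPrimitiveRoot c (2 * Nat.gcd 2 2) := IsPrimitiveRoot.mk_of_lt c (by norm_num) hc4 fun l hl0 hl4 => by
    have hl4' : l < 4 := hl4
    interval_cases l
    · rw [pow_one]; intro h; rw [h, one_mul] at hc2; exact h2 (by linear_combination hc2)
    · rw [pow_two, hc2]; intro h; exact h2 (by linear_combination -h)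
    · rw [pow_succ, pow_two, hc2]; intro h
      have : c = -1 := by linear_combination -h
      rw [this] at hc2
      exact h2 (by linear_combination hc2)
  obtain ⟨-, -, m, hm, hRm⟩ := typeData_basis hT hζ
  rw [Fintype.card_fin] at hm
  have hm2 : m = 2 := Nat.pow_right_injective le_rfl (hm.symm.trans (show (4 : ℕ) = 2 ^ 2 by norm_num))
  have hS : Setting R := SympTypeFour.setting_of_type h2 hS0 hirr
    (by rw [hRm, hZ4, hm2]; norm_num) (by rw [hZ4]; norm_num)
  obtain ⟨a, b, c₁, d₁, hP, ha, hb, hc1, hd1⟩ :=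
    SympTypeFour.exists_frame_of_i h2 hS hzR (SympTypeFour.scalar_comm hc) hzz
  refine ⟨h2, c, z, hc2, hzR, hc, hS, _, SympTypeFour.frame_of_pairs h2 hS hP ha hb hc1 hd1, ?_, z * c₁, z * d₁, ?_⟩
  · obtain ⟨-, -, -, -, hab, -, hac, had, hbc, hbd⟩ := hP
    change a * b * (c₁ * d₁) = -(a * b * (a * b * c₁) * (a * b * d₁))
    have hm2' : a * b * (a * b) = -1 := by rw [SympTypeFour.sq_mul_anti hab, ha, hb, mul_one]
    have hmc : a * b * c₁ = c₁ * (a * b) := by
      rw [mul_assoc, hbc, ← mul_assoc, hac, mul_assoc]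
    rw [show a * b * (a * b * c₁) = -c₁ by rw [← mul_assoc, hm2', neg_one_mul], neg_mul, neg_neg,
      show c₁ * (a * b * d₁) = c₁ * (a * b) * d₁ by rw [mul_assoc c₁ (a * b) d₁], ← hmc, mul_assoc _ c₁ d₁]
  · obtain ⟨-, -, -, -, -, hcd, hac, had, hbc, hbd⟩ := hP
    have hz := SympTypeFour.scalar_comm hc
    have hzq : ∀ u : GL (Fin 4) F, u * u = -1 → z * u * (z * u) = 1 := fun u hu => by
      rw [mul_assoc, ← mul_assoc u z u, ← hz u, mul_assoc z u u, hu, ← mul_assoc, hzz, neg_one_mul, neg_neg]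
    have hzc' : ∀ u v : GL (Fin 4) F, u * v = v * u → u * (z * v) = z * v * u := fun u v h => by
      rw [← mul_assoc, ← hz u, mul_assoc, h, ← mul_assoc]
    have hkey : ∀ u : GL (Fin 4) F, -(z * (a * b * (z * u))) = a * b * u := fun u => by
      rw [← mul_assoc (a * b) z u, ← hz (a * b), mul_assoc z (a * b) u, ← mul_assoc z z, hzz, neg_one_mul, neg_neg]
    refine ⟨hzq _ hc1, hzq _ hd1, hzc' _ _ hac, hzc' _ _ had, hzc' _ _ hbc, hzc' _ _ hbd, ?_, (hkey _).symm,
      (hkey _).symm⟩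
    rw [mul_assoc, ← mul_assoc c₁ z d₁, ← hz c₁, mul_assoc z c₁ d₁, hcd, mul_neg, mul_neg, mul_assoc z d₁,
      ← mul_assoc d₁ z c₁, ← hz d₁, mul_assoc z d₁ c₁]

/-- The frame attached to the data of the statement. -/
theorem exists_frame {R : Subgroup (GL (Fin 4) F)} (hR : Cfsg.Geo.IsLinearSymplecticTypeData 2 R) :
    (2 : F) ≠ 0 ∧ ∃ (c : F) (z : GL (Fin 4) F), c * c = -1 ∧ z ∈ R ∧ (z : Matrix (Fin 4) (Fin 4) F) = c • 1 ∧
      Setting R ∧ ∃ e : Fin 5 → GL (Fin 4) F, Frame R e ∧ e 4 = -(e 0 * e 1 * e 2 * e 3) ∧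
        ∃ C D : GL (Fin 4) F, C * C = 1 ∧ D * D = 1 ∧ e 0 * C = C * e 0 ∧ e 0 * D = D * e 0 ∧ e 1 * C = C * e 1 ∧
          e 1 * D = D * e 1 ∧ C * D = -(D * C) ∧ e 2 = -(z * (e 0 * e 1 * C)) ∧ e 3 = -(z * (e 0 * e 1 * D)) := by
  classical
  have hS0 := hR.symplecticType
  obtain ⟨p, e₀, hrp, ⟨hp, hchar, hcard, -, -⟩, hcase⟩ := hR.field
  have h2 : (2 : F) ≠ 0 := Ring.two_ne_zero fun h => hrp (by
    haveI := ringChar.of_eq h
    exact CharP.eq F (ringChar.of_eq h) hchar)
  have hZ4 : Nat.card (Subgroup.center R) = 4 := by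
    rcases hcase with ⟨h, -⟩ | ⟨-, -, h, -⟩ | ⟨-, -, h, -⟩
    · exact absurd h (by decide)
    · exact h
    · rw [Fintype.card_fin] at h; norm_num at h
  exact exists_frame_of h2 hS0 hR.absIrred hZ4

/-- Two commuting pairs of anticommuting involutions in standard coordinates. -/
theorem exists_basis (h2 : (2 : F) ≠ 0) {A B C D : GL (Fin 4) F} (hA : A * A = 1) (hB : B * B = 1) (hC : C * C = 1)
    (hD : D * D = 1) (hAB : A * B = -(B * A)) (hCD : C * D = -(D * C)) (hAC : A * C = C * A) (hAD : A * D = D * A)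
    (hBC : B * C = C * B) (hBD : B * D = D * B) :
    ∃ P : GL (Fin 4) F,
      (A : Matrix (Fin 4) (Fin 4) F) * (P : Matrix (Fin 4) (Fin 4) F) = (P : Matrix (Fin 4) (Fin 4) F) * !![0, 0, 1, 0; 0, 0, 0, 1; 1, 0, 0, 0; 0, 1, 0, 0] ∧
      (B : Matrix (Fin 4) (Fin 4) F) * (P : Matrix (Fin 4) (Fin 4) F) = (P : Matrix (Fin 4) (Fin 4) F) * !![1, 0, 0, 0; 0, 1, 0, 0; 0, 0, -1, 0; 0, 0, 0, -1] ∧
      (C : Matrix (Fin 4) (Fin 4) F) * (P : Matrix (Fin 4) (Fin 4) F) = (P : Matrix (Fin 4) (Fin 4) F) * !![0, 1, 0, 0; 1, 0, 0, 0; 0, 0, 0, 1; 0, 0, 1, 0] ∧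
      (D : Matrix (Fin 4) (Fin 4) F) * (P : Matrix (Fin 4) (Fin 4) F) = (P : Matrix (Fin 4) (Fin 4) F) * !![1, 0, 0, 0; 0, -1, 0, 0; 0, 0, 1, 0; 0, 0, 0, -1] := by
  have h4 : (4 : F) ≠ 0 := fun h => mul_ne_zero h2 h2 (by linear_combination h)
  obtain ⟨act, hact⟩ : ∃ act : GL (Fin 4) F → (Fin 4 → F) → Fin 4 → F,
      ∀ g x, act g x = (g : Matrix (Fin 4) (Fin 4) F) *ᵥ x := ⟨_, fun _ _ => rfl⟩
  have am : ∀ g g' x, act g (act g' x) = act (g * g') x := fun g g' x => by
    rw [hact, hact, hact, Units.val_mul, Matrix.mulVec_mulVec]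
  have a1 : ∀ x, act 1 x = x := fun x => by rw [hact, Units.val_one, Matrix.one_mulVec]
  have ang : ∀ g x, act (-g) x = -act g x := fun g x => by rw [hact, hact, Units.val_neg, Matrix.neg_mulVec]
  have aadd : ∀ g x y, act g (x + y) = act g x + act g y := fun g x y => by
    rw [hact, hact, hact, Matrix.mulVec_add]
  have asub : ∀ g x y, act g (x - y) = act g x - act g y := fun g x y => by
    rw [hact, hact, hact, Matrix.mulVec_sub]
  have asm : ∀ g (s : F) x, act g (s • x) = s • act g x := fun g s x => by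
    rw [hact, hact, Matrix.mulVec_smul]
  have hBA : B * A = -(A * B) := by rw [hAB, neg_neg]
  have hDC : D * C = -(C * D) := by rw [hCD, neg_neg]
  -- a common fixed vector of `B` and `D`
  obtain ⟨u, hu⟩ : ∃ u : Fin 4 → F, u + act B u + (act D u + act B (act D u)) ≠ 0 := by
    by_contra hcon
    push Not at hcon
    obtain ⟨x, hx⟩ : ∃ x : Fin 4 → F, x = Pi.single 0 1 := ⟨_, rfl⟩
    have e1 := hcon x
    have e2 := congrArg (act A) (hcon (act A x))
    have e3 := congrArg (act C) (hcon (act C x))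
    have e4 := congrArg (act (A * C)) (hcon (act (A * C) x))
    have f1 : A * B * A = -B := by rw [hAB, neg_mul, mul_assoc, hA, mul_one]
    have f2 : A * D * A = D := by rw [hAD, mul_assoc, hA, mul_one]
    have f3 : A * (B * D) * A = -(B * D) := by rw [← mul_assoc, hAB, neg_mul, mul_assoc B A D, hAD, ← mul_assoc, neg_mul, mul_assoc, hA, mul_one]
    have g1 : C * B * C = B := by rw [← hBC, mul_assoc, hC, mul_one]
    have g2 : C * D * C = -D := by rw [hCD, neg_mul, mul_assoc, hC, mul_one]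
    have g3 : C * (B * D) * C = -(B * D) := by rw [← mul_assoc, ← hBC, mul_assoc B C D, hCD, mul_neg, neg_mul, ← mul_assoc, mul_assoc, hC, mul_one]
    have k0 : A * C * (A * C) = 1 := by rw [mul_assoc, ← mul_assoc C A C, ← hAC, mul_assoc A C C, hC, mul_one, hA]
    have k1 : A * C * B * (A * C) = -B := by
      calc A * C * B * (A * C) = A * (C * B * C) * A := by rw [hAC]; group; rw [hAC]
        _ = _ := by rw [g1, f1]
    have k2 : A * C * D * (A * C) = -D := by
      calc A * C * D * (A * C) = A * (C * D * C) * A := by rw [hAC]; group; rw [hAC]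
        _ = _ := by rw [g2, mul_neg, neg_mul, f2]
    have k3 : A * C * (B * D) * (A * C) = B * D := by
      calc A * C * (B * D) * (A * C) = A * (C * (B * D) * C) * A := by rw [hAC]; group; rw [hAC]
        _ = _ := by rw [g3, mul_neg, neg_mul, f3, neg_neg]
    have z0 : ∀ g : GL (Fin 4) F, act g 0 = 0 := fun g => by rw [hact, Matrix.mulVec_zero]
    simp only [aadd, am, ← mul_assoc, z0] at e2 e3 e4
    simp only [← mul_assoc] at f3 g3 k3 k0 k1 k2
    rw [hA, f1, f2, f3, a1, ang, ang] at e2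
    rw [hC, g1, g2, g3, a1, ang, ang] at e3
    rw [k0, k1, k2, k3, a1, ang, ang] at e4
    rw [am] at e1
    have hsum : (4 : F) • x = 0 := by linear_combination (norm := module) e1 + e2 + e3 + e4
    have := congrFun hsum 0
    rw [hx, Pi.smul_apply, Pi.single_eq_same, smul_eq_mul, mul_one] at this
    exact h4 this
  obtain ⟨v, hv⟩ : ∃ v, v = u + act B u + (act D u + act B (act D u)) := ⟨_, rfl⟩
  rw [← hv] at hu
  have vB : act B v = v := by
    rw [hv]; simp only [aadd, am, ← mul_assoc, hB, one_mul, a1]; abel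
  have vD : act D v = v := by
    rw [hv]; simp only [aadd, am, ← mul_assoc, hD, ← hBD, a1]
    rw [mul_assoc B D D, hD, mul_one]
    abel
  obtain ⟨col, hcol⟩ : ∃ col : Fin 4 → Fin 4 → F, col = ![v, act C v, act A v, act A (act C v)] := ⟨_, rfl⟩
  obtain ⟨M, hM⟩ : ∃ M : Matrix (Fin 4) (Fin 4) F, ∀ i k, M i k = col k i :=
    ⟨Matrix.of fun i k => col k i, fun _ _ => rfl⟩
  have cA : act A (col 0) = col 2 ∧ act A (col 1) = col 3 ∧ act A (col 2) = col 0 ∧ act A (col 3) = col 1 := by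
    simp [hcol, am, hA, a1, ← mul_assoc]
  have cB : act B (col 0) = col 0 ∧ act B (col 1) = col 1 ∧ act B (col 2) = -col 2 ∧ act B (col 3) = -col 3 := by
    simp only [hcol, am, Matrix.cons_val_zero, Matrix.cons_val_one, Matrix.cons_val, ← mul_assoc]
    refine ⟨vB, ?_, ?_, ?_⟩
    · rw [hBC, ← am, vB]
    · rw [hBA, ang, ← am, vB]
    · rw [hBA, neg_mul, ang, mul_assoc, hBC, ← mul_assoc, ← am, vB]
  have cC : act C (col 0) = col 1 ∧ act C (col 1) = col 0 ∧ act C (col 2) = col 3 ∧ act C (col 3) = col 2 := by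
    simp only [hcol, am, Matrix.cons_val_zero, Matrix.cons_val_one, Matrix.cons_val, ← mul_assoc]
    refine ⟨trivial, ?_, ?_, ?_⟩
    · rw [hC, a1]
    · rw [hAC]
    · rw [← hAC, mul_assoc, hC, mul_one]
  have cD : act D (col 0) = col 0 ∧ act D (col 1) = -col 1 ∧ act D (col 2) = col 2 ∧ act D (col 3) = -col 3 := by
    simp only [hcol, am, Matrix.cons_val_zero, Matrix.cons_val_one, Matrix.cons_val, ← mul_assoc]
    refine ⟨vD, ?_, ?_, ?_⟩
    · rw [hDC, ang, ← am, vD]
    · rw [← hAD, ← am, vD]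
    · rw [← hAD, mul_assoc, hDC, mul_neg, ang, ← mul_assoc, ← am, vD]
  have hmv : ∀ x : Fin 4 → F, M *ᵥ x = x 0 • col 0 + x 1 • col 1 + x 2 • col 2 + x 3 • col 3 := fun x => funext fun i => by
    simp only [Matrix.mulVec, dotProduct, Fin.sum_univ_four, hM, Pi.add_apply, Pi.smul_apply, smul_eq_mul]
    ring
  have hcne : ∀ k, col k ≠ 0 := by
    have hz : ∀ {g : GL (Fin 4) F}, g * g = 1 → ∀ {x}, x ≠ 0 → act g x ≠ 0 := fun {g} hg {x} hx h => hx (by
      rw [← a1 x, ← hg, ← am, h, hact, Matrix.mulVec_zero])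
    intro k
    fin_cases k
    · simpa [hcol] using hu
    · simpa [hcol] using hz hC hu
    · simpa [hcol] using hz hA hu
    · simpa [hcol] using hz hA (hz hC hu)
  have hinj : Function.Injective (fun x => M *ᵥ x) := by
    intro x₁ x₂ hx
    obtain ⟨x, hxd⟩ : ∃ x, x = x₁ - x₂ := ⟨_, rfl⟩
    have h0 : M *ᵥ x = 0 := by rw [hxd, Matrix.mulVec_sub, sub_eq_zero]; exact hx
    rw [hmv] at h0
    have hB' := congrArg (act B) h0
    have hD' := congrArg (act D) h0
    have hBD' := congrArg (act B) (congrArg (act D) h0)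
    have z0 : ∀ g : GL (Fin 4) F, act g 0 = 0 := fun g => by rw [hact, Matrix.mulVec_zero]
    have eneg : ∀ g y, act g (-y) = -act g y := fun g y => by rw [hact, hact, Matrix.mulVec_neg]
    simp only [aadd, asm, cB, cD, z0, eneg] at hB' hD' hBD'
    have key : ∀ k, (4 * x k) • col k = 0 → x k = 0 := fun k hk =>
      (mul_eq_zero.1 ((smul_eq_zero.1 hk).resolve_right (hcne k))).resolve_left h4
    have k0 := key 0 (by linear_combination (norm := module) h0 + hB' + hD' + hBD')
    have k1 := key 1 (by linear_combination (norm := module) h0 + hB' - hD' - hBD')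
    have k2 := key 2 (by linear_combination (norm := module) h0 - hB' + hD' - hBD')
    have k3 := key 3 (by linear_combination (norm := module) h0 - hB' - hD' + hBD')
    rw [← sub_eq_zero, ← hxd]
    funext k
    fin_cases k
    · exact k0
    · exact k1
    · exact k2
    · exact k3
  obtain ⟨P, hP⟩ : IsUnit M := Matrix.mulVec_injective_iff_isUnit.1 hinj
  refine ⟨P, ?_⟩
  rw [hP]
  have hmul : ∀ (g : GL (Fin 4) F) (i k : Fin 4), ((g : Matrix (Fin 4) (Fin 4) F) * M) i k = act g (col k) i :=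
    fun g i k => by simp only [Matrix.mul_apply, hact, Matrix.mulVec, dotProduct, hM]
  refine ⟨?_, ?_, ?_, ?_⟩ <;> ext i k <;> rw [hmul, Matrix.mul_apply, Fin.sum_univ_four] <;>
    fin_cases k <;> simp [hM, cA, cB, cC, cD]

end CfsgLib.SLFour.SympType
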