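/-
The action of `SL_4` on alternating matrices in the coordinates attached to a frame of symplectic type.
-/
import Cfsg.Agent.Lib.Classical22.SLFour.SympBasis
import Cfsg.Agent.Lib.Classical22.SLFour.SixBasic
import Cfsg.Agent.Lib.Classical.SmallIso.AltFour

set_option autoImplicit false

namespace CfsgLib.SLFour.SympType

open Matrix Cfsg CfsgLib.Classical CfsgLib.Classical.SmallIso CfsgLib.Classical22
open scoped MatrixGroups

variable {F : Type*} [Field F]

local notation "M4" => Matrix (Fin 4) (Fin 4) F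
local notation "G4" => GL (Fin 4) F

/-- Six elements whose quotients anticommute, attached to a linear parametrisation of the alternating matrices
that turns the Pfaffian into a multiple of the sum of squares. -/
structure Gam (Γ : Fin 6 → G4) (J : M4) (E : (Fin 6 → F) ≃ₗ[F] (Fin 6 → F)) (κ : F) : Prop where
  anti : ∀ a b, a ≠ b → Γ a * (Γ b)⁻¹ = -(Γ b * (Γ a)⁻¹)
  anti' : ∀ a b, a ≠ b → (Γ a)⁻¹ * Γ b = -((Γ b)⁻¹ * Γ a)
  tr : ∀ a, (Γ a : M4) * J = J * (Γ a : M4)ᵀ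
  alt : ∀ x, altMat (E x) = (∑ a, x a • (Γ a : M4)) * J
  pf : ∀ x, altPf (E x) = κ * (x ⬝ᵥ x)
  ne : κ ≠ 0
  two : (2 : F) ≠ 0
  unit : IsUnit J

variable {Γ : Fin 6 → GL (Fin 4) F} {J : Matrix (Fin 4) (Fin 4) F} {E : (Fin 6 → F) ≃ₗ[F] (Fin 6 → F)} {κ : F}

/-- The products of two of the six. -/
def bv (Γ : Fin 6 → G4) (a b : Fin 6) : G4 := Γ a * (Γ b)⁻¹

/-- Congruence of a basis matrix. -/
def img (Γ : Fin 6 → G4) (J : M4) (g : M4) (k : Fin 6) : M4 := g * ((Γ k : M4) * J) * gᵀ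

theorem Gam.tr_inv (G : Gam Γ J E κ) (a : Fin 6) :
    ((Γ a)⁻¹ : G4).val * J = J * ((Γ a)⁻¹ : G4).valᵀ := by
  have h := congrArg (fun M : M4 => ((Γ a)⁻¹ : G4).val * M * ((Γ a)⁻¹ : G4).valᵀ) (G.tr a)
  simp only [mul_assoc, ← Matrix.transpose_mul, Units.inv_mul, Matrix.transpose_one, mul_one] at h
  rw [← mul_assoc ((Γ a)⁻¹ : G4).val (Γ a : M4), Units.inv_mul, one_mul] at h
  exact h.symm

/-- The transpose of a product moves across `J` reversed. -/
theorem Gam.tr_bv (G : Gam Γ J E κ) (a b : Fin 6) :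
    J * (bv Γ a b : M4)ᵀ = ((Γ b)⁻¹ * Γ a : G4).val * J := by
  rw [bv, Units.val_mul, Units.val_mul, Matrix.transpose_mul, ← mul_assoc, ← G.tr_inv b, mul_assoc, ← G.tr a, ← mul_assoc]

theorem Gam.bv_left (G : Gam Γ J E κ) {a b : Fin 6} (h : a ≠ b) :
    (bv Γ a b : M4) * Γ a = -(Γ b : M4) := by
  rw [bv, ← Units.val_mul, ← Units.val_neg, G.anti a b h, neg_mul, inv_mul_cancel_right]

theorem bv_right (a b : Fin 6) : (bv Γ a b : M4) * Γ b = Γ a := by
  rw [bv, ← Units.val_mul, inv_mul_cancel_right]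

theorem Gam.bv_other (G : Gam Γ J E κ) {a b k : Fin 6} (hab : a ≠ b) (hka : k ≠ a) (hkb : k ≠ b) :
    (bv Γ a b : M4) * Γ k = -((Γ k : M4) * ((Γ b)⁻¹ * Γ a : G4).val) := by
  rw [bv, ← Units.val_mul, ← Units.val_mul, ← Units.val_neg, mul_assoc, G.anti' b k (Ne.symm hkb), mul_neg,
    ← mul_assoc, G.anti a k (Ne.symm hka), neg_mul, neg_neg, mul_assoc, G.anti' a b hab, mul_neg]

theorem Gam.rho_sq (G : Gam Γ J E κ) {a b : Fin 6} (h : a ≠ b) :
    ((Γ b)⁻¹ * Γ a : G4).val * ((Γ b)⁻¹ * Γ a : G4).val = -1 := by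
  rw [← Units.val_mul]
  have e : ((Γ b)⁻¹ * Γ a) * ((Γ b)⁻¹ * Γ a) = (-1 : G4) := by
    calc (Γ b)⁻¹ * Γ a * ((Γ b)⁻¹ * Γ a) = (Γ b)⁻¹ * (Γ a * (Γ b)⁻¹) * Γ a := by group
      _ = -1 := by
        rw [G.anti a b h, mul_neg, neg_mul, mul_assoc (Γ b)⁻¹, mul_assoc (Γ b) (Γ a)⁻¹, inv_mul_cancel, mul_one,
          inv_mul_cancel]
  rw [e, Units.val_neg, Units.val_one]

theorem Gam.bv_sq (G : Gam Γ J E κ) {a b : Fin 6} (h : a ≠ b) : bv Γ a b * bv Γ a b = -1 := by
  rw [bv]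
  nth_rewrite 2 [G.anti a b h]
  rw [mul_neg, mul_assoc, inv_mul_cancel_left, mul_inv_cancel]

theorem Gam.img_bv (G : Gam Γ J E κ) {a b : Fin 6} (hab : a ≠ b) (k : Fin 6) :
    img Γ J (bv Γ a b : M4) k = (if k = a ∨ k = b then (-1 : F) else 1) • ((Γ k : M4) * J) := by
  have hr : ((Γ a : M4) * ((Γ b)⁻¹ * Γ a : G4).val) = -(Γ b : M4) := by
    rw [← Units.val_mul, ← mul_assoc, Units.val_mul]; exact G.bv_left hab
  rw [img, show (bv Γ a b : M4) * ((Γ k : M4) * J) * (bv Γ a b : M4)ᵀ =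
    (bv Γ a b : M4) * Γ k * (J * (bv Γ a b : M4)ᵀ) by simp only [mul_assoc], G.tr_bv, ← mul_assoc]
  by_cases hka : k = a
  · subst hka
    rw [G.bv_left hab, if_pos (Or.inl rfl), neg_mul, ← Units.val_mul, mul_inv_cancel_left, neg_one_smul, neg_mul]
  by_cases hkb : k = b
  · subst hkb
    rw [bv_right, hr, if_pos (Or.inr rfl), neg_one_smul, neg_mul]
  rw [G.bv_other hab hka hkb, if_neg (by simp [hka, hkb]), one_smul, neg_mul, mul_assoc (Γ k : M4),
    G.rho_sq hab, mul_neg, mul_one, neg_neg]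

/-- Twice an exchange. -/
theorem Gam.img_turn (G : Gam Γ J E κ) {a b : Fin 6} (hab : a ≠ b) (k : Fin 6) :
    img Γ J (1 + (bv Γ a b : M4)) k =
      if k = a then (-2 : F) • ((Γ b : M4) * J) else if k = b then (2 : F) • ((Γ a : M4) * J)
        else (2 : F) • ((Γ k : M4) * J) := by
  have hr : ((Γ a : M4) * ((Γ b)⁻¹ * Γ a : G4).val) = -(Γ b : M4) := by
    rw [← Units.val_mul, ← mul_assoc, Units.val_mul]; exact G.bv_left hab
  have hr' : ((Γ b : M4) * ((Γ b)⁻¹ * Γ a : G4).val) = Γ a := by rw [← Units.val_mul, mul_inv_cancel_left]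
  rw [img, Matrix.transpose_add, Matrix.transpose_one,
    show (1 + (bv Γ a b : M4)) * ((Γ k : M4) * J) * (1 + (bv Γ a b : M4)ᵀ) =
      (((Γ k : M4) + (bv Γ a b : M4) * Γ k) * (J + J * (bv Γ a b : M4)ᵀ)) by
      simp only [add_mul, mul_add, one_mul, mul_one, mul_assoc],
    G.tr_bv, show J + ((Γ b)⁻¹ * Γ a : G4).val * J = (1 + ((Γ b)⁻¹ * Γ a : G4).val) * J by rw [add_mul, one_mul],
    ← mul_assoc]
  split_ifs with hka hkb
  · subst hka
    rw [G.bv_left hab, add_mul (Γ k : M4), mul_add, mul_add, mul_one, mul_one, hr, neg_mul, hr', ← smul_mul_assoc]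
    congr 1
    module
  · subst hkb
    rw [bv_right, add_mul (Γ k : M4), mul_add, mul_add, mul_one, mul_one, hr, hr', ← smul_mul_assoc]
    congr 1
    module
  · rw [G.bv_other hab hka hkb, add_mul (Γ k : M4), mul_add, mul_add, mul_one, mul_one, neg_mul,
      mul_assoc (Γ k : M4), G.rho_sq hab, mul_neg, mul_one, ← smul_mul_assoc]
    congr 1
    module

theorem img_mul (g h : M4) (k : Fin 6) : img Γ J (g * h) k = g * img Γ J h k * gᵀ := by
  simp only [img, Matrix.transpose_mul, mul_assoc]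

theorem mul_smul_mul (g : M4) (c : F) (l : Fin 6) : g * (c • ((Γ l : M4) * J)) * gᵀ = c • img Γ J g l := by
  rw [mul_smul_comm, smul_mul_assoc, img]

/-- A three-cycle. -/
theorem Gam.exists_cycle (G : Gam Γ J E κ) {a b c : Fin 6} (hab : a ≠ b) (hbc : b ≠ c) (hac : a ≠ c) :
    ∃ w : G4, img Γ J (w : M4) a = (Γ b : M4) * J ∧ img Γ J (w : M4) b = (Γ c : M4) * J ∧
      img Γ J (w : M4) c = (Γ a : M4) * J ∧
      ∀ k, k ≠ a → k ≠ b → k ≠ c → img Γ J (w : M4) k = (Γ k : M4) * J := by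
  have h2 := G.two
  have hu : ∀ {x y : Fin 6}, x ≠ y → IsUnit (1 + (bv Γ x y : M4)) := fun {x y} h => by
    refine IsUnit.of_mul_eq_one (b := (2 : F)⁻¹ • (1 - (bv Γ x y : M4))) ?_
    rw [mul_smul_comm]
    have e : (bv Γ x y : M4) * bv Γ x y = -1 := by
      rw [← Units.val_mul, G.bv_sq h, Units.val_neg, Units.val_one]
    rw [add_mul, one_mul, mul_sub, mul_one, e, show (1 : M4) - bv Γ x y + ((bv Γ x y : M4) - -1) = (2 : F) • 1 by
      module, smul_smul, inv_mul_cancel₀ h2, one_smul]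
  obtain ⟨T₁, hT₁⟩ := hu hab
  obtain ⟨T₂, hT₂⟩ := hu hbc
  obtain ⟨s, hs⟩ : ∃ s : G4, (s : M4) = (2 : F)⁻¹ • 1 := by
    have : IsUnit ((2 : F)⁻¹ • (1 : M4)) :=
      IsUnit.of_mul_eq_one (b := (2 : F) • 1) (by rw [smul_mul_smul_comm, inv_mul_cancel₀ h2, one_mul, one_smul])
    exact ⟨this.unit, rfl⟩
  have hsim : ∀ (c : F) l, (s : M4) * (c • ((Γ l : M4) * J)) * (s : M4)ᵀ = ((2 : F)⁻¹ * (2 : F)⁻¹ * c) • ((Γ l : M4) * J) :=
    fun c l => by
    rw [hs, Matrix.transpose_smul, Matrix.transpose_one, smul_mul_assoc, one_mul, smul_mul_assoc, mul_smul_comm,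
      mul_one, smul_smul, smul_smul, mul_assoc]
  refine ⟨s * (T₁ * (T₂ * bv Γ a b)), ?_, ?_, ?_, fun k hka hkb hkc => ?_⟩ <;>
    rw [Units.val_mul, Units.val_mul, Units.val_mul, img_mul, img_mul, img_mul, G.img_bv hab, hT₁, hT₂,
      mul_smul_mul, G.img_turn hbc]
  · rw [if_pos (Or.inl rfl), if_neg hab, if_neg hac, smul_smul, mul_smul_mul, G.img_turn hab, if_pos rfl,
      smul_smul, hsim]
    convert one_smul F _
    field_simp
  · rw [if_pos (Or.inr rfl), if_pos rfl, smul_smul, mul_smul_mul, G.img_turn hab, if_neg (Ne.symm hac),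
      if_neg (Ne.symm hbc), smul_smul, hsim]
    convert one_smul F _
    field_simp
  · rw [if_neg (by simp [Ne.symm hac, Ne.symm hbc]), if_neg (Ne.symm hbc), if_pos rfl, smul_smul, mul_smul_mul,
      G.img_turn hab, if_neg (Ne.symm hab), if_pos rfl, smul_smul, hsim]
    convert one_smul F _
    field_simp
  · rw [if_neg (by simp [hka, hkb]), if_neg hkb, if_neg hkc, smul_smul, mul_smul_mul, G.img_turn hab, if_neg hka,
      if_neg hkb, smul_smul, hsim]
    convert one_smul F _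
    field_simp

/-- The action of `SL_4` on the six coordinates. -/
theorem Gam.exists_phi (G : Gam Γ J E κ) :
    ∃ φ : Cfsg.Geo.specialLinear (Fin 4) F →* qAut (Frame.sq F 6), ∀ g x,
      altMat (E ((φ g).1 x)) = ((g : G4) : M4) * altMat (E x) * ((g : G4) : M4)ᵀ := by
  obtain ⟨T, hT⟩ : ∃ T : Cfsg.Geo.specialLinear (Fin 4) F → (Fin 6 → F) →ₗ[F] (Fin 6 → F), ∀ g x,
      E (T g x) = wedgeMat ((g : G4) : M4) (E x) :=
    ⟨fun g => E.symm.toLinearMap.comp ((wedgeRep F F ((g : G4) : M4)).comp E.toLinearMap), fun g x => by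
      simp only [LinearMap.comp_apply, LinearEquiv.coe_coe, LinearEquiv.apply_symm_apply, wedgeRep_apply]⟩
  have hmul : ∀ g h x, T g (T h x) = T (g * h) x := fun g h x => E.injective (by
    rw [hT, hT, hT, Subgroup.coe_mul, Units.val_mul, ← wedgeRep_apply F, ← wedgeRep_apply F, ← wedgeRep_apply F,
      map_mul, Module.End.mul_apply])
  have hone : ∀ x, T 1 x = x := fun x => E.injective (by rw [hT, OneMemClass.coe_one, Units.val_one, wedgeMat_one])
  have hdet : ∀ g : Cfsg.Geo.specialLinear (Fin 4) F, ((g : G4) : M4).det = 1 := fun g => by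
    have h := congrArg Units.val (MonoidHom.mem_ker.1 g.2)
    rwa [Matrix.GeneralLinearGroup.val_det_apply, Units.val_one] at h
  refine ⟨{ toFun := fun g => ⟨LinearEquiv.ofLinearMap (T g) (T g⁻¹) (LinearMap.ext fun x => ?_)
              (LinearMap.ext fun x => ?_), fun x => ?_⟩
            map_one' := qAut_ext fun x => hone x
            map_mul' := fun g h => qAut_ext fun x => (hmul g h x).symm }, fun g x => ?_⟩
  · change T g (T g⁻¹ x) = x
    rw [hmul, mul_inv_cancel, hone]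
  · change T g⁻¹ (T g x) = x
    rw [hmul, inv_mul_cancel, hone]
  · change Frame.sq F 6 (T g x) = Frame.sq F 6 x
    rw [Frame.sq_apply, Frame.sq_apply]
    refine mul_left_cancel₀ G.ne ?_
    rw [← G.pf, ← G.pf, hT, altPf_wedge, hdet, one_mul]
  · change altMat (E (T g x)) = _
    rw [hT, altMat_wedge]

theorem Gam.alt_ax (G : Gam Γ J E κ) (k : Fin 6) : altMat (E (Frame.ax k)) = (Γ k : M4) * J := by
  rw [G.alt, Finset.sum_eq_single k (fun b _ hb => by rw [Frame.ax_ne hb, zero_smul])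
    (fun h => absurd (Finset.mem_univ k) h), Frame.ax_self, one_smul]

theorem Gam.alt_smul (G : Gam Γ J E κ) (c : F) (k : Fin 6) :
    altMat (E (c • Frame.ax k)) = c • ((Γ k : M4) * J) := by
  rw [G.alt, ← smul_mul_assoc, Finset.sum_eq_single k
    (fun b _ hb => by rw [Pi.smul_apply, Frame.ax_ne hb, smul_zero, zero_smul])
    (fun h => absurd (Finset.mem_univ k) h), Pi.smul_apply, Frame.ax_self, smul_eq_mul, mul_one]

/-- An element taking a basis matrix to another one has determinant one. -/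
theorem Gam.det_of_img (G : Gam Γ J E κ) {g : G4} {k l : Fin 6} (h : img Γ J (g : M4) k = (Γ l : M4) * J) :
    g ∈ Cfsg.Geo.specialLinear (Fin 4) F := by
  have e : wedgeMat (g : M4) (E (Frame.ax k)) = E (Frame.ax l) := by
    rw [wedgeMat, G.alt_ax, show (g : M4) * ((Γ k : M4) * J) * (g : M4)ᵀ = _ from h, ← G.alt_ax, altCoord_altMat]
  have h' := congrArg altPf e
  rw [altPf_wedge, G.pf, G.pf, Frame.ax_dot, Frame.ax_dot, Frame.ax_self, Frame.ax_self, mul_one] at h'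
  refine MonoidHom.mem_ker.2 (Units.ext ?_)
  rw [Matrix.GeneralLinearGroup.val_det_apply, Units.val_one]
  exact mul_right_cancel₀ G.ne (h'.trans (one_mul κ).symm)

end CfsgLib.SLFour.SympType
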