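/-
`SL_4(p)`: the normaliser of a group of symplectic type of order 64 is maximal.
-/
import Cfsg.Agent.Lib.Classical22.SLFour.Wedge
import Cfsg.Agent.Lib.Classical22.SLFour.SixFrame
import Cfsg.Agent.Lib.Classical22.Frame.Transfer
import Cfsg.Agent.Lib.Classical.SLBasic

set_option autoImplicit false

namespace CfsgLib.SLFour.SympType

open Matrix Cfsg CfsgLib.Classical CfsgLib.Classical.SmallIso CfsgLib.Classical22
open scoped MatrixGroups

variable {F : Type*} [Field F]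

local notation "M4" => Matrix (Fin 4) (Fin 4) F
local notation "G4" => GL (Fin 4) F

/-- The six standard matrices. -/
def std (c : F) : Fin 6 → M4 :=
  ![!![0, 0, 1, 0; 0, 0, 0, 1; 1, 0, 0, 0; 0, 1, 0, 0],
    !![1, 0, 0, 0; 0, 1, 0, 0; 0, 0, -1, 0; 0, 0, 0, -1],
    !![0, 0, 0, c; 0, 0, c, 0; 0, -c, 0, 0; -c, 0, 0, 0],
    !![0, 0, c, 0; 0, 0, 0, -c; -c, 0, 0, 0; 0, c, 0, 0],
    !![0, 0, 0, -1; 0, 0, 1, 0; 0, 1, 0, 0; -1, 0, 0, 0],
    c • 1]

/-- The standard alternating matrix. -/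
def stdJ : M4 := !![0, 1, 0, 0; -1, 0, 0, 0; 0, 0, 0, 1; 0, 0, -1, 0]

theorem std_tr (c : F) (a : Fin 6) : std c a * stdJ = stdJ * (std c a)ᵀ := by
  fin_cases a <;> ext i j <;> fin_cases i <;> fin_cases j <;>
    simp [std, stdJ, Matrix.mul_apply, Fin.sum_univ_four, Matrix.one_apply]

theorem exists_stdE (h2 : (2 : F) ≠ 0) {c : F} (hc : c * c = -1) :
    ∃ E : (Fin 6 → F) ≃ₗ[F] (Fin 6 → F), ∀ x,
      altMat (E x) = (∑ a, x a • std c a) * stdJ ∧ altPf (E x) = -(x ⬝ᵥ x) := by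
  have hc0 : c ≠ 0 := fun h => by rw [h, mul_zero] at hc; exact one_ne_zero (α := F) (by linear_combination hc)
  obtain ⟨L, hL⟩ : ∃ L : (Fin 6 → F) →ₗ[F] (Fin 6 → F), ∀ x, L x =
      ![x 1 + c * x 5, x 4 - c * x 2, x 0 + c * x 3, -x 0 + c * x 3, x 4 + c * x 2, -x 1 + c * x 5] :=
    ⟨{ toFun := fun x =>
          ![x 1 + c * x 5, x 4 - c * x 2, x 0 + c * x 3, -x 0 + c * x 3, x 4 + c * x 2, -x 1 + c * x 5]
       map_add' := fun x y => by funext i; fin_cases i <;> simp <;> ring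
       map_smul' := fun s x => by funext i; fin_cases i <;> simp <;> ring }, fun _ => rfl⟩
  have hinj : Function.Injective L := by
    rw [← LinearMap.ker_eq_bot, LinearMap.ker_eq_bot']
    intro x hx
    rw [hL] at hx
    have e0 := congrFun hx 0
    have e1 := congrFun hx 1
    have e2 := congrFun hx 2
    have e3 := congrFun hx 3
    have e4 := congrFun hx 4
    have e5 := congrFun hx 5
    simp only [Matrix.cons_val_zero, Matrix.cons_val_one, Matrix.cons_val, Pi.zero_apply] at e0 e1 e2 e3 e4 e5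
    funext i
    rw [Pi.zero_apply]
    fin_cases i
    · exact (mul_eq_zero.1 (show (2 : F) * x 0 = 0 by linear_combination e2 - e3)).resolve_left h2
    · exact (mul_eq_zero.1 (show (2 : F) * x 1 = 0 by linear_combination e0 - e5)).resolve_left h2
    · exact (mul_eq_zero.1 (show (2 * c) * x 2 = 0 by linear_combination e4 - e1)).resolve_left (mul_ne_zero h2 hc0)
    · exact (mul_eq_zero.1 (show (2 * c) * x 3 = 0 by linear_combination e2 + e3)).resolve_left (mul_ne_zero h2 hc0)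
    · exact (mul_eq_zero.1 (show (2 : F) * x 4 = 0 by linear_combination e1 + e4)).resolve_left h2
    · exact (mul_eq_zero.1 (show (2 * c) * x 5 = 0 by linear_combination e0 + e5)).resolve_left (mul_ne_zero h2 hc0)
  obtain ⟨E, hE⟩ : ∃ E : (Fin 6 → F) ≃ₗ[F] (Fin 6 → F), ∀ x, E x = L x :=
    ⟨LinearEquiv.ofBijective L ⟨hinj, LinearMap.injective_iff_surjective.1 hinj⟩, fun _ => rfl⟩
  refine ⟨E, fun x => ⟨?_, ?_⟩⟩ <;> rw [hE, hL]
  · ext i j
    fin_cases i <;> fin_cases j <;>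
      simp [altMat, std, stdJ, Matrix.mul_apply, Fin.sum_univ_four, Fin.sum_univ_six, Matrix.one_apply] <;> ring
  · simp only [altPf, dotProduct, Fin.sum_univ_six, Matrix.cons_val_zero, Matrix.cons_val_one, Matrix.cons_val]
    linear_combination (x 5 * x 5 + x 2 * x 2 + x 3 * x 3) * hc

variable [Fintype F] {R : Subgroup (GL (Fin 4) F)}

set_option maxHeartbeats 1000000 in
/-- The coordinates attached to the group. -/
theorem exists_gam_of (hh2 : (2 : F) ≠ 0) (hS0 : Cfsg.Geo.IsSymplecticTypeGroup 2 R)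
    (hirr : Cfsg.Geo.ActsAbsolutelyIrreducibly (Cfsg.Geo.matrixSet R)) (hZ4 : Nat.card (Subgroup.center R) = 4) :
    ∃ (c : F) (z : G4) (e : Fin 5 → G4) (P : G4) (J : M4) (E : (Fin 6 → F) ≃ₗ[F] (Fin 6 → F)) (κ : F),
      c * c = -1 ∧ z ∈ R ∧ (z : M4) = c • 1 ∧ SympTypeFour.Setting R ∧ SympTypeFour.Frame R e ∧
        e 4 = -(e 0 * e 1 * e 2 * e 3) ∧
        (e 1 : M4) * (P : M4) = (P : M4) * std c 1 ∧
        Gam (![e 0, e 1, e 2, e 3, e 4, z] : Fin 6 → G4) J E κ := by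
  classical
  obtain ⟨h2, c, z, hc, hzR, hz, hS, e, hfr, he4, C, D, hC, hD, h0C, h0D, h1C, h1D, hCD, he2, he3⟩ := exists_frame_of hh2 hS0 hirr hZ4
  obtain ⟨P, hA, hB, hC', hD'⟩ :=
    exists_basis h2 (hfr.sq 0) (hfr.sq 1) hC hD (hfr.anti 0 1 (by decide)) hCD h0C h0D h1C h1D
  obtain ⟨Γ, hΓ⟩ : ∃ Γ : Fin 6 → G4, Γ = ![e 0, e 1, e 2, e 3, e 4, z] := ⟨_, rfl⟩
  have hmul : ∀ {u v : M4} {u' v' : M4}, u * (P : M4) = (P : M4) * u' → v * (P : M4) = (P : M4) * v' →
      u * v * (P : M4) = (P : M4) * (u' * v') := fun {u v u' v'} hu hv => by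
    rw [mul_assoc, hv, ← mul_assoc, hu, mul_assoc]
  have hz' : (z : M4) * (P : M4) = (P : M4) * (c • 1) := by
    rw [hz, smul_mul_assoc, one_mul, mul_smul_comm, mul_one]
  have h2' : (e 2 : M4) * (P : M4) = (P : M4) * std c 2 := by
    rw [he2, Units.val_neg, Units.val_mul, Units.val_mul, Units.val_mul, neg_mul, hmul hz' (hmul (hmul hA hB) hC'),
      ← mul_neg]
    congr 1
    ext i j
    fin_cases i <;> fin_cases j <;> simp [std, Matrix.mul_apply, Fin.sum_univ_four, Matrix.one_apply]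
  have h3' : (e 3 : M4) * (P : M4) = (P : M4) * std c 3 := by
    rw [he3, Units.val_neg, Units.val_mul, Units.val_mul, Units.val_mul, neg_mul, hmul hz' (hmul (hmul hA hB) hD'),
      ← mul_neg]
    congr 1
    ext i j
    fin_cases i <;> fin_cases j <;> simp [std, Matrix.mul_apply, Fin.sum_univ_four, Matrix.one_apply]
  have h4' : (e 4 : M4) * (P : M4) = (P : M4) * std c 4 := by
    rw [he4, Units.val_neg, Units.val_mul, Units.val_mul, Units.val_mul, neg_mul, hmul (hmul (hmul hA hB) h2') h3',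
      ← mul_neg]
    congr 1
    ext i j
    fin_cases i <;> fin_cases j <;> simp [std, Matrix.mul_apply, Fin.sum_univ_four] <;> first | linear_combination hc | linear_combination -hc
  have hP : ∀ a, (Γ a : M4) * (P : M4) = (P : M4) * std c a := fun a => by
    rw [hΓ]
    fin_cases a
    · exact hA
    · exact hB
    · exact h2'
    · exact h3'
    · exact h4'
    · exact hz'
  obtain ⟨J, hJ⟩ : ∃ J : M4, J = (P : M4) * stdJ * (P : M4)ᵀ := ⟨_, rfl⟩
  obtain ⟨E₀, hE₀⟩ := exists_stdE h2 hc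
  obtain ⟨W, hW⟩ : ∃ W : (Fin 6 → F) ≃ₗ[F] (Fin 6 → F), ∀ x, W x = wedgeMat (P : M4) x :=
    ⟨LinearEquiv.ofLinearMap (wedgeRep F F (P : M4)) (wedgeRep F F ((P⁻¹ : G4) : M4))
      (by rw [← Module.End.mul_eq_comp, ← map_mul, Units.mul_inv, map_one]; rfl)
      (by rw [← Module.End.mul_eq_comp, ← map_mul, Units.inv_mul, map_one]; rfl), fun _ => rfl⟩
  obtain ⟨E, hE⟩ : ∃ E : (Fin 6 → F) ≃ₗ[F] (Fin 6 → F), E = E₀.trans W := ⟨_, rfl⟩
  have hi : ∀ x : G4, x * x = 1 → x⁻¹ = x := fun x => inv_eq_of_mul_eq_one_right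
  have hzz : z * z = -1 := Units.ext (by
    rw [Units.val_mul, hz, smul_mul_smul_comm, one_mul, hc, neg_one_smul, Units.val_neg, Units.val_one])
  have hzi : z⁻¹ = -z := inv_eq_of_mul_eq_one_right (by rw [mul_neg, hzz, neg_neg])
  have hzc := SympTypeFour.scalar_comm hz
  refine ⟨c, z, e, P, J, E, -(P : M4).det, hc, hzR, hz, hS, hfr, he4, hB, ?_⟩
  rw [← hΓ]
  have hΓ5 : ∀ k : Fin 6, (∃ i, Γ k = e i ∧ ∀ l : Fin 6, Γ l = e i → l = k) ∨ k = 5 := fun k => by
    have hinj : ∀ i j : Fin 5, e i = e j → i = j := fun i j hij => by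
      by_contra hne
      have h := hfr.anti i j hne
      rw [hij] at h
      exact SympTypeFour.neg_ne_self h2 _ h.symm
    have hzne : ∀ i, z ≠ e i := fun i hzi' => by
      have h := hfr.sq i
      rw [← hzi', hzz] at h
      exact SympTypeFour.neg_one_ne (ι := Fin 4) h2 h
    have key : ∀ (i : Fin 5) (l : Fin 6), Γ l = e i → l = i.castSucc := fun i l h => by
      rw [hΓ] at h
      fin_cases l
      · rw [← hinj _ _ h]; rfl
      · rw [← hinj _ _ h]; rfl
      · rw [← hinj _ _ h]; rfl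
      · rw [← hinj _ _ h]; rfl
      · rw [← hinj _ _ h]; rfl
      · exact absurd h (hzne i)
    fin_cases k
    · exact Or.inl ⟨0, by rw [hΓ]; rfl, fun l h => key 0 l h⟩
    · exact Or.inl ⟨1, by rw [hΓ]; rfl, fun l h => key 1 l h⟩
    · exact Or.inl ⟨2, by rw [hΓ]; rfl, fun l h => key 2 l h⟩
    · exact Or.inl ⟨3, by rw [hΓ]; rfl, fun l h => key 3 l h⟩
    · exact Or.inl ⟨4, by rw [hΓ]; rfl, fun l h => key 4 l h⟩
    · exact Or.inr rfl
  have hG5 : Γ 5 = z := by rw [hΓ]; rfl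
  refine ⟨fun a b hab => ?_, fun a b hab => ?_, fun a => ?_, fun x => ?_, fun x => ?_, ?_, h2, ?_⟩
  · rcases hΓ5 a with ⟨i, hai, hia⟩ | rfl <;> rcases hΓ5 b with ⟨j, hbj, hjb⟩ | rfl
    · rw [hai, hbj, hi _ (hfr.sq i), hi _ (hfr.sq j), hfr.anti i j fun hij => hab (hjb a (by rw [hai, hij]))]
    · rw [hai, hG5, hi _ (hfr.sq i), hzi, mul_neg, hzc]
    · rw [hbj, hG5, hi _ (hfr.sq j), hzi, mul_neg, neg_neg, hzc]
    · exact absurd rfl hab
  · rcases hΓ5 a with ⟨i, hai, hia⟩ | rfl <;> rcases hΓ5 b with ⟨j, hbj, hjb⟩ | rfl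
    · rw [hai, hbj, hi _ (hfr.sq i), hi _ (hfr.sq j), hfr.anti i j fun hij => hab (hjb a (by rw [hai, hij]))]
    · rw [hai, hG5, hi _ (hfr.sq i), hzi, neg_mul, neg_neg, hzc]
    · rw [hbj, hG5, hi _ (hfr.sq j), hzi, neg_mul, hzc]
    · exact absurd rfl hab
  · rw [hJ, ← mul_assoc, ← mul_assoc, hP, mul_assoc (P : M4) (std c a), std_tr, mul_assoc _ _ ((Γ a : M4)ᵀ),
      ← Matrix.transpose_mul, hP, Matrix.transpose_mul]
    simp only [mul_assoc]
  · rw [hE, LinearEquiv.trans_apply, hW, altMat_wedge, (hE₀ x).1, hJ]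
    have : (∑ a, x a • (Γ a : M4)) * (P : M4) = (P : M4) * ∑ a, x a • std c a := by
      rw [Finset.sum_mul, Finset.mul_sum]
      exact Finset.sum_congr rfl fun a _ => by rw [smul_mul_assoc, hP, mul_smul_comm]
    simp only [← mul_assoc, this]
  · rw [hE, LinearEquiv.trans_apply, hW, altPf_wedge, (hE₀ x).2]; ring
  · exact neg_ne_zero.2 ((Matrix.isUnit_iff_isUnit_det _).1 P.isUnit).ne_zero
  · have hJ0 : IsUnit (stdJ : M4) :=
      IsUnit.of_mul_eq_one (b := -stdJ) (by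
        ext i j
        fin_cases i <;> fin_cases j <;> simp [stdJ, Matrix.mul_apply, Fin.sum_univ_four])
    rw [hJ]
    exact (P.isUnit.mul hJ0).mul (Matrix.isUnit_transpose _ |>.2 P.isUnit)

/-- The coordinates attached to the data of the statement. -/
theorem exists_gam (hR : Cfsg.Geo.IsLinearSymplecticTypeData 2 R) :
    ∃ (c : F) (z : G4) (e : Fin 5 → G4) (P : G4) (J : M4) (E : (Fin 6 → F) ≃ₗ[F] (Fin 6 → F)) (κ : F),
      c * c = -1 ∧ z ∈ R ∧ (z : M4) = c • 1 ∧ SympTypeFour.Setting R ∧ SympTypeFour.Frame R e ∧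
        e 4 = -(e 0 * e 1 * e 2 * e 3) ∧
        (e 1 : M4) * (P : M4) = (P : M4) * std c 1 ∧
        Gam (![e 0, e 1, e 2, e 3, e 4, z] : Fin 6 → G4) J E κ := by
  obtain ⟨h2, -⟩ := exists_frame hR
  refine exists_gam_of h2 hR.symplecticType hR.absIrred ?_
  obtain ⟨p, e, hrp, -, hcase⟩ := hR.field
  rcases hcase with ⟨h, -⟩ | ⟨-, -, h, -⟩ | ⟨-, -, h, -⟩
  · exact absurd h (by decide)
  · exact h
  · rw [Fintype.card_fin] at h; norm_num at h

/-- The normaliser of a group of symplectic type is maximal in `SL_4(p)`. -/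
theorem sympType_maximal (p : ℕ) (R : Subgroup (GL (Fin 4) F)) (hp : p.Prime) (hF : Fintype.card F = p)
    (hR : Cfsg.Geo.IsLinearSymplecticTypeData 2 R) :
    Cfsg.Geo.IsMaximalIn (Cfsg.Geo.specialLinear (Fin 4) F)
      (Cfsg.Geo.subgroupNormalizer R ⊓ Cfsg.Geo.specialLinear (Fin 4) F) := by
  classical
  obtain ⟨c, z, e, P, J, E, κ, hc, hzR, hz, hS, hfr, he4, hBP, G⟩ := exists_gam hR
  obtain ⟨Γ, hΓ⟩ : ∃ Γ : Fin 6 → G4, Γ = ![e 0, e 1, e 2, e 3, e 4, z] := ⟨_, rfl⟩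
  rw [← hΓ] at G
  have h2 := G.two
  have hzc := SympTypeFour.scalar_comm hz
  have hΓR : ∀ a, Γ a ∈ R := fun a => by
    rw [hΓ]
    fin_cases a <;> simp [hfr.mem, hzR]
  have hΓe : ∀ i : Fin 5, e i = Γ i.castSucc * (Γ 5)⁻¹ * z := fun i => by
    rw [show Γ 5 = z by rw [hΓ]; rfl, inv_mul_cancel_right, hΓ]
    fin_cases i <;> rfl
  have hone : (1 : G4) ∈ R := one_mem R
  have hmz : (-1 : G4) * z ∈ R := mul_mem hS.neg hzR
  have hsc : ∀ (g : G4) (s : F), (g : M4) = s • 1 → s ^ 4 = 1 → g ∈ R := fun g s hg hs => by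
    rcases mul_self_eq_one_iff.1 (show s ^ 2 * s ^ 2 = 1 by rw [← pow_add]; exact hs) with h | h
    · rcases sq_eq_one_iff.1 h with e' | e'
      · rw [show g = 1 from Units.ext (by rw [hg, e', one_smul, Units.val_one])]; exact hone
      · rw [show g = -1 from Units.ext (by rw [hg, e', neg_one_smul, Units.val_neg, Units.val_one])]; exact hS.neg
    · rw [← hc, pow_two] at h
      rcases mul_self_eq_mul_self_iff.1 h with e' | e'
      · rw [show g = z from Units.ext (by rw [hg, e', hz])]; exact hzR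
      · rw [show g = -1 * z from Units.ext (by rw [hg, e', neg_smul, neg_one_mul, Units.val_neg, hz])]; exact hmz
  -- elements moving the five involutions into the group normalise it
  have hnormal : ∀ g : G4, (∀ i, g * e i * g⁻¹ ∈ R) → g ∈ Cfsg.Geo.subgroupNormalizer R := by
    intro g hg
    refine SympTypeFour.normalizer_of_le fun r hr => ?_
    obtain ⟨K, hK⟩ : ∃ K : Subgroup G4, K = R ⊓ R.comap (MulAut.conj g).toMonoidHom := ⟨_, rfl⟩
    have hKm : ∀ u, u ∈ K ↔ u ∈ R ∧ g * u * g⁻¹ ∈ R := fun u => by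
      rw [hK, Subgroup.mem_inf, Subgroup.mem_comap]; rfl
    have heK : ∀ i, e i ∈ K := fun i => (hKm _).2 ⟨hfr.mem i, hg i⟩
    suffices hrK : r ∈ K from ((hKm r).1 hrK).2
    have step : ∀ (j : Fin 5), j ≠ 4 → ∀ u ∈ R, ∃ k ∈ K, (u * k) * e j = e j * (u * k) ∧
        ∀ i, i ≠ j → i ≠ 4 → u * e i = e i * u → (u * k) * e i = e i * (u * k) := by
      intro j hj u hu
      rcases hS.comm u hu (e j) (hfr.mem j) with h | h
      · exact ⟨1, one_mem K, by rw [mul_one, h], fun i _ _ h' => by rw [mul_one, h']⟩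
      refine ⟨e j * e 4, mul_mem (heK j) (heK 4), ?_, fun i hij hi h' => ?_⟩
      · have h1 : e j * e 4 * e j = -(e j * (e j * e 4)) := by
          rw [mul_assoc, hfr.anti 4 j (Ne.symm hj), mul_neg]
        rw [mul_assoc u, h1, mul_neg, ← mul_assoc u, h, neg_mul, neg_neg, mul_assoc]
      · have h1 : e j * e 4 * e i = e i * (e j * e 4) := by
          rw [mul_assoc, hfr.anti 4 i (Ne.symm hi), mul_neg, ← mul_assoc, hfr.anti j i (Ne.symm hij), neg_mul, neg_neg,
            mul_assoc]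
        rw [mul_assoc u, h1, ← mul_assoc, h', mul_assoc]
    obtain ⟨k0, hk0, c0, -⟩ := step 0 (by decide) r hr
    have hr0 := mul_mem hr ((hKm _).1 hk0).1
    obtain ⟨k1, hk1, c1, p1⟩ := step 1 (by decide) _ hr0
    have hr1 := mul_mem hr0 ((hKm _).1 hk1).1
    obtain ⟨k2, hk2, c2, p2⟩ := step 2 (by decide) _ hr1
    have hr2 := mul_mem hr1 ((hKm _).1 hk2).1
    obtain ⟨k3, hk3, c3, p3⟩ := step 3 (by decide) _ hr2
    have hr3 := mul_mem hr2 ((hKm _).1 hk3).1
    obtain ⟨x, hx⟩ : ∃ x, x = r * k0 * k1 * k2 * k3 := ⟨_, rfl⟩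
    rw [← hx] at c3 hr3
    have x0 : x * e 0 = e 0 * x :=
      hx ▸ p3 0 (by decide) (by decide) (p2 0 (by decide) (by decide) (p1 0 (by decide) (by decide) c0))
    have x1 : x * e 1 = e 1 * x := hx ▸ p3 1 (by decide) (by decide) (p2 1 (by decide) (by decide) c1)
    have x2 : x * e 2 = e 2 * x := hx ▸ p3 2 (by decide) (by decide) c2
    have hall : ∀ i, x * e i = e i * x := fun i => by
      fin_cases i
      · exact x0
      · exact x1
      · exact x2
      · exact c3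
      · show x * e 4 = e 4 * x
        rw [he4, mul_neg, neg_mul]
        congr 1
        simp only [mul_assoc]
        rw [← c3, ← mul_assoc (e 2) x, ← x2, mul_assoc x, ← mul_assoc (e 1) x, ← x1, mul_assoc x, ← mul_assoc (e 0) x,
          ← x0, mul_assoc x]
    obtain ⟨s, -, hs⟩ := SympTypeFour.scalar_of_commute hS.irr fun a ha => hfr.gen a ha x hall
    have hxK : x ∈ K := (hKm x).2 ⟨hr3, by
      rw [show g * x * g⁻¹ = x by rw [← SympTypeFour.scalar_comm hs g, mul_inv_cancel_right]]; exact hr3⟩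
    have : r = x * k3⁻¹ * k2⁻¹ * k1⁻¹ * k0⁻¹ := by rw [hx]; group
    rw [this]
    exact mul_mem (mul_mem (mul_mem (mul_mem hxK (inv_mem hk3)) (inv_mem hk2)) (inv_mem hk1)) (inv_mem hk0)
  obtain ⟨φ, hφ⟩ := G.exists_phi
  have hEinj : Function.Injective fun x => altMat (E x) := fun x y h => E.injective (by
    rw [← altCoord_altMat (E x), ← altCoord_altMat (E y)]; exact congrArg altCoord h)
  have hact : ∀ (g : Cfsg.Geo.specialLinear (Fin 4) F) k l (s : F),
      img Γ J ((g : G4) : M4) k = s • ((Γ l : M4) * J) ↔ (φ g).1 (Frame.ax k) = s • Frame.ax l := fun g k l s => by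
    rw [← G.alt_smul, img, ← G.alt_ax, ← hφ]
    exact ⟨fun h => hEinj h, fun h => by rw [h]⟩
  have hunit : ∀ a, IsUnit ((Γ a : M4) * J) := fun a => (Γ a).isUnit.mul G.unit
  -- the quotients of a permuted set
  have hquot : ∀ (g : G4) (k l m n : Fin 6) (s t : F), s * s = 1 → t * t = 1 →
      img Γ J (g : M4) k = s • ((Γ m : M4) * J) → img Γ J (g : M4) l = t • ((Γ n : M4) * J) →
      ∃ σ : F, σ * σ = 1 ∧ ((g * (Γ k * (Γ l)⁻¹) * g⁻¹ : G4) : M4) = σ • ((Γ m * (Γ n)⁻¹ : G4) : M4) := by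
    intro g k l m n s t hs ht hk hl
    obtain ⟨X, hX⟩ : ∃ X : G4, (X : M4) = J * (g : M4)ᵀ :=
      ⟨(G.unit.mul ((Matrix.isUnit_transpose _).2 g.isUnit)).unit, rfl⟩
    refine ⟨s * t, by linear_combination (t * t) * hs + ht, ?_⟩
    obtain ⟨T, hT⟩ : ∃ T : G4, (T : M4) = (Γ n : M4) * J := ⟨(hunit n).unit, rfl⟩
    have el : ((g * Γ l * X : G4) : M4) = t • (T : M4) := by
      rw [hT, ← hl, img, Units.val_mul, Units.val_mul, hX]
      simp only [mul_assoc]
    have ek : ((g * Γ k * X : G4) : M4) = s • ((Γ m * (Γ n)⁻¹ * T : G4) : M4) := by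
      rw [Units.val_mul (Γ m * (Γ n)⁻¹), hT, Units.val_mul (Γ m), mul_assoc (Γ m : M4), ← mul_assoc _ (Γ n : M4),
        Units.inv_mul, one_mul, ← hk, img, Units.val_mul, Units.val_mul, hX]
      simp only [mul_assoc]
    have h1 : g * (Γ k * (Γ l)⁻¹) * g⁻¹ = g * Γ k * X * (g * Γ l * X)⁻¹ := by group
    have h3 : (((g * Γ l * X)⁻¹ : G4) : M4) = t • ((T⁻¹ : G4) : M4) := by
      have : ((g * Γ l * X : G4) : M4) * (t • ((T⁻¹ : G4) : M4)) = 1 := by
        rw [el, smul_mul_smul_comm, ht, one_smul, Units.mul_inv]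
      rw [← mul_one (((g * Γ l * X)⁻¹ : G4) : M4), ← this, Units.inv_mul_cancel_left]
    rw [h1, Units.val_mul, ek, h3, smul_mul_smul_comm, ← Units.val_mul, mul_inv_cancel_right]
  have hmono : ∀ g : Cfsg.Geo.specialLinear (Fin 4) F, Frame.Mono (φ g) → (g : G4) ∈ Cfsg.Geo.subgroupNormalizer R := by
    intro g hg
    refine hnormal _ fun i => ?_
    obtain ⟨m, s, hm⟩ := hg i.castSucc
    obtain ⟨n, t, hn⟩ := hg 5
    obtain ⟨σ, hσ, h⟩ := hquot _ i.castSucc 5 m n s t (Frame.mono_coeff hm) (Frame.mono_coeff hn)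
      ((hact g _ _ _).2 hm) ((hact g _ _ _).2 hn)
    rw [hΓe, show (g : G4) * (Γ i.castSucc * (Γ 5)⁻¹ * z) * (g : G4)⁻¹ =
      (g : G4) * (Γ i.castSucc * (Γ 5)⁻¹) * (g : G4)⁻¹ * z by
      simp only [mul_assoc]
      rw [hzc (g : G4)⁻¹]]
    refine mul_mem ?_ hzR
    rcases mul_self_eq_one_iff.1 hσ with rfl | rfl
    · rw [show (g : G4) * (Γ i.castSucc * (Γ 5)⁻¹) * (g : G4)⁻¹ = Γ m * (Γ n)⁻¹ from
        Units.ext (by rw [h, one_smul])]
      exact mul_mem (hΓR m) (inv_mem (hΓR n))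
    · rw [show (g : G4) * (Γ i.castSucc * (Γ 5)⁻¹) * (g : G4)⁻¹ = -1 * (Γ m * (Γ n)⁻¹) from
        Units.ext (by rw [h, neg_one_smul, Units.val_mul (-1 : G4), Units.val_neg, Units.val_one, neg_one_mul])]
      exact mul_mem hS.neg (mul_mem (hΓR m) (inv_mem (hΓR n)))
  have hker : ∀ g : Cfsg.Geo.specialLinear (Fin 4) F, φ g = 1 → (g : G4) ∈ R := by
    intro g hg
    have hfix : ∀ k, img Γ J ((g : G4) : M4) k = (1 : F) • ((Γ k : M4) * J) := fun k =>
      (hact g k k 1).2 (by rw [hg, one_smul]; rfl)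
    have hcomm : ∀ i, (g : G4) * e i = e i * (g : G4) := fun i => by
      have h : (g : G4) * (Γ i.castSucc * (Γ 5)⁻¹) * (g : G4)⁻¹ = Γ i.castSucc * (Γ 5)⁻¹ := by
        obtain ⟨X, hX⟩ : ∃ X : G4, (X : M4) = J * ((g : G4) : M4)ᵀ :=
          ⟨(G.unit.mul ((Matrix.isUnit_transpose _).2 (g : G4).isUnit)).unit, rfl⟩
        obtain ⟨U, hU⟩ : ∃ U : G4, (U : M4) = J := ⟨G.unit.unit, rfl⟩
        have e1 : ∀ k, (g : G4) * Γ k * X = Γ k * U := fun k => Units.ext (by
          rw [Units.val_mul, Units.val_mul, Units.val_mul, hX, hU, ← one_smul F ((Γ k : M4) * J), ← hfix, img]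
          simp only [mul_assoc])
        calc (g : G4) * (Γ i.castSucc * (Γ 5)⁻¹) * (g : G4)⁻¹ =
            (g : G4) * Γ i.castSucc * X * ((g : G4) * Γ 5 * X)⁻¹ := by group
          _ = _ := by rw [e1, e1]; group
      rw [hΓe, ← mul_assoc, mul_inv_eq_iff_eq_mul.1 h, mul_assoc _ (g : G4) z, ← hzc, ← mul_assoc]
    obtain ⟨s, -, hs⟩ := SympTypeFour.scalar_of_commute hS.irr fun a ha => hfr.gen a ha _ hcomm
    refine hsc _ s hs ?_
    have h := congrArg Units.val (MonoidHom.mem_ker.1 g.2)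
    rw [Matrix.GeneralLinearGroup.val_det_apply, Units.val_one, hs, Matrix.det_smul, Matrix.det_one, mul_one,
      Fintype.card_fin] at h
    exact h
  refine ⟨lt_of_le_not_ge inf_le_right fun hle => ?_, fun X hHX hXK => ?_⟩
  · -- some transvection does not normalise
    obtain ⟨h, hh⟩ : ∃ h : G4, (h : M4) = (P : M4) * Matrix.transvection 0 2 1 * ((P⁻¹ : G4) : M4) := by
      obtain ⟨T, hT⟩ : IsUnit (Matrix.transvection (0 : Fin 4) 2 (1 : F)) :=
        (Matrix.isUnit_iff_isUnit_det _).2 (by rw [Matrix.det_transvection_of_ne _ _ (by decide)]; exact isUnit_one)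
      exact ⟨P * T * P⁻¹, by rw [Units.val_mul, Units.val_mul, hT]⟩
    have hhS : h ∈ Cfsg.Geo.specialLinear (Fin 4) F := MonoidHom.mem_ker.2 (Units.ext (by
      rw [Matrix.GeneralLinearGroup.val_det_apply, hh, Units.val_one, Matrix.det_units_conj,
        Matrix.det_transvection_of_ne _ _ (by decide)]))
    have hr : h * e 1 * h⁻¹ * e 1 ∈ R :=
      mul_mem (SympTypeFour.conj_mem_of_normalizer (hle hhS).1 _ (hfr.mem 1)) (hfr.mem 1)
    obtain ⟨r, hrdef⟩ : ∃ r, r = h * e 1 * h⁻¹ * e 1 := ⟨_, rfl⟩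
    rw [← hrdef] at hr
    have hP : ∀ (s : F), Matrix.transvection (0 : Fin 4) 2 s * Matrix.transvection 0 2 (-s) = 1 := fun s => by
      rw [Matrix.transvection_mul_transvection_same (0 : Fin 4) 2 (by decide), add_neg_cancel, Matrix.transvection_zero]
    have hhi : ((h⁻¹ : G4) : M4) = (P : M4) * Matrix.transvection 0 2 (-1) * ((P⁻¹ : G4) : M4) := by
      have : (h : M4) * ((P : M4) * Matrix.transvection 0 2 (-1) * ((P⁻¹ : G4) : M4)) = 1 := by
        rw [hh]
        simp only [mul_assoc]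
        rw [Units.inv_mul_cancel_left, ← mul_assoc (Matrix.transvection _ _ _), hP, one_mul, Units.mul_inv]
      rw [← mul_one ((h⁻¹ : G4) : M4), ← this, Units.inv_mul_cancel_left]
    have hrP : (r : M4) * (P : M4) = (P : M4) * Matrix.transvection 0 2 2 := by
      have hbe : std c 1 * (Matrix.transvection (0 : Fin 4) 2 (-1) * std c 1) = Matrix.transvection 0 2 1 := by
        ext i j
        fin_cases i <;> fin_cases j <;> simp [std, Matrix.transvection, Matrix.mul_apply, Fin.sum_univ_four]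
      rw [hrdef, Units.val_mul, Units.val_mul, Units.val_mul, hh, hhi]
      simp only [mul_assoc]
      rw [hBP, Units.inv_mul_cancel_left, ← mul_assoc ((P⁻¹ : G4) : M4) (e 1 : M4), mul_assoc _ (e 1 : M4),
        ← mul_assoc (e 1 : M4), hBP]
      simp only [mul_assoc]
      rw [Units.inv_mul_cancel_left, hbe, Matrix.transvection_mul_transvection_same (0 : Fin 4) 2 (by decide)]
      norm_num
    have hr4 : r ^ 4 = 1 := by
      rcases hS.sq r hr with h' | h' <;>
        rw [show r ^ 4 = (r * r) * (r * r) by simp only [pow_succ, pow_zero, one_mul, mul_assoc], h'] <;> simp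
    have h8 : (r : M4) * ((r : M4) * ((r : M4) * ((r : M4) * (P : M4)))) =
        (P : M4) * Matrix.transvection 0 2 (2 + (2 + (2 + 2))) := by
      rw [hrP, ← mul_assoc (r : M4) (P : M4), hrP, mul_assoc, Matrix.transvection_mul_transvection_same (0 : Fin 4) 2 (by decide),
        ← mul_assoc (r : M4) (P : M4), hrP, mul_assoc, Matrix.transvection_mul_transvection_same (0 : Fin 4) 2 (by decide),
        ← mul_assoc (r : M4) (P : M4), hrP, mul_assoc, Matrix.transvection_mul_transvection_same (0 : Fin 4) 2 (by decide)]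
    have h8' : (P : M4) = (P : M4) * Matrix.transvection 0 2 (2 + (2 + (2 + 2))) := by
      rw [← h8]
      simp only [← mul_assoc, ← Units.val_mul]
      rw [show r * r * r * r = r ^ 4 by simp only [pow_succ, pow_zero, one_mul], hr4, one_mul]
    have h1 : (1 : M4) = Matrix.transvection 0 2 (2 + (2 + (2 + 2))) :=
      P.isUnit.mul_left_cancel ((mul_one _).trans h8')
    have := congrFun (congrFun h1 0) 2
    simp [Matrix.transvection] at this
    exact mul_ne_zero h2 (mul_ne_zero h2 h2) (by linear_combination -this)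
  obtain ⟨H, hH⟩ : ∃ H, H = (X.subgroupOf (Cfsg.Geo.specialLinear (Fin 4) F)).map φ := ⟨_, rfl⟩
  have hsm : ∀ (g : G4) (hg : g ∈ Cfsg.Geo.specialLinear (Fin 4) F), g ∈ X → φ ⟨g, hg⟩ ∈ H := fun g hg hgX =>
    hH ▸ ⟨⟨g, hg⟩, hgX, rfl⟩
  have hprime : (Fintype.card F).Prime := hF ▸ hp
  have B : Frame.Base H := by
    refine ⟨h2, hprime, by norm_num, fun i j hij => ?_, fun a b d hab hbd had => ?_⟩
    · obtain ⟨k, hk⟩ : ∃ k : Fin 6, k ≠ i ∧ k ≠ j := by
        obtain ⟨k, -, hk⟩ := Finset.exists_mem_notMem_of_card_lt_card (s := ({i, j} : Finset (Fin 6)))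
          (t := Finset.univ) (lt_of_le_of_lt Finset.card_le_two (by simp))
        exact ⟨k, by simpa [not_or] using hk⟩
      have hbS : bv Γ i j ∈ Cfsg.Geo.specialLinear (Fin 4) F :=
        G.det_of_img (k := k) (l := k) (by rw [G.img_bv hij, if_neg (by simp [hk.1, hk.2]), one_smul])
      have hbR : bv Γ i j ∈ R := mul_mem (hΓR i) (inv_mem (hΓR j))
      have h := hsm _ hbS (hHX ⟨Subgroup.le_normalizer hbR, hbS⟩)
      convert h using 1
      refine Frame.qAut_ext_ax fun l => ?_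
      rw [(hact ⟨_, hbS⟩ l l (if l = i ∨ l = j then -1 else 1)).1 (G.img_bv hij l), qAut_mul_apply]
      by_cases hli : l = i
      · subst hli
        rw [Frame.refl_ax_fix (Frame.ax_ne (Ne.symm hij)), Frame.refl_ax_self, if_pos (Or.inl rfl), neg_one_smul]
      by_cases hlj : l = j
      · subst hlj
        rw [Frame.refl_ax_self, map_neg, Frame.refl_ax_fix (Frame.ax_ne hij), if_pos (Or.inr rfl), neg_one_smul]
      rw [Frame.refl_ax_fix (Frame.ax_ne (Ne.symm hlj)), Frame.refl_ax_fix (Frame.ax_ne (Ne.symm hli)),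
        if_neg (by simp [hli, hlj]), one_smul]
    · obtain ⟨w, w1, w2, w3, w4⟩ := G.exists_cycle hab hbd had
      have hwS : w ∈ Cfsg.Geo.specialLinear (Fin 4) F := G.det_of_img w1
      have a1 := (hact ⟨w, hwS⟩ a b 1).1 (by rw [one_smul]; exact w1)
      have a2 := (hact ⟨w, hwS⟩ b d 1).1 (by rw [one_smul]; exact w2)
      have a3 := (hact ⟨w, hwS⟩ d a 1).1 (by rw [one_smul]; exact w3)
      have a4 := fun k h1 h2' h3 => (hact ⟨w, hwS⟩ k k 1).1 (by rw [one_smul]; exact w4 k h1 h2' h3)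
      rw [one_smul] at a1 a2 a3
      simp only [one_smul] at a4
      have heq : φ ⟨w, hwS⟩ = Frame.swp h2 hab * Frame.swp h2 hbd := Frame.qAut_ext_ax fun k => by
        rw [qAut_mul_apply]
        by_cases k1 : k = a
        · subst k1; rw [a1, Frame.swp_other _ _ (Ne.symm hab) (Ne.symm had), Frame.swp_left]
        by_cases k2 : k = b
        · subst k2; rw [a2, Frame.swp_left, Frame.swp_other _ _ had hbd]
        by_cases k3 : k = d
        · subst k3; rw [a3, Frame.swp_right, Frame.swp_right]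
        rw [a4 k k1 k2 k3, Frame.swp_other _ _ (Ne.symm k2) (Ne.symm k3),
          Frame.swp_other _ _ (Ne.symm k1) (Ne.symm k2)]
      have hwN : w ∈ Cfsg.Geo.subgroupNormalizer R := hmono ⟨w, hwS⟩ (by
        rw [heq]; exact Six.cy_mono hab hbd had)
      exact heq ▸ hsm w hwS (hHX ⟨hwN, hwS⟩)
  rcases B.even_dichotomy ⟨3, rfl⟩ with hstab | hfull
  · refine Or.inl (le_antisymm (le_inf (fun g hg => ?_) hXK) hHX)
    exact hmono ⟨g, hXK hg⟩ ((⟨B, hstab, Six.five_of_root B.two B.prime hc⟩ : Six.Ctx H).all_mono _ (hsm g (hXK hg) hg))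
  right
  refine le_antisymm hXK fun g hg => ?_
  obtain ⟨f, hf⟩ : ∃ f : Matrix.SpecialLinearGroup (Fin 4) F →* Cfsg.Geo.specialLinear (Fin 4) F,
      ∀ A, ((f A : G4) : M4) = A.1 := by
    refine ⟨MonoidHom.codRestrict Matrix.SpecialLinearGroup.toGL _ fun A => MonoidHom.mem_ker.2 (Units.ext ?_),
      fun A => rfl⟩
    rw [Matrix.GeneralLinearGroup.val_det_apply]
    exact A.2
  have hperf := CfsgLib.Classical.commutator_SL_eq_top (F := F) (ι := Fin 4) (by simp)
  obtain ⟨A, hA⟩ : ∃ A, f A = ⟨g, hg⟩ := ⟨⟨(g : M4), by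
    have h := congrArg Units.val (MonoidHom.mem_ker.1 hg)
    rwa [Matrix.GeneralLinearGroup.val_det_apply, Units.val_one] at h⟩, Subtype.ext (Units.ext (hf _))⟩
  have hin : φ ⟨g, hg⟩ ∈ H := by
    refine hfull ?_
    rw [eichGroup_eq_commutator _ (Frame.polarNondeg_sq h2) (by rw [Module.finrank_fin_fun]; norm_num), ← hA]
    have hm := Subgroup.mem_map_of_mem (φ.comp f)
      (show A ∈ commutator (Matrix.SpecialLinearGroup (Fin 4) F) by rw [hperf]; trivial)
    rw [commutator_def, Subgroup.map_commutator] at hm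
    rw [commutator_def]
    exact Subgroup.commutator_mono le_top le_top hm
  obtain ⟨m, hm, hmg⟩ := (hH ▸ hin : φ ⟨g, hg⟩ ∈ (X.subgroupOf (Cfsg.Geo.specialLinear (Fin 4) F)).map φ)
  obtain ⟨d, hd⟩ : ∃ d : Cfsg.Geo.specialLinear (Fin 4) F, d = m⁻¹ * ⟨g, hg⟩ := ⟨_, rfl⟩
  have hdR : (d : G4) ∈ R := hker d (by rw [hd, map_mul, map_inv, hmg, inv_mul_cancel])
  have hdX : (d : G4) ∈ X := hHX ⟨Subgroup.le_normalizer hdR, d.2⟩
  rw [show g = (m : G4) * (d : G4) by rw [hd]; simp]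
  exact mul_mem hm hdX

end CfsgLib.SLFour.SympType

namespace CfsgLib.SLFour

/-- The normaliser of a group of symplectic type is maximal in `SL_4(p)`. -/
theorem sympType_maximal {F : Type*} [Field F] [Fintype F] (p : ℕ) (R : Subgroup (GL (Fin 4) F)) (hp : p.Prime)
    (hF : Fintype.card F = p) (hR : Cfsg.Geo.IsLinearSymplecticTypeData 2 R) :
    Cfsg.Geo.IsMaximalIn (Cfsg.Geo.specialLinear (Fin 4) F)
      (Cfsg.Geo.subgroupNormalizer R ⊓ Cfsg.Geo.specialLinear (Fin 4) F) :=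
  SympType.sympType_maximal p R hp hF hR

end CfsgLib.SLFour
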