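/-
SL_4: the subspace and subfield conjuncts of the geometric maximality list.
-/
import Cfsg.Agent.Lib.SLGeometric

set_option autoImplicit false
set_option linter.all false

open Cfsg

namespace CfsgLib.SLFour

namespace Subspace


open CfsgLib.Transvec Matrix

theorem subspace_maximal {F : Type*} [Field F] [Fintype F] (n : ℕ) (W : Submodule F (Fin n → F)) (hW0 : W ≠ ⊥) (hW1 : W ≠ ⊤) : Cfsg.Geo.IsMaximalIn (Cfsg.Geo.specialLinear (Fin n) F) (Cfsg.Geo.subspaceStabilizer W ⊓ Cfsg.Geo.specialLinear (Fin n) F) := by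
  refine ⟨lt_of_le_not_ge inf_le_right fun hle => ?_, fun M hHM hMK => ?_⟩
  · obtain ⟨g, hg, hg'⟩ := exists_transv_not_stab hW0 hW1
    exact hg' (hle hg).1
  by_cases hM : M ≤ Cfsg.Geo.subspaceStabilizer W
  · exact Or.inl (le_antisymm (le_inf hM hMK) hHM)
  right
  obtain ⟨g, hgM, hg⟩ := SetLike.not_le_iff_exists.mp hM
  obtain ⟨w, hw, hgw⟩ : ∃ w ∈ W, (g : Matrix (Fin n) (Fin n) F) *ᵥ w ∉ W := by
    by_contra h
    simp only [not_exists, not_and, not_not] at h
    exact hg (mem_subspaceStabilizer_of_maps h)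
  obtain ⟨u, hu⟩ : ∃ u, u = (g : Matrix (Fin n) (Fin n) F) *ᵥ w := ⟨_, rfl⟩
  rw [← hu] at hgw
  have hmem : ∀ v φ : Fin n → F, φ ⬝ᵥ v = 0 → (v ∈ W ∨ ∀ x ∈ W, φ ⬝ᵥ x = 0) → transv v φ ∈ M :=
    fun v φ hd h => hHM ⟨h.elim (transv_mem_stab_of_mem hd) (transv_mem_stab_of_ker hd),
      transv_mem_specialLinear v φ⟩
  have hupairs : ∀ φ : Fin n → F, φ ⬝ᵥ u = 0 → FullPair M u φ := by
    rw [hu]
    exact allPairs_conj hgM fun φ hφ a => hmem w _ (by rw [smul_dotProduct, hφ, smul_zero]) (Or.inl hw)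
  refine le_antisymm hMK (specialLinear_le fun x φ hφ => ?_)
  by_cases hx : x ∈ W
  · exact hmem x φ hφ (Or.inl hx)
  suffices hall : ∀ ψ : Fin n → F, ψ ⬝ᵥ x = 0 → FullPair M x ψ by
    simpa using hall φ hφ 1
  by_cases hcase : u ∈ W ⊔ Submodule.span F {x - u}
  · obtain ⟨w', hw', y, hy, hwy⟩ := Submodule.mem_sup.mp hcase
    obtain ⟨a, rfl⟩ := Submodule.mem_span_singleton.mp hy
    have ha : a ≠ 0 := fun h => hgw (by rw [← hwy, h, zero_smul, add_zero]; exact hw')
    obtain ⟨c, hc⟩ : ∃ c, c = (1 + a) / a := ⟨_, rfl⟩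
    obtain ⟨d, hd⟩ : ∃ d, d = -(a⁻¹) • w' := ⟨_, rfl⟩
    have hdW : d ∈ W := hd ▸ W.smul_mem _ hw'
    have hxe : x = c • u + d := by
      funext i
      have h := congrFun hwy i
      simp only [Pi.add_apply, Pi.smul_apply, Pi.sub_apply, smul_eq_mul] at h
      rw [hc, hd]
      simp only [Pi.add_apply, Pi.smul_apply, smul_eq_mul]
      field_simp
      linear_combination h
    have hc0 : c ≠ 0 := fun h => hx (by rw [hxe, h, zero_smul, zero_add]; exact hdW)
    obtain ⟨ψ, hψ, hψu⟩ := exists_functional (E := Submodule.span F {d}) (u := c • u) (fun h => by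
      obtain ⟨b, hb⟩ := Submodule.mem_span_singleton.mp h
      exact hgw ((Submodule.smul_mem_iff _ hc0).mp (hb ▸ W.smul_mem b hdW)))
    have hψd := hψ d (Submodule.mem_span_singleton_self d)
    have hcu : ∀ φ : Fin n → F, φ ⬝ᵥ (c • u) = 0 → FullPair M (c • u) φ := fun φ hφ => by
      rw [dotProduct_smul, smul_eq_mul, mul_eq_zero, or_iff_right hc0] at hφ
      exact fullPair_smul_left hφ (hupairs φ hφ) c
    have h := allPairs_conj (hmem d ψ hψd (Or.inl hdW)) hcu
    rwa [transv_mulVec hψd, hψu, one_smul, ← hxe] at h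
  · obtain ⟨ψ, hψ, hψu⟩ := exists_functional hcase
    have hd := hψ (x - u) (Submodule.mem_sup_right (Submodule.mem_span_singleton_self _))
    have h := allPairs_conj (hmem (x - u) ψ hd (Or.inr fun y hy => hψ y (Submodule.mem_sup_left hy))) hupairs
    rwa [transv_move hd hψu] at h

end Subspace

namespace Subfield


open CfsgLib.Transvec Matrix
open scoped MatrixGroups

theorem subfield_maximal {F : Type*} [Field F] [Fintype F] (n : ℕ) (hn : 4 ≤ n) (F₀ : Subfield F) (r : ℕ) (hr : r.Prime) (hcard : Fintype.card F = Nat.card F₀ ^ r) (P : Matrix.GeneralLinearGroup (Fin n) F) : Cfsg.Geo.IsMaximalIn (Cfsg.Geo.specialLinear (Fin n) F) (Cfsg.Geo.subfieldSubgroup F₀ P ⊓ Cfsg.Geo.specialLinear (Fin n) F) := by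
  classical
  have hlt : F₀ < (⊤ : Subfield F) := by
    refine lt_top_iff_ne_top.mpr fun h => ?_
    have h1 : Nat.card F₀ = Fintype.card F := by
      rw [← Nat.card_eq_fintype_card]
      exact Nat.card_congr (Equiv.subtypeUnivEquiv fun x => by rw [h]; trivial)
    rw [h1] at hcard
    have h2 : 1 < Fintype.card F := Fintype.one_lt_card
    exact absurd ((Nat.pow_eq_self_iff h2).mp hcard.symm) hr.one_lt.ne'
  have hgen : ∀ R : Subfield F, F₀ < R → R = ⊤ := by
    intro R hR'
    letI : Algebra F₀ R := (Subfield.inclusion hR'.le).toAlgebra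
    haveI : IsScalarTower F₀ R F := IsScalarTower.of_algebraMap_eq (fun _ => rfl)
    have hfin : Module.finrank F₀ R * Module.finrank R F = r := by
      rw [Module.finrank_mul_finrank]
      have h1 := Module.natCard_eq_pow_finrank (K := F₀) (V := F)
      rw [Nat.card_eq_fintype_card, hcard] at h1
      exact (Nat.pow_right_injective (Nat.succ_le_of_lt Finite.one_lt_card) h1).symm
    rcases Nat.prime_mul_iff.mp (hfin ▸ hr) with ⟨-, h1⟩ | ⟨-, h1⟩
    · refine top_unique fun x _ => ?_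
      obtain ⟨c, hc⟩ := (finrank_eq_one_iff_of_nonzero' (1 : F) one_ne_zero).mp h1 x
      rw [← hc, Subfield.smul_def, smul_eq_mul, mul_one]
      exact c.2
    · refine absurd (fun x hx => ?_) hR'.not_ge
      obtain ⟨c, hc⟩ := (finrank_eq_one_iff_of_nonzero' (1 : R) one_ne_zero).mp h1 ⟨x, hx⟩
      have hc' : (c : F) * 1 = x := congrArg Subtype.val hc
      rw [← hc', mul_one]
      exact c.2
  obtain ⟨i, j, hij⟩ := Fintype.exists_pair_of_one_lt_card (show 1 < Fintype.card (Fin n) by simp; omega)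
  refine ⟨lt_of_le_not_ge inf_le_right fun hle => ?_, fun M hHM hMK => ?_⟩
  · obtain ⟨θ, -, hθ⟩ := SetLike.exists_of_lt hlt
    -- a transvection with a non-rational scalar, in the coordinates of `P`
    have hd : (Pi.single j θ : Fin n → F) ⬝ᵥ Pi.single i (1 : F) = 0 := single_dotProduct_single hij θ
    have hmem : P * transv (Pi.single i (1 : F)) (Pi.single j θ) * P⁻¹ ∈ Cfsg.Geo.subfieldSubgroup F₀ P := by
      refine (hle ?_).1
      rw [mem_specialLinear_iff, Units.val_mul, Units.val_mul, Matrix.det_units_conj]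
      exact (mem_specialLinear_iff _).mp (transv_mem_specialLinear _ _)
    obtain ⟨l, s, hls⟩ := lines_of_mem_subfieldSubgroup hmem (Pi.single j 1)
    rw [mul_mulVec, mul_mulVec, inv_mulVec_cancel, ← mulVec_smul] at hls
    have h1 := mulVec_injective P hls
    rw [transv_mulVec hd, coeVec_single] at h1
    have hj := congrFun h1 j
    have hi := congrFun h1 i
    simp [hij, hij.symm, coeVec] at hj hi
    refine hθ ?_
    have hsj : (s j : F) ≠ 0 := fun h => by rw [h, mul_zero] at hj; exact one_ne_zero hj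
    rw [hi, show l = ((s j : F))⁻¹ from eq_inv_of_mul_eq_one_left hj.symm]
    exact mul_mem (inv_mem (s j).2) (s i).2
  by_cases hM : M ≤ Cfsg.Geo.subfieldSubgroup F₀ P
  · exact Or.inl (le_antisymm (le_inf hM hMK) hHM)
  right
  obtain ⟨g, hgM, hgH⟩ := SetLike.not_le_iff_exists.mp hM
  obtain ⟨u, hu⟩ : ∃ u : Fin n → F₀, ∀ (l : F) r', (g : Matrix (Fin n) (Fin n) F) *ᵥ ((P : Matrix (Fin n) (Fin n) F) *ᵥ coeVec F₀ u) ≠
      l • ((P : Matrix (Fin n) (Fin n) F) *ᵥ coeVec F₀ r') := by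
    by_contra h
    simp only [not_exists, not_forall, not_not] at h
    exact hgH (mem_subfieldSubgroup_of_lines g h)
  let N := M.comap (MulAut.conj P).toMonoidHom
  have hN : ∀ x, x ∈ N ↔ P * x * P⁻¹ ∈ M := fun x => Iff.rfl
  have hrat : LinSubfield.Rational F₀ N := by
    intro v φ hd
    rw [hN]
    have hd' : coeVec F₀ φ ⬝ᵥ coeVec F₀ v = 0 := by rw [LinSubfield.cv_dot, hd]; rfl
    refine hHM ⟨?_, ?_⟩
    · have e : Matrix.GeneralLinearGroup.map (F₀.subtype : F₀ →+* F) (transv v φ) = transv (coeVec F₀ v) (coeVec F₀ φ) := by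
        apply Units.ext
        show ((transv v φ : Matrix (Fin n) (Fin n) F₀)).map (F₀.subtype : F₀ →+* F) = _
        rw [transv_val hd, transv_val hd']
        ext a b
        by_cases hab : a = b <;> simp [vecMulVec_apply, coeVec, hab]
      rw [← e]
      exact subfieldHom_mem _
    · show _ ∈ Cfsg.Geo.specialLinear (Fin n) F
      rw [mem_specialLinear_iff, Units.val_mul, Units.val_mul, Matrix.det_units_conj]
      exact (mem_specialLinear_iff _).mp (transv_mem_specialLinear _ _)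
  obtain ⟨g', hg'⟩ : ∃ g' : GL (Fin n) F, g' = P⁻¹ * g * P := ⟨_, rfl⟩
  have hg'N : g' ∈ N := by
    rw [hN, hg', show P * (P⁻¹ * g * P) * P⁻¹ = g by group]; exact hgM
  have hu0 : u ≠ 0 := fun h => hu 0 0 (by rw [h, coeVec_zero, mulVec_zero, mulVec_zero, zero_smul])
  obtain ⟨φ, hφ0, hφ, -⟩ := LinSubfield.exists_perp_pair (F₀ := F₀) (show 3 ≤ Fintype.card (Fin n) by simp; omega) u u
  rw [dotProduct_comm] at hφ
  have hd : coeVec F₀ φ ⬝ᵥ coeVec F₀ u = 0 := by rw [LinSubfield.cv_dot, hφ]; rfl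
  obtain ⟨a, ha, ha'⟩ := LinSubfield.exists_scal hrat (show 4 ≤ Fintype.card (Fin n) by simp; omega) hgen
    (u := (g' : Matrix (Fin n) (Fin n) F) *ᵥ coeVec F₀ u)
    (ψ := coeVec F₀ φ ᵥ* ((g'⁻¹ : GL (Fin n) F) : Matrix (Fin n) (Fin n) F))
    (fun l r' h => hu l r' (by
      have h1 := congrArg ((P : Matrix (Fin n) (Fin n) F) *ᵥ ·) h
      simp only [hg', mul_mulVec, mulVec_inv_cancel, mulVec_smul] at h1
      exact h1))
    (fun h => LinSubfield.cv_ne_zero hφ0 (by
      have h1 := congrArg (fun x => x ᵥ* (g' : Matrix (Fin n) (Fin n) F)) h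
      simpa [vecMul_vecMul] using h1))
    (by rw [vecMul_inv_dotProduct, hd])
    (fun c => by
      rw [← smul_vecMul, ← conj_transv g' (by rw [smul_dotProduct, hd, smul_zero])]
      exact N.mul_mem (N.mul_mem hg'N (LinSubfield.rat_smul hrat hφ c)) (N.inv_mem hg'N))
  have hle := LinSubfield.le_of_scal hrat (show 4 ≤ Fintype.card (Fin n) by simp; omega) hgen ha ha'
  refine le_antisymm hMK fun x hx => ?_
  have hx' : P⁻¹ * x * P ∈ N := hle (by
    rw [mem_specialLinear_iff, Units.val_mul, Units.val_mul, Matrix.det_units_conj']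
    exact (mem_specialLinear_iff _).mp hx)
  rwa [hN, show P * (P⁻¹ * x * P) * P⁻¹ = x by group] at hx'

end Subfield

end CfsgLib.SLFour
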