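/-
SL_4: the stabiliser of four lines is maximal.
-/
import Cfsg.Agent.Lib.SLGeometric

set_option autoImplicit false
set_option linter.all false

open Cfsg

namespace CfsgLib.SLFour.Lines

open Matrix CfsgLib.Transvec CfsgLib.Classical22.Monomial
open CfsgLib.Classical22.DecompLine (Fixing El pairD pairD_mem pairD_mulVec mul_apply_col exists_unit_ne exists_notMem el_of_not_isMono lineStab sub transv_mem_lineStab eq_transv_of_sub_one plane fixing_of_three_zeros fixing_of_coord)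
open CfsgLib.Classical22
open scoped MatrixGroups

section General

variable {ι : Type} [Fintype ι] [DecidableEq ι] {F : Type*} [Field F] [Fintype F]
  {M : Subgroup (GL ι F)} (hmon : ∀ σ d, (mono σ d : Matrix ι ι F).det = 1 → mono σ d ∈ M)
  (hq : 5 ≤ Fintype.card F) (hn : 4 ≤ Fintype.card ι)
include hmon hq hn

/-- Conjugating by a diagonal element and dividing. -/
lemma diff_mem {k : ι} {ρ : ι → F} (hρk : ρ k = 0) (hT : transv (Pi.single k 1) ρ ∈ M) {b l : ι} (hbl : b ≠ l)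
    (hbk : b ≠ k) (hlk : l ≠ k) (c : Fˣ) :
    transv (Pi.single k 1) (Pi.single b ((((c⁻¹ : Fˣ) : F) - 1) * ρ b) + Pi.single l (((c : F) - 1) * ρ l)) ∈ M := by
  have hd : ρ ⬝ᵥ Pi.single k 1 = 0 := by rw [dotProduct_single, hρk, zero_mul]
  have h1 := M.mul_mem (M.mul_mem (pairD_mem hmon hbl c) hT) (M.inv_mem (pairD_mem hmon hbl c))
  rw [pairD, conj_diag_transv _ hd] at h1
  have h2 := M.mul_mem (M.inv_mem hT) h1
  have e1 : (fun i => (((if i = b then c else if i = l then c⁻¹ else 1) : Fˣ) : F) * (Pi.single k 1 : ι → F) i) =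
      Pi.single k 1 := by
    funext i
    by_cases hi : i = k
    · subst hi; simp [Ne.symm hbk, Ne.symm hlk]
    · simp [hi]
  have e2 : (fun i => ρ i * (((if i = b then c else if i = l then c⁻¹ else 1)⁻¹ : Fˣ) : F)) =
      ρ + (Pi.single b ((((c⁻¹ : Fˣ) : F) - 1) * ρ b) + Pi.single l (((c : F) - 1) * ρ l)) := by
    funext i
    by_cases hib : i = b
    · subst hib; simp [hbl]; ring
    · by_cases hil : i = l
      · subst hil; simp [hib]; ring
      · simp [hib, hil]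
  rw [e1, e2, ← transv_mul hd (by simp [dotProduct_single, hbk.symm, hlk.symm]), inv_mul_cancel_left] at h2
  exact h2

lemma el_of_line {k : ι} {ρ : ι → F} (hρk : ρ k = 0) (hρ : ρ ≠ 0) (hT : transv (Pi.single k 1) ρ ∈ M) : El M := by
  obtain ⟨t, ht, -, -⟩ := exists_unit_ne hq
  have ht' : ((t⁻¹ : Fˣ) : F) - 1 ≠ 0 := sub_ne_zero.mpr fun e => ht (by
    rwa [Units.val_inv_eq_inv_val, inv_eq_one] at e)
  obtain ⟨b, hb⟩ := Function.ne_iff.mp hρ
  have hbk : b ≠ k := fun e => hb (e ▸ hρk)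
  have hpick : ∀ s : Finset ι, s.card ≤ 3 → ∃ l, l ∉ s := fun s hs => by
    by_contra hcon
    simp only [not_exists, not_not] at hcon
    have := Finset.card_le_card (fun i (_ : i ∈ Finset.univ) => hcon i)
    rw [Finset.card_univ] at this
    omega
  obtain ⟨l, hl⟩ := hpick {k, b} (Finset.card_le_two.trans (by omega))
  simp only [Finset.mem_insert, Finset.mem_singleton, not_or] at hl
  obtain ⟨δ, hδ⟩ : ∃ δ : ι → F, δ = Pi.single b ((((t⁻¹ : Fˣ) : F) - 1) * ρ b) + Pi.single l (((t : F) - 1) * ρ l) :=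
    ⟨_, rfl⟩
  have h1 : transv (Pi.single k 1) δ ∈ M := hδ ▸ diff_mem hmon hq hn hρk hT (Ne.symm hl.2) hbk hl.1 t
  obtain ⟨l', hl'⟩ := hpick {k, b, l} Finset.card_le_three
  simp only [Finset.mem_insert, Finset.mem_singleton, not_or] at hl'
  have hδk : δ k = 0 := by simp [hδ, hbk.symm, Ne.symm hl.1]
  have h2 := diff_mem hmon hq hn hδk h1 (Ne.symm hl'.2.1) hbk hl'.1 t
  have e1 : δ l' = 0 := by simp [hδ, hl'.2.1, hl'.2.2]
  have e2 : δ b = (((t⁻¹ : Fˣ) : F) - 1) * ρ b := by simp [hδ, Ne.symm hl.2]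
  rw [e1, mul_zero, Pi.single_zero, add_zero, e2] at h2
  exact ⟨k, b, _, hbk.symm, mul_ne_zero ht' (mul_ne_zero ht' hb), h2⟩

/-- A coordinate column and a non-monomial member give an elementary transvection. -/
lemma el_of_fixing (hM : M ≤ Cfsg.Geo.specialLinear ι F) (hF : Fixing M) : El M := by
  classical
  obtain ⟨k, x, hxM, hxm, hxk⟩ := hF
  obtain ⟨R, hR⟩ : ∃ R, R = (M.subgroupOf (lineStab k)).map (sub (F := F) k) := ⟨_, rfl⟩
  have hfull : ∀ (π : Equiv.Perm {i // i ≠ k}) (d : {i // i ≠ k} → Fˣ), ∃ g : lineStab (F := F) k,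
      (g : GL ι F) ∈ M ∧ IsMono (g : GL ι F) ∧ sub k g = mono π d := by
    intro π d
    obtain ⟨e, he, hdet⟩ := exists_det_one (Equiv.Perm.ofSubtype π) (fun i => if h : i ≠ k then d ⟨i, h⟩ else 1) k
    have hk : Equiv.Perm.ofSubtype π k = k := Equiv.Perm.ofSubtype_apply_of_not_mem π (by simp)
    have hmem : mono (Equiv.Perm.ofSubtype π) e ∈ lineStab k := fun i hi => by
      rw [mono_apply, hk, if_neg hi]
    refine ⟨⟨_, hmem⟩, hmon _ _ hdet, isMono_mono _ _, Units.ext (Matrix.ext fun i j => ?_)⟩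
    rw [DecompLine.sub_apply, mono_apply, mono_apply, Equiv.Perm.ofSubtype_apply_coe, he _ j.2, dif_pos j.2]
    by_cases h : i = π j
    · rw [if_pos h, if_pos (by rw [h])]
    · rw [if_neg h, if_neg (fun e => h (Subtype.ext e))]
  have hfullR : ∀ (π : Equiv.Perm {i // i ≠ k}) (d : {i // i ≠ k} → Fˣ), mono π d ∈ R := fun π d => by
    obtain ⟨g, hg, -, hg'⟩ := hfull π d
    rw [hR]
    exact ⟨g, hg, hg'⟩
  have hpick : ∀ s : Finset ι, s.card ≤ 3 → ∃ l, l ∉ s := fun s hs => by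
    by_contra hcon
    simp only [not_exists, not_not] at hcon
    have := Finset.card_le_card (fun i (_ : i ∈ Finset.univ) => hcon i)
    rw [Finset.card_univ] at this
    omega
  by_cases hxs : IsMono (sub k ⟨x, hxk⟩)
  · obtain ⟨π, d, hπ⟩ := hxs.exists_mono
    obtain ⟨m, hmM, hmm, hm⟩ := hfull π d
    obtain ⟨ρ, hρk, hρ⟩ := eq_transv_of_sub_one (m⁻¹ * ⟨x, hxk⟩) (hM (M.mul_mem (M.inv_mem hmM) hxM))
      (by rw [map_mul, map_inv, hm, hπ, inv_mul_cancel])
    rw [Subgroup.coe_mul, Subgroup.coe_inv] at hρ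
    refine el_of_line hmon hq hn hρk (fun e => hxm ?_) (hρ ▸ M.mul_mem (M.inv_mem hmM) hxM)
    rw [e, transv_zero, inv_mul_eq_one] at hρ
    exact (show (m : GL ι F) = x from hρ) ▸ hmm
  obtain ⟨a, b, c, hab, hc, hT⟩ := el_of_not_isMono hq hfullR
    (by rw [Fintype.card_subtype_compl, Fintype.card_subtype_eq]; omega)
    (show sub k ⟨x, hxk⟩ ∈ R by rw [hR]; exact ⟨⟨x, hxk⟩, hxM, rfl⟩) hxs
  rw [hR] at hT
  obtain ⟨y, hy, hys⟩ := hT
  change (y : GL ι F) ∈ M at hy
  have hab' : (a : ι) ≠ b := fun e => hab (Subtype.ext e)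
  have hd := single_dotProduct_single hab' c
  obtain ⟨T, hTdef⟩ : ∃ T, T = transv (Pi.single (a : ι) (1 : F)) (Pi.single (b : ι) c) := ⟨_, rfl⟩
  have hTs : T ∈ lineStab k := hTdef ▸ transv_mem_lineStab k hd (by simp [Ne.symm b.2])
  have hTsub : sub k ⟨T, hTs⟩ = transv (Pi.single a 1) (Pi.single b c) := by
    refine Units.ext (Matrix.ext fun i j => ?_)
    rw [DecompLine.sub_apply, transv_val (single_dotProduct_single hab c)]
    show (T : Matrix ι ι F) i j = _
    rw [hTdef, transv_val hd, Matrix.add_apply, Matrix.add_apply, vecMulVec_apply, vecMulVec_apply]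
    simp [Matrix.one_apply, Pi.single_apply, Subtype.coe_inj]
  obtain ⟨ρ, hρk, hρ⟩ := eq_transv_of_sub_one ((⟨T, hTs⟩ : lineStab (F := F) k)⁻¹ * y)
    ((Cfsg.Geo.specialLinear ι F).mul_mem
      ((Cfsg.Geo.specialLinear ι F).inv_mem (hTdef ▸ transv_mem_specialLinear _ _)) (hM hy))
    (by rw [map_mul, map_inv, hys, hTsub, inv_mul_cancel])
  rw [Subgroup.coe_mul, Subgroup.coe_inv, inv_mul_eq_iff_eq_mul] at hρ
  change (y : GL ι F) = T * _ at hρ
  by_cases hρ0 : ρ = 0
  · rw [hρ0, transv_zero, mul_one] at hρ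
    exact ⟨a, b, c, hab', hc, hTdef ▸ hρ ▸ hy⟩
  -- a diagonal element commuting with `T`
  obtain ⟨f, hf⟩ := hpick {(a : ι), (b : ι), k} (Finset.card_le_three.trans (by omega))
  simp only [Finset.mem_insert, Finset.mem_singleton, not_or] at hf
  obtain ⟨t, ht, -, ht2⟩ := exists_unit_ne hq
  have hρd : ρ ⬝ᵥ Pi.single k 1 = 0 := by rw [dotProduct_single, hρk, zero_mul]
  obtain ⟨δ, hδ⟩ : ∃ δ : ι → F, δ = fun i => (if i = f then (t : F) * t - 1 else (t : F) - 1) * ρ i := ⟨_, rfl⟩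
  have hD := pairD_mem hmon (Ne.symm hf.2.2) t
  have h1 := M.mul_mem (M.inv_mem hy) (M.mul_mem (M.mul_mem hD hy) (M.inv_mem hD))
  have eT : pairD k f t * T * (pairD k f t)⁻¹ = T := by
    rw [hTdef, pairD, conj_diag_transv _ hd]
    congr 1 <;> funext i
    · by_cases hi : i = a
      · subst hi; simp [a.2, Ne.symm hf.1]
      · simp [hi]
    · by_cases hi : i = b
      · subst hi; simp [b.2, Ne.symm hf.2.1]
      · simp [hi]
  have eK : pairD k f t * transv (Pi.single k 1) ρ * (pairD k f t)⁻¹ = transv (Pi.single k 1) (ρ + δ) := by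
    have e1 : (fun i => (((if i = k then t else if i = f then t⁻¹ else 1) : Fˣ) : F) * (Pi.single k 1 : ι → F) i) =
        (t : F) • Pi.single k 1 := by
      funext i
      by_cases hi : i = k
      · subst hi; simp
      · simp [hi]
    have e2 : (t : F) • (fun i => ρ i * (((if i = k then t else if i = f then t⁻¹ else 1)⁻¹ : Fˣ) : F)) = ρ + δ := by
      funext i
      by_cases hi : i = k
      · subst hi; simp [hδ, hρk]
      · by_cases hi' : i = f
        · subst hi'; simp [hδ, hi]; ring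
        · simp [hδ, hi, hi']; ring
    rw [pairD, conj_diag_transv _ hρd, e1, transv_smul_left _ ?_, e2]
    rw [dotProduct_single, hρk]; simp
  have h2 : transv (Pi.single k 1) δ ∈ M := by
    have e : (y : GL ι F)⁻¹ * (pairD k f t * (y : GL ι F) * (pairD k f t)⁻¹) = transv (Pi.single k 1) δ := by
      rw [hρ, show pairD k f t * (T * transv (Pi.single k 1) ρ) * (pairD k f t)⁻¹ =
          (pairD k f t * T * (pairD k f t)⁻¹) * (pairD k f t * transv (Pi.single k 1) ρ * (pairD k f t)⁻¹) by group,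
        eT, eK, _root_.mul_inv_rev, mul_assoc, inv_mul_cancel_left,
        ← transv_mul hρd (by simp [hδ, dotProduct_single, hρk]), inv_mul_cancel_left]
    rwa [e] at h1
  refine el_of_line hmon hq hn (by simp [hδ, hρk]) (fun e => hρ0 (funext fun i => ?_)) h2
  have h3 := congrFun e i
  by_cases hi : i = f <;> simp [hδ, hi, sub_ne_zero.mpr ht, sub_ne_zero.mpr ht2] at h3 <;> simp [hi, h3]

/-- An elementary transvection generates everything. -/
theorem le_of_el (hel : El M) : Cfsg.Geo.specialLinear ι F ≤ M := by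
  classical
  obtain ⟨a0, b0, c0, hab, hc0, hT⟩ := hel
  have hpick : ∀ s : Finset ι, s.card ≤ 3 → ∃ l, l ∉ s := fun s hs => by
    by_contra hcon
    simp only [not_exists, not_not] at hcon
    have := Finset.card_le_card (fun i (_ : i ∈ Finset.univ) => hcon i)
    rw [Finset.card_univ] at this
    omega
  have hscal : ∀ c : F, transv (Pi.single a0 1) (Pi.single b0 c) ∈ M := by
    intro c
    by_cases hc : c = 0
    · rw [hc, Pi.single_zero, transv_zero]; exact M.one_mem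
    obtain ⟨f, hf⟩ := hpick {a0, b0} (Finset.card_le_two.trans (by omega))
    simp only [Finset.mem_insert, Finset.mem_singleton, not_or] at hf
    obtain ⟨t, ht⟩ : ∃ t : Fˣ, t = Units.mk0 (c / c0) (div_ne_zero hc hc0) := ⟨_, rfl⟩
    have hD := pairD_mem hmon (Ne.symm hf.1) t
    have h1 := M.mul_mem (M.mul_mem hD hT) (M.inv_mem hD)
    rw [pairD, diagGL, mono_conj_transv _ _ hab] at h1
    simpa [ht, hab.symm, Ne.symm hf.2, hc0] using h1
  have hall : ∀ (a b : ι), a ≠ b → ∀ c : F, transv (Pi.single a 1) (Pi.single b c) ∈ M := by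
    intro a b h c
    obtain ⟨π, hπ⟩ : ∃ π, π = Equiv.swap ((Equiv.swap a0 a) b0) b * Equiv.swap a0 a := ⟨_, rfl⟩
    have h1 : π a0 = a := by
      rw [hπ, Equiv.Perm.mul_apply, Equiv.swap_apply_left, Equiv.swap_apply_of_ne_of_ne ?_ h]
      exact fun e => hab ((Equiv.swap a0 a).injective ((Equiv.swap_apply_left a0 a).trans e))
    have h2 : π b0 = b := by rw [hπ, Equiv.Perm.mul_apply, Equiv.swap_apply_left]
    obtain ⟨f, hf⟩ := hpick {a0, b0} (Finset.card_le_two.trans (by omega))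
    simp only [Finset.mem_insert, Finset.mem_singleton, not_or] at hf
    obtain ⟨e, he, hdet⟩ := exists_det_one π (1 : ι → Fˣ) f
    have h3 := M.mul_mem (M.mul_mem (hmon _ _ hdet) (hscal c)) (M.inv_mem (hmon _ _ hdet))
    rw [mono_conj_transv _ _ hab, h1, h2, he a0 (Ne.symm hf.1), he b0 (Ne.symm hf.2)] at h3
    simpa using h3
  intro g hg
  rw [mem_specialLinear_iff] at hg
  have key := CfsgLib.Classical.SL_le_of_transvections (M.comap Matrix.SpecialLinearGroup.toGL) fun i j hij a => by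
    rw [Subgroup.mem_comap, toGL_transvection hij a]
    exact hall i j hij a
  have h1 : (⟨(g : Matrix ι ι F), hg⟩ : Matrix.SpecialLinearGroup ι F) ∈ M.comap Matrix.SpecialLinearGroup.toGL := by
    rw [key]; trivial
  have e : Matrix.SpecialLinearGroup.toGL ⟨(g : Matrix ι ι F), hg⟩ = g := Units.ext rfl
  exact e ▸ Subgroup.mem_comap.mp h1

end General

variable {F : Type*} [Field F] [Fintype F] {M : Subgroup (GL (Fin 4) F)}
  (hmon : ∀ σ d, (mono σ d : Matrix (Fin 4) (Fin 4) F).det = 1 → mono σ d ∈ M)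
  (hq : 7 ≤ Fintype.card F)

lemma exists_scalar (hq : 7 ≤ Fintype.card F) : ∃ t : Fˣ, (t : F) * t ≠ 1 ∧ (t : F) * t * (t * t) ≠ 1 := by
  classical
  obtain ⟨g, hg⟩ := IsCyclic.exists_generator (α := Fˣ)
  have hord : orderOf g = Fintype.card F - 1 := by
    rw [orderOf_eq_card_of_forall_mem_zpowers hg, Nat.card_eq_fintype_card, Fintype.card_units]
  refine ⟨g, fun h => ?_, fun h => ?_⟩
  · have := Nat.le_of_dvd (by norm_num) (orderOf_dvd_of_pow_eq_one (n := 2) (Units.ext (by simpa [pow_two] using h) : g ^ 2 = 1))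
    omega
  · have := Nat.le_of_dvd (by norm_num) (orderOf_dvd_of_pow_eq_one (n := 4) (Units.ext (by
      rw [Units.val_pow_eq_pow_val, Units.val_one, ← h]; ring) : g ^ 4 = 1))
    omega

/-- Two pseudo-reflection conjugates cannot both send an axis to an axis. -/
lemma not_both_coord {x : GL (Fin 4) F} {k m m' : Fin 4} {z z' : GL (Fin 4) F} {c l l' : F}
    (hm : m ≠ k) (hm' : m' ≠ k)
    (h1 : (z : Matrix (Fin 4) (Fin 4) F) *ᵥ ((x : Matrix (Fin 4) (Fin 4) F) *ᵥ Pi.single k 1) =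
      (x : Matrix (Fin 4) (Fin 4) F) *ᵥ Pi.single m l)
    (h2 : (z' : Matrix (Fin 4) (Fin 4) F) *ᵥ ((x : Matrix (Fin 4) (Fin 4) F) *ᵥ Pi.single k 1) =
      (x : Matrix (Fin 4) (Fin 4) F) *ᵥ Pi.single m' l')
    (h3 : c • ((z : Matrix (Fin 4) (Fin 4) F) *ᵥ ((x : Matrix (Fin 4) (Fin 4) F) *ᵥ Pi.single k 1)) =
      (z' : Matrix (Fin 4) (Fin 4) F) *ᵥ ((x : Matrix (Fin 4) (Fin 4) F) *ᵥ Pi.single k 1) +
        (x : Matrix (Fin 4) (Fin 4) F) *ᵥ Pi.single k 1) : False := by
  rw [h1, h2, ← mulVec_smul, ← mulVec_add] at h3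
  have h := congrFun (mulVec_injective x h3) k
  simp [hm.symm, hm'.symm] at h

include hmon hq

/-- Two zeros in a column. -/
lemma fixing_two {x : GL (Fin 4) F} (hx : x ∈ M) (hm : ¬ IsMono x) {k p r : Fin 4} (hpr : p ≠ r)
    (hp : (x : Matrix (Fin 4) (Fin 4) F) p k = 0) (hr : (x : Matrix (Fin 4) (Fin 4) F) r k = 0) : Fixing M := by
  classical
  rcases plane hmon (by omega) hx hpr hp hr with h | h
  · exact h
  obtain ⟨a, ha⟩ := row_ne_zero x p
  by_cases hra : (x : Matrix (Fin 4) (Fin 4) F) r a = 0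
  · refine fixing_of_coord hmon hx hm (a := a) (b := p) fun i hi => ?_
    by_cases hir : i = r
    · rw [hir, hra]
    · exact h a ha i hi hir
  by_contra hF
  obtain ⟨t, ht1, ht2⟩ := exists_scalar hq
  have key : ∀ s : Fˣ, (s : F) * s ≠ 1 → ∃ m l, m ≠ a ∧
      (pairD p r s : Matrix (Fin 4) (Fin 4) F) *ᵥ ((x : Matrix (Fin 4) (Fin 4) F) *ᵥ Pi.single a 1) =
        (x : Matrix (Fin 4) (Fin 4) F) *ᵥ Pi.single m l := by
    intro s hs
    obtain ⟨y, hy⟩ : ∃ y, y = x⁻¹ * pairD p r s * x := ⟨_, rfl⟩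
    have hyM : y ∈ M := hy ▸ M.mul_mem (M.mul_mem (M.inv_mem hx) (pairD_mem hmon hpr s)) hx
    have hfix : ∀ i, i ≠ k → (y : Matrix (Fin 4) (Fin 4) F) i k = 0 := fun i hi => by
      have e : (y : Matrix (Fin 4) (Fin 4) F) *ᵥ Pi.single k 1 = Pi.single k 1 := by
        rw [hy, mul_mulVec, mul_mulVec]
        have : (pairD p r s : Matrix (Fin 4) (Fin 4) F) *ᵥ ((x : Matrix (Fin 4) (Fin 4) F) *ᵥ Pi.single k 1) =
            (x : Matrix (Fin 4) (Fin 4) F) *ᵥ Pi.single k 1 := by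
          rw [pairD_mulVec, mulVec_single_one]
          funext l
          by_cases h1 : l = p
          · subst h1; simp [hp]
          · by_cases h2 : l = r
            · subst h2; simp [hr]
            · simp [h1, h2]
        rw [this, inv_mulVec_cancel]
      have := congrFun e i
      simpa [mulVec_single_one, hi] using this
    have hym : IsMono y := by_contra fun h' => hF ⟨k, y, hyM, h', hfix⟩
    obtain ⟨m, hm'⟩ := hym a
    have e : (y : Matrix (Fin 4) (Fin 4) F) *ᵥ Pi.single a 1 = Pi.single m ((y : Matrix (Fin 4) (Fin 4) F) m a) := by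
      funext i
      by_cases hi : i = m
      · subst hi; simp [mulVec_single_one]
      · simp [mulVec_single_one, hi, hm' i hi]
    refine ⟨m, (y : Matrix (Fin 4) (Fin 4) F) m a, fun hma => ?_, ?_⟩
    · subst hma
      have h1 := congrArg ((x : Matrix (Fin 4) (Fin 4) F) *ᵥ ·) e
      have e0 : (x : Matrix (Fin 4) (Fin 4) F) *ᵥ ((y : Matrix (Fin 4) (Fin 4) F) *ᵥ Pi.single m 1) =
          (pairD p r s : Matrix (Fin 4) (Fin 4) F) *ᵥ ((x : Matrix (Fin 4) (Fin 4) F) *ᵥ Pi.single m 1) := by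
        rw [hy, mul_mulVec, mul_mulVec, mulVec_inv_cancel]
      simp only [e0] at h1
      generalize (y : Matrix (Fin 4) (Fin 4) F) m m = l0 at h1
      have h2 := congrFun h1 p
      have h3 := congrFun h1 r
      simp [pairD_mulVec, mulVec_single, hpr.symm] at h2 h3
      rw [mul_comm] at h2 h3
      have e2 := mul_left_cancel₀ ha h2
      have e3 := mul_left_cancel₀ hra h3
      rw [← e2] at e3
      exact hs (by rw [← inv_mul_cancel₀ s.ne_zero, e3])
    · rw [← e, hy, mul_mulVec, mul_mulVec, mulVec_inv_cancel]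
  obtain ⟨m, l, hma, h1⟩ := key t ht1
  obtain ⟨m', l', hma', h2⟩ := key (t * t) (by rw [Units.val_mul]; exact ht2)
  refine not_both_coord hma hma' h1 h2 (c := (t : F) + (t : F)⁻¹) ?_
  rw [pairD_mulVec, pairD_mulVec, mulVec_single_one]
  funext i
  have ht0 := t.ne_zero
  by_cases hip : i = p
  · subst hip; simp [Matrix.col] <;> field_simp <;> ring
  · by_cases hir : i = r
    · subst hir; simp [Matrix.col, hip] <;> field_simp <;> ring
    · simp [Matrix.col, h a ha i hip hir]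

omit hmon hq in
lemma perm_one : ∀ σ : Equiv.Perm (Fin 4), ∀ k, σ k = k → Equiv.Perm.sign σ = 1 → σ * σ = 1 → σ = 1 := by decide

omit hmon hq in
lemma two_neg {e : Fin 4 → F} (h2 : (2 : F) ≠ 0) (he : ∀ i, e i = 1 ∨ e i = -1) (hs : e 0 + e 1 + e 2 + e 3 = 0) :
    ∃ i j, i ≠ j ∧ e i = -1 ∧ e j = -1 := by
  have h4 : (4 : F) ≠ 0 := fun h => mul_ne_zero h2 h2 (by linear_combination h)
  rcases he 0 with h0 | h0 <;> rcases he 1 with h1 | h1 <;> rcases he 2 with h2' | h2' <;> rcases he 3 with h3 | h3 <;>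
    first
      | exact ⟨0, 1, by decide, h0, h1⟩
      | exact ⟨0, 2, by decide, h0, h2'⟩
      | exact ⟨0, 3, by decide, h0, h3⟩
      | exact ⟨1, 2, by decide, h1, h2'⟩
      | exact ⟨1, 3, by decide, h1, h3⟩
      | exact ⟨2, 3, by decide, h2', h3⟩
      | exact absurd (show (4 : F) = 0 by rw [h0, h1, h2', h3] at hs; linear_combination hs) h4
      | exact absurd (show (2 : F) = 0 by rw [h0, h1, h2', h3] at hs; linear_combination hs) h2

/-- A column without zeros. -/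
lemma fixing_none {x : GL (Fin 4) F} (hx : x ∈ M) {k : Fin 4}
    (h : ∀ i, (x : Matrix (Fin 4) (Fin 4) F) i k ≠ 0) : Fixing M := by
  classical
  obtain ⟨D, hD⟩ : ∃ D : GL (Fin 4) F, D = diagGL (fun i => Units.mk0 _ (h i)) := ⟨_, rfl⟩
  obtain ⟨Φ, hΦ⟩ : ∃ Φ : alternatingGroup (Fin 4) →* GL (Fin 4) F,
      ∀ π : alternatingGroup (Fin 4), Φ π = x⁻¹ * (D * mono (π : Equiv.Perm (Fin 4)) 1 * D⁻¹) * x := by
    refine ⟨MonoidHom.mk' (fun π : alternatingGroup (Fin 4) => x⁻¹ * (D * mono (π : Equiv.Perm (Fin 4)) 1 * D⁻¹) * x)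
      fun π π' => ?_, fun _ => rfl⟩
    have e : mono ((π * π' : alternatingGroup (Fin 4)) : Equiv.Perm (Fin 4)) (1 : Fin 4 → Fˣ) =
        mono (π : Equiv.Perm (Fin 4)) 1 * mono (π' : Equiv.Perm (Fin 4)) 1 := by
      rw [mono_mul]; simp only [Subgroup.coe_mul, Pi.one_apply, mul_one]; rfl
    show x⁻¹ * (D * mono ((π * π' : alternatingGroup (Fin 4)) : Equiv.Perm (Fin 4)) 1 * D⁻¹) * x = _
    rw [e]
    group
  have hΦM : ∀ π, Φ π ∈ M := by
    intro π
    rw [hΦ]
    refine M.mul_mem (M.mul_mem (M.inv_mem hx) ?_) hx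
    have hD' : IsMono D := hD ▸ isMono_mono _ _
    obtain ⟨σ', d', e'⟩ := ((hD'.mul (isMono_mono (π : Equiv.Perm (Fin 4)) 1)).mul hD'.inv).exists_mono
    rw [e']
    refine hmon _ _ ?_
    rw [← e', Units.val_mul, Units.val_mul, Matrix.det_units_conj, det_mono,
      Equiv.Perm.mem_alternatingGroup.mp π.2]
    simp
  have hones : ((D⁻¹ : GL (Fin 4) F) : Matrix (Fin 4) (Fin 4) F) *ᵥ ((x : Matrix (Fin 4) (Fin 4) F) *ᵥ Pi.single k 1) =
      fun _ => 1 := by
    refine mulVec_injective D ?_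
    simp only [mulVec_inv_cancel, mulVec_single_one]
    rw [hD, diag_mulVec]
    funext l; simp
  have hcol : ∀ π i, i ≠ k → (Φ π : Matrix (Fin 4) (Fin 4) F) i k = 0 := by
    intro π i hi
    have hperm : (mono (π : Equiv.Perm (Fin 4)) (1 : Fin 4 → Fˣ) : Matrix (Fin 4) (Fin 4) F) *ᵥ (fun _ => (1 : F)) =
        fun _ => 1 := by
      funext l
      obtain ⟨l, rfl⟩ := (π : Equiv.Perm (Fin 4)).surjective l
      rw [mono_mulVec]; simp
    have e : (Φ π : Matrix (Fin 4) (Fin 4) F) *ᵥ Pi.single k 1 = Pi.single k 1 := by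
      rw [hΦ, mul_mulVec, mul_mulVec, mul_mulVec, mul_mulVec, hones, hperm, ← hones, mulVec_inv_cancel,
        inv_mulVec_cancel]
    have := congrFun e i
    simpa [mulVec_single_one, hi] using this
  by_contra hF
  have hall : ∀ π, IsMono (Φ π) := fun π => by_contra fun hπ => hF ⟨k, Φ π, hΦM π, hπ, hcol π⟩
  choose ρ e he using fun π => (hall π).exists_mono
  let R : alternatingGroup (Fin 4) →* Equiv.Perm (Fin 4) := MonoidHom.mk' ρ fun π π' => by
    have h1 := he (π * π')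
    rw [map_mul, he π, he π', mono_mul] at h1
    exact (mono_inj h1).symm
  have hfix : ∀ π, ρ π k = k := by
    intro π
    by_contra hne
    have h1 := hcol π _ hne
    rw [he, mono_apply, if_pos rfl] at h1
    exact (e π k).ne_zero h1
  -- a double transposition, a commutator in the alternating group
  obtain ⟨π0, c, c', hπ0, hcomm⟩ : ∃ (π0 c c' : alternatingGroup (Fin 4)),
      (π0 : Equiv.Perm (Fin 4)) = Equiv.swap 0 1 * Equiv.swap 2 3 ∧ π0 = c * c' * c⁻¹ * c'⁻¹ :=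
    ⟨⟨Equiv.swap 0 1 * Equiv.swap 2 3, Equiv.Perm.mem_alternatingGroup.mpr (by decide)⟩,
      ⟨Equiv.swap 0 1 * Equiv.swap 1 2, Equiv.Perm.mem_alternatingGroup.mpr (by decide)⟩,
      ⟨Equiv.swap 0 1 * Equiv.swap 1 3, Equiv.Perm.mem_alternatingGroup.mpr (by decide)⟩, rfl, Subtype.ext (by decide)⟩
  have hsq : π0 * π0 = 1 := Subtype.ext (by rw [Subgroup.coe_mul, hπ0]; decide)
  have hσ : ρ π0 = 1 := by
    refine perm_one _ k (hfix _) ?_ ?_
    · show Equiv.Perm.sign (R π0) = 1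
      rw [hcomm, map_mul, map_mul, map_mul, map_inv, map_inv, map_mul, map_mul, map_mul, map_inv, map_inv]
      rcases Int.units_eq_one_or (Equiv.Perm.sign (R c)) with h1 | h1 <;>
        rcases Int.units_eq_one_or (Equiv.Perm.sign (R c')) with h1' | h1' <;> rw [h1, h1'] <;> decide
    · show R π0 * R π0 = 1
      rw [← map_mul, hsq, map_one]
  obtain ⟨ε, hε⟩ : ∃ ε : Fin 4 → Fˣ, Φ π0 = mono 1 ε := ⟨e π0, by rw [he, hσ]⟩
  have hε1 : ∀ i, (ε i : F) = 1 ∨ (ε i : F) = -1 := fun i => by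
    have h1 : Φ (π0 * π0) = 1 := by rw [hsq, map_one]
    rw [map_mul, hε, mono_mul] at h1
    have h2 := congrArg (fun g : GL (Fin 4) F => (g : Matrix (Fin 4) (Fin 4) F) i i) h1
    simp [mono_apply] at h2
    exact mul_self_eq_one_iff.mp h2
  have hεk : (ε k : F) = 1 := by
    have h1 : (Φ π0 : Matrix (Fin 4) (Fin 4) F) *ᵥ Pi.single k 1 = Pi.single k 1 := by
      rw [hΦ, mul_mulVec, mul_mulVec, mul_mulVec, mul_mulVec, hones]
      rw [show (mono (π0 : Equiv.Perm (Fin 4)) (1 : Fin 4 → Fˣ) : Matrix (Fin 4) (Fin 4) F) *ᵥ (fun _ => (1 : F)) =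
        fun _ => 1 by
          funext l
          obtain ⟨l, rfl⟩ := (π0 : Equiv.Perm (Fin 4)).surjective l
          rw [mono_mulVec]; simp]
      rw [← hones, mulVec_inv_cancel, inv_mulVec_cancel]
    have h2 := congrFun h1 k
    rw [hε] at h2
    simpa [mulVec_single_one, mono_apply] using h2
  have h2 : (2 : F) ≠ 0 := fun h20 => by
    have hΦ1 : Φ π0 = 1 := by
      rw [hε, ← mono_one]
      congr 1
      funext i
      refine Units.ext ?_
      rcases hε1 i with e1 | e1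
      · exact e1
      · rw [e1]; show (-1 : F) = 1; linear_combination -h20
    rw [hΦ] at hΦ1
    have h3 : mono (π0 : Equiv.Perm (Fin 4)) (1 : Fin 4 → Fˣ) = mono 1 1 := by
      rw [mono_one]
      calc mono (π0 : Equiv.Perm (Fin 4)) (1 : Fin 4 → Fˣ)
          = D⁻¹ * (x * (x⁻¹ * (D * mono (π0 : Equiv.Perm (Fin 4)) 1 * D⁻¹) * x) * x⁻¹) * D := by group
        _ = 1 := by rw [hΦ1]; group
    have h4 := mono_inj h3
    rw [hπ0] at h4
    exact absurd h4 (by decide)
  have htr : (ε 0 : F) + ε 1 + ε 2 + ε 3 = 0 := by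
    have h1 := congrArg (fun g : GL (Fin 4) F => Matrix.trace (g : Matrix (Fin 4) (Fin 4) F)) hε
    simp only [hΦ, Units.val_mul, Matrix.trace_units_conj', Matrix.trace_units_conj] at h1
    rw [hπ0] at h1
    simp [Matrix.trace, Fin.sum_univ_four, mono_apply, Equiv.swap_apply_def] at h1
    linear_combination -h1
  obtain ⟨i, j, hij, hi, hj⟩ := two_neg h2 hε1 htr
  obtain ⟨t, ht1, ht2⟩ := exists_scalar hq
  have key : ∀ s : Fˣ, (s : F) * s ≠ 1 → ∃ m l, m ≠ k ∧
      (diagGL ![s, s, s⁻¹, s⁻¹] : Matrix (Fin 4) (Fin 4) F) *ᵥ ((x : Matrix (Fin 4) (Fin 4) F) *ᵥ Pi.single k 1) =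
        (x : Matrix (Fin 4) (Fin 4) F) *ᵥ Pi.single m l := by
    intro s hs
    obtain ⟨y, hy⟩ : ∃ y, y = x⁻¹ * diagGL ![s, s, s⁻¹, s⁻¹] * x := ⟨_, rfl⟩
    have hyM : y ∈ M := by
      rw [hy]
      refine M.mul_mem (M.mul_mem (M.inv_mem hx) (hmon _ _ ?_)) hx
      rw [det_mono]
      simp [Fin.prod_univ_four]
    have hcm : Φ π0 * y = y * Φ π0 := by
      have hc : diagGL ![s, s, s⁻¹, s⁻¹] * (D * mono (π0 : Equiv.Perm (Fin 4)) 1 * D⁻¹) =
          D * mono (π0 : Equiv.Perm (Fin 4)) 1 * D⁻¹ * diagGL ![s, s, s⁻¹, s⁻¹] := by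
        rw [hπ0]
        have hc1 : diagGL ![s, s, s⁻¹, s⁻¹] * mono (Equiv.swap (0 : Fin 4) 1 * Equiv.swap 2 3) (1 : Fin 4 → Fˣ) =
            mono (Equiv.swap (0 : Fin 4) 1 * Equiv.swap 2 3) 1 * diagGL ![s, s, s⁻¹, s⁻¹] := by
          rw [diagGL, mono_mul, mono_mul, one_mul, mul_one]
          congr 1
          funext l
          fin_cases l <;> simp [Equiv.swap_apply_def]
        have hc2 : diagGL ![s, s, s⁻¹, s⁻¹] * D = D * diagGL ![s, s, s⁻¹, s⁻¹] := by
          rw [hD, diagGL, diagGL, mono_mul, mono_mul]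
          congr 1
          funext l
          exact mul_comm _ _
        have hc3 : diagGL ![s, s, s⁻¹, s⁻¹] * D⁻¹ = D⁻¹ * diagGL ![s, s, s⁻¹, s⁻¹] := by
          rw [eq_inv_mul_iff_mul_eq, ← mul_assoc, ← hc2, mul_assoc, mul_inv_cancel, mul_one]
        rw [← mul_assoc, ← mul_assoc, hc2, mul_assoc D, hc1, ← mul_assoc, mul_assoc _ (diagGL _) D⁻¹, hc3, ← mul_assoc]
      rw [hΦ, hy]
      calc x⁻¹ * (D * mono (π0 : Equiv.Perm (Fin 4)) 1 * D⁻¹) * x * (x⁻¹ * diagGL ![s, s, s⁻¹, s⁻¹] * x)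
          = x⁻¹ * (D * mono (π0 : Equiv.Perm (Fin 4)) 1 * D⁻¹ * diagGL ![s, s, s⁻¹, s⁻¹]) * x := by group
        _ = x⁻¹ * (diagGL ![s, s, s⁻¹, s⁻¹] * (D * mono (π0 : Equiv.Perm (Fin 4)) 1 * D⁻¹)) * x := by rw [hc]
        _ = _ := by group
    have hzero : ∀ l, (ε l : F) = -1 → (y : Matrix (Fin 4) (Fin 4) F) l k = 0 := fun l hl => by
      rw [hε] at hcm
      have h5 := congrArg (fun g : GL (Fin 4) F => (g : Matrix (Fin 4) (Fin 4) F) l k) hcm
      simp only [mul_apply_col] at h5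
      rw [show (mono 1 ε : GL (Fin 4) F) = diagGL ε from rfl, diag_mulVec] at h5
      rw [show (diagGL ε : GL (Fin 4) F) = mono 1 ε from rfl] at h5
      change (ε l : F) * _ = ∑ r, (y : Matrix (Fin 4) (Fin 4) F) l r * (mono 1 ε : Matrix (Fin 4) (Fin 4) F) r k at h5
      rw [Finset.sum_eq_single k (fun r _ hr => by simp [mono_apply, hr]) (fun h' => absurd (Finset.mem_univ k) h'),
        mono_apply, Equiv.Perm.one_apply, if_pos rfl, hεk, hl, mul_one] at h5
      exact (mul_eq_zero.mp (show (2 : F) * _ = 0 by linear_combination -h5)).resolve_left h2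
    have hym : IsMono y := by_contra fun h' => hF (fixing_two hmon hq hyM h' hij (hzero i hi) (hzero j hj))
    obtain ⟨m, hm'⟩ := hym k
    have ey : (y : Matrix (Fin 4) (Fin 4) F) *ᵥ Pi.single k 1 = Pi.single m ((y : Matrix (Fin 4) (Fin 4) F) m k) := by
      funext i
      by_cases hi : i = m
      · subst hi; simp [mulVec_single_one]
      · simp [mulVec_single_one, hi, hm' i hi]
    refine ⟨m, (y : Matrix (Fin 4) (Fin 4) F) m k, fun hmk => ?_, ?_⟩
    · subst hmk
      have h1 := congrArg ((x : Matrix (Fin 4) (Fin 4) F) *ᵥ ·) ey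
      have e0 : (x : Matrix (Fin 4) (Fin 4) F) *ᵥ ((y : Matrix (Fin 4) (Fin 4) F) *ᵥ Pi.single m 1) =
          (diagGL ![s, s, s⁻¹, s⁻¹] : Matrix (Fin 4) (Fin 4) F) *ᵥ ((x : Matrix (Fin 4) (Fin 4) F) *ᵥ Pi.single m 1) := by
        rw [hy, mul_mulVec, mul_mulVec, mulVec_inv_cancel]
      simp only [e0] at h1
      generalize (y : Matrix (Fin 4) (Fin 4) F) m m = l0 at h1
      have e2 := congrFun h1 0
      have e3 := congrFun h1 2
      simp [diag_mulVec, mulVec_single] at e2 e3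
      rw [mul_comm] at e2 e3
      have e2' := mul_left_cancel₀ (h 0) e2
      have e3' := mul_left_cancel₀ (h 2) e3
      rw [← e2'] at e3'
      exact hs (by rw [← inv_mul_cancel₀ s.ne_zero, e3'])
    · rw [← ey, hy, mul_mulVec, mul_mulVec, mulVec_inv_cancel]
  obtain ⟨m, l, hma, h1⟩ := key t ht1
  obtain ⟨m', l', hma', h2'⟩ := key (t * t) (by rw [Units.val_mul]; exact ht2)
  refine not_both_coord hma hma' h1 h2' (c := (t : F) + (t : F)⁻¹) ?_
  rw [diag_mulVec, diag_mulVec, mulVec_single_one]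
  funext i
  have ht0 := t.ne_zero
  fin_cases i <;> simp <;> field_simp <;> ring

omit hmon in
/-- Units avoiding four non-zero functionals. -/
lemma exists_units (a : Fin 4 → Fin 4 → F) {p : Fin 4} (ha : ∀ i, ∃ r, r ≠ p ∧ a i r ≠ 0) :
    ∃ d : Fin 4 → Fˣ, ∀ i, ∑ r, (if r = p then 0 else a i r) * d r ≠ 0 := by
  classical
  have pick : ∀ K b : Fin 4 → F, ∃ s : Fˣ, ∀ i, b i ≠ 0 → K i + b i * s ≠ 0 := by
    intro K b
    obtain ⟨s, hs⟩ := exists_notMem (insert 0 (Finset.univ.image fun i => -(K i) / b i))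
      (lt_of_le_of_lt ((Finset.card_insert_le _ _).trans (Nat.add_le_add_right Finset.card_image_le 1))
        (by simp; omega))
    simp only [Finset.mem_insert, Finset.mem_image, Finset.mem_univ, true_and, not_or, not_exists] at hs
    refine ⟨Units.mk0 s hs.1, fun i hi e => hs.2 i ?_⟩
    rw [Units.val_mk0] at e
    field_simp
    linear_combination -e
  obtain ⟨b, hb⟩ : ∃ b : Fin 4 → Fin 4 → F, ∀ i r, b i r = a i (Equiv.swap 0 p r) := ⟨_, fun _ _ => rfl⟩
  obtain ⟨s2, hs2⟩ := pick (fun i => b i 1) (fun i => b i 2)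
  obtain ⟨s3, hs3⟩ := pick (fun i => b i 1 + b i 2 * s2) (fun i => b i 3)
  refine ⟨fun r => ![1, 1, s2, s3] (Equiv.swap 0 p r), fun i => ?_⟩
  rw [← Equiv.sum_comp (Equiv.swap 0 p)]
  have e : ∀ r, (if Equiv.swap 0 p r = p then 0 else a i (Equiv.swap 0 p r)) = if r = 0 then 0 else b i r := fun r => by
    rw [hb]
    congr 1
    exact propext ⟨fun h => (Equiv.swap 0 p).injective (h.trans (Equiv.swap_apply_left 0 p).symm),
      fun h => h ▸ Equiv.swap_apply_left 0 p⟩
  simp only [e, Equiv.swap_apply_self, Fin.sum_univ_four]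
  simp
  by_cases h3 : b i 3 = 0
  swap; · exact hs3 i h3
  by_cases h2 : b i 2 = 0
  swap; · rw [h3, zero_mul, add_zero]; exact hs2 i h2
  rw [h3, h2, zero_mul, zero_mul, add_zero, add_zero]
  obtain ⟨r, hr, hra⟩ := ha i
  intro h1
  obtain ⟨r', rfl⟩ := (Equiv.swap 0 p).surjective r
  rw [← hb] at hra
  fin_cases r'
  · exact hr (Equiv.swap_apply_left 0 p)
  · exact hra h1
  · exact hra h2
  · exact hra h3

omit hmon hq in
/-- Inverse transposition. -/
noncomputable def dual : GL (Fin 4) F →* GL (Fin 4) F where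
  toFun g := ⟨(((g⁻¹ : GL (Fin 4) F) : Matrix (Fin 4) (Fin 4) F))ᵀ, (g : Matrix (Fin 4) (Fin 4) F)ᵀ,
    by rw [← Matrix.transpose_mul, ← Units.val_mul, mul_inv_cancel, Units.val_one, Matrix.transpose_one],
    by rw [← Matrix.transpose_mul, ← Units.val_mul, inv_mul_cancel, Units.val_one, Matrix.transpose_one]⟩
  map_one' := Units.ext (by simp)
  map_mul' g h := Units.ext (by simp [Matrix.transpose_mul])

omit hmon hq in
lemma dual_dual (g : GL (Fin 4) F) : dual (dual g) = g := Units.ext (Matrix.transpose_transpose _)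

/-- A non-monomial member gives an elementary transvection. -/
theorem el_of_not_mono (hM : M ≤ Cfsg.Geo.specialLinear (Fin 4) F) {x : GL (Fin 4) F} (hx : x ∈ M)
    (hm : ¬ IsMono x) : El M := by
  classical
  have hfix := el_of_fixing hmon (by omega) (by simp)
  by_cases hF : Fixing M
  · exact hfix hM hF
  have huniq : ∀ {z : GL (Fin 4) F}, z ∈ M → ¬ IsMono z → ∀ j, ∃ r, (z : Matrix (Fin 4) (Fin 4) F) r j = 0 ∧
      ∀ i, (z : Matrix (Fin 4) (Fin 4) F) i j = 0 → i = r := by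
    intro z hz hzm j
    by_cases h : ∃ r, (z : Matrix (Fin 4) (Fin 4) F) r j = 0
    · obtain ⟨r, hr⟩ := h
      exact ⟨r, hr, fun i hi => by_contra fun e => hF (fixing_two hmon hq hz hzm e hi hr)⟩
    · simp only [not_exists] at h
      exact absurd (fixing_none hmon hq hz h) hF
  obtain ⟨p, hp, hpu⟩ := huniq hx hm 0
  by_cases hrow : ∀ i, ∃ r, r ≠ p ∧ ((x⁻¹ : GL (Fin 4) F) : Matrix (Fin 4) (Fin 4) F) i r ≠ 0
  · exfalso
    obtain ⟨d, hd⟩ := exists_units (a := fun i r => ((x⁻¹ : GL (Fin 4) F) : Matrix (Fin 4) (Fin 4) F) i r *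
      (x : Matrix (Fin 4) (Fin 4) F) r 0) hq (fun i => by
        obtain ⟨r, hr, h⟩ := hrow i
        exact ⟨r, hr, mul_ne_zero h fun e => hr (hpu r e)⟩)
    obtain ⟨e, he, hdet⟩ := exists_det_one (1 : Equiv.Perm (Fin 4)) d p
    have hy : x⁻¹ * mono 1 e * x ∈ M := M.mul_mem (M.mul_mem (M.inv_mem hx) (hmon _ _ hdet)) hx
    refine hF (fixing_none hmon hq hy (k := 0) fun i => ?_)
    rw [mul_assoc, mul_apply_col]
    refine fun h0 => hd i (Eq.trans ?_ h0)
    simp only [Matrix.mulVec, dotProduct]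
    refine Finset.sum_congr rfl fun r _ => Eq.symm ?_
    show ((x⁻¹ : GL (Fin 4) F) : Matrix (Fin 4) (Fin 4) F) i r * ((mono 1 e * x : GL (Fin 4) F) : Matrix (Fin 4) (Fin 4) F) r 0 = _
    rw [mul_apply_col, show (mono 1 e : GL (Fin 4) F) = diagGL e from rfl, diag_mulVec]
    show _ * ((e r : F) * (x : Matrix (Fin 4) (Fin 4) F) r 0) = _
    by_cases hr : r = p
    · rw [hr, hp, if_pos rfl]; simp
    · rw [he r hr, if_neg hr]; ring
  simp only [not_forall, not_exists, not_and, not_not] at hrow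
  obtain ⟨i, hi⟩ := hrow
  obtain ⟨M', hM'⟩ : ∃ M' : Subgroup (GL (Fin 4) F), M' = M.comap dual := ⟨_, rfl⟩
  have hmon' : ∀ σ d, (mono σ d : Matrix (Fin 4) (Fin 4) F).det = 1 → mono σ d ∈ M' := fun σ d h1 => by
    rw [hM', Subgroup.mem_comap]
    have hmn : IsMono (dual (mono σ d)) := by
      intro j
      obtain ⟨σ', d', e'⟩ := (isMono_mono σ d).inv.exists_mono
      refine ⟨σ'.symm j, fun l hl => ?_⟩
      show ((((mono σ d)⁻¹ : GL (Fin 4) F) : Matrix (Fin 4) (Fin 4) F)) j l = 0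
      rw [e', mono_apply, if_neg (fun h => hl (by rw [h, Equiv.symm_apply_apply]))]
    obtain ⟨σ', d', e'⟩ := hmn.exists_mono
    rw [e']
    refine hmon _ _ ?_
    rw [← e']
    show ((((mono σ d)⁻¹ : GL (Fin 4) F) : Matrix (Fin 4) (Fin 4) F))ᵀ.det = 1
    rw [Matrix.det_transpose, Matrix.coe_units_inv, Matrix.det_nonsing_inv, h1, Ring.inverse_one]
  have hM'le : M' ≤ Cfsg.Geo.specialLinear (Fin 4) F := fun g hg => by
    rw [hM', Subgroup.mem_comap] at hg
    have h1 := (mem_specialLinear_iff _).mp (hM hg)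
    change ((((g⁻¹ : GL (Fin 4) F) : Matrix (Fin 4) (Fin 4) F)))ᵀ.det = 1 at h1
    rw [Matrix.det_transpose] at h1
    exact (mem_specialLinear_iff _).mpr (by
      have h2 : (g : Matrix (Fin 4) (Fin 4) F).det * ((g⁻¹ : GL (Fin 4) F) : Matrix (Fin 4) (Fin 4) F).det = 1 := by
        rw [← Matrix.det_mul, ← Units.val_mul, mul_inv_cancel, Units.val_one, Matrix.det_one]
      rwa [h1, mul_one] at h2)
  have hx' : dual x ∈ M' := by rw [hM', Subgroup.mem_comap, dual_dual]; exact hx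
  have hm' : ¬ IsMono (dual x) := fun h => hm (by
    obtain ⟨σ', d', e'⟩ := h.exists_mono
    have hinv : IsMono (x⁻¹ : GL (Fin 4) F) := fun j => ⟨σ'.symm j, fun l hl => by
      have h2 : ((x⁻¹ : GL (Fin 4) F) : Matrix (Fin 4) (Fin 4) F) l j = (mono σ' d' : Matrix (Fin 4) (Fin 4) F) j l := by
        rw [← e']; rfl
      rw [h2, mono_apply, if_neg (fun h => hl (by rw [h, Equiv.symm_apply_apply]))]⟩
    exact inv_inv x ▸ hinv.inv)
  have hF' : Fixing M' := fixing_of_coord hmon' hx' hm' (a := i) (b := p) fun r hr => hi r hr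
  obtain ⟨a, b, c, hab, hc, hT⟩ := el_of_fixing hmon' (by omega) (by simp) hM'le hF'
  rw [hM', Subgroup.mem_comap] at hT
  have hd1 := single_dotProduct_single (F := F) hab.symm (-c)
  have e : dual (transv (Pi.single a 1) (Pi.single b c)) = transv (Pi.single b 1) (Pi.single a (-c)) := by
    refine Units.ext ?_
    show ((((transv (Pi.single a (1 : F)) (Pi.single b c))⁻¹ : GL (Fin 4) F) : Matrix (Fin 4) (Fin 4) F))ᵀ = _
    have hd0 := single_dotProduct_single (F := F) hab c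
    rw [transv_inv hd0, transv_val (by rw [neg_dotProduct, hd0, neg_zero]), transv_val hd1]
    ext u v
    simp only [Matrix.transpose_apply, Matrix.add_apply, vecMulVec_apply, Pi.neg_apply, Pi.single_apply, Matrix.one_apply]
    by_cases h1 : u = v <;> by_cases h2 : u = b <;> by_cases h3 : v = a <;> simp_all <;> exact fun h => by simp_all
  rw [e] at hT
  exact ⟨b, a, -c, hab.symm, neg_ne_zero.mpr hc, hT⟩

/-- The monomial subgroup of SL_4 is maximal. -/
theorem le_of_not_isMono (hM : M ≤ Cfsg.Geo.specialLinear (Fin 4) F) {x : GL (Fin 4) F} (hx : x ∈ M)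
    (hxm : ¬ IsMono x) : Cfsg.Geo.specialLinear (Fin 4) F ≤ M :=
  le_of_el hmon (by omega) (by simp) (el_of_not_mono hmon hq hM hx hxm)

end CfsgLib.SLFour.Lines

namespace CfsgLib.SLFour

open Matrix CfsgLib.Transvec CfsgLib.Classical22 CfsgLib.Classical22.Monomial
open CfsgLib.Classical22.DecompBlocks (InBlk inBlk_single)
open CfsgLib.SLFour.Lines (le_of_not_isMono)
open scoped MatrixGroups

theorem lines_maximal {F : Type*} [Field F] [Fintype F] (D : Fin 4 → Submodule F (Fin 4 → F)) (hD : Cfsg.Geo.IsMDecomposition 1 D) (hq7 : 7 ≤ Fintype.card F) : Cfsg.Geo.IsMaximalIn (Cfsg.Geo.specialLinear (Fin 4) F) (Cfsg.Geo.decompositionStabilizer D ⊓ Cfsg.Geo.specialLinear (Fin 4) F) := by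
  classical
  obtain ⟨e, P, hP⟩ := DecompCoords.exists_coords hD
  obtain ⟨blk, hblkdef⟩ : ∃ blk : Fin 4 → Fin 4, blk = fun l => (e.symm l).1 := ⟨_, rfl⟩
  rw [← hblkdef] at hP
  have hblk_e : ∀ (j : Fin 4) (a : Fin 1), blk (e (j, a)) = j := fun j a => by simp [hblkdef]
  have hm0 := hD.pos
  refine ⟨lt_of_le_not_ge inf_le_right fun hle => ?_, fun M hHM hMK => ?_⟩
  · have h2 := hD.two_le
    obtain ⟨i0, i1, h01⟩ : ∃ i0 i1 : Fin 4, i0 ≠ i1 :=
      ⟨⟨0, by omega⟩, ⟨1, by omega⟩, fun h => absurd (congrArg Fin.val h) (by simp)⟩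
    obtain ⟨a, ha⟩ : ∃ a, a = e (i0, ⟨0, hm0⟩) := ⟨_, rfl⟩
    obtain ⟨b, hb⟩ : ∃ b, b = e (i1, ⟨0, hm0⟩) := ⟨_, rfl⟩
    have hab : a ≠ b := fun h => h01 (by rw [← hblk_e i0 ⟨0, hm0⟩, ← ha, h, hb, hblk_e])
    have hd := single_dotProduct_single (F := F) hab 1
    have hmem : P * transv (Pi.single a 1) (Pi.single b 1) * P⁻¹ ∈ Cfsg.Geo.decompositionStabilizer D := by
      refine (hle ?_).1
      rw [mem_specialLinear_iff, Units.val_mul, Units.val_mul, Matrix.det_units_conj]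
      exact (mem_specialLinear_iff _).mp (transv_mem_specialLinear _ _)
    obtain ⟨σ, hσ⟩ := (DecompCoords.mem_stabilizer_iff hD hP _).mp hmem
    have h1 := hσ i1 (Pi.single b 1) (inBlk_single (by rw [hb, hblk_e]) _)
    rw [show P⁻¹ * (P * transv (Pi.single a (1 : F)) (Pi.single b 1) * P⁻¹) * P =
        transv (Pi.single a (1 : F)) (Pi.single b 1) by group, transv_mulVec hd] at h1
    have hva : σ i1 = i0 := by
      by_contra h
      have := h1 a (by rw [ha, hblk_e]; exact Ne.symm h)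
      simp [hab] at this
    have hvb : σ i1 = i1 := by
      by_contra h
      have := h1 b (by rw [hb, hblk_e]; exact Ne.symm h)
      simp [hab.symm] at this
    exact h01 (hva.symm.trans hvb)
  by_cases hM : M ≤ Cfsg.Geo.decompositionStabilizer D
  · exact Or.inl (le_antisymm (le_inf hM hMK) hHM)
  right
  obtain ⟨g, hgM, hgH⟩ := SetLike.not_le_iff_exists.mp hM
  obtain ⟨N, hN⟩ : ∃ N : Subgroup (GL (Fin 4) F), ∀ x, x ∈ N ↔ P * x * P⁻¹ ∈ M :=
    ⟨M.comap (MulAut.conj P).toMonoidHom, fun x => Iff.rfl⟩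
  have hH : ∀ x : GL (Fin 4) F, (x : Matrix (Fin 4) (Fin 4) F).det = 1 → (∃ σ : Equiv.Perm (Fin 4), ∀ i v,
      InBlk blk i v → InBlk blk (σ i) ((x : Matrix (Fin 4) (Fin 4) F) *ᵥ v)) → x ∈ N := by
    intro x hx hσ
    refine (hN x).mpr (hHM ⟨(DecompCoords.mem_stabilizer_iff hD hP _).mpr ?_, ?_⟩)
    · rw [show P⁻¹ * (P * x * P⁻¹) * P = x by group]; exact hσ
    · show _ ∈ Cfsg.Geo.specialLinear (Fin 4) F
      rw [mem_specialLinear_iff, Units.val_mul, Units.val_mul, Matrix.det_units_conj, hx]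
  have hgN : P⁻¹ * g * P ∈ N := (hN _).mpr (by rw [show P * (P⁻¹ * g * P) * P⁻¹ = g by group]; exact hgM)
  have hgN' := mt (DecompCoords.mem_stabilizer_iff hD hP g).mpr hgH
  have hNle : N ≤ Cfsg.Geo.specialLinear (Fin 4) F := fun x hx => by
    have := (mem_specialLinear_iff _).mp (hMK ((hN x).mp hx))
    rw [Units.val_mul, Units.val_mul, Matrix.det_units_conj] at this
    exact (mem_specialLinear_iff _).mpr this
  suffices hle : Cfsg.Geo.specialLinear (Fin 4) F ≤ N by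
    refine le_antisymm hMK fun x hx => ?_
    have h3 : P⁻¹ * x * P ∈ N := hle (by
      rw [mem_specialLinear_iff, Units.val_mul, Units.val_mul, Matrix.det_units_conj']
      exact (mem_specialLinear_iff _).mp hx)
    have h4 := (hN _).mp h3
    rwa [show P * (P⁻¹ * x * P) * P⁻¹ = x by group] at h4
  have hbij : Function.Bijective blk := by
    refine ⟨fun a b h => e.symm.injective (Prod.ext ?_ (Subsingleton.elim _ _)), fun j => ⟨_, hblk_e j 0⟩⟩
    simpa [hblkdef] using h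
  obtain ⟨b, hb⟩ : ∃ b : Fin 4 ≃ Fin 4, ∀ l, b l = blk l := ⟨Equiv.ofBijective blk hbij, fun _ => rfl⟩
  have hiff : ∀ (j : Fin 4) (v : Fin 4 → F), InBlk blk j v ↔ ∀ l, l ≠ b.symm j → v l = 0 := by
    intro j v
    constructor
    · intro h l hl; refine h l fun e => hl ?_; rw [← e, ← hb, Equiv.symm_apply_apply]
    · intro h l hl; refine h l fun e => hl ?_; rw [e, ← hb, Equiv.apply_symm_apply]
  refine le_of_not_isMono (fun σ d hd => hH _ hd ⟨(b.symm.trans σ).trans b, fun i v hv => ?_⟩) hq7 hNle hgN fun hmono => hgN' ?_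
  · rw [hiff] at hv ⊢
    intro l hl
    obtain ⟨k, rfl⟩ := σ.surjective l
    rw [mono_mulVec, hv k (fun e => hl (by simp [e])), mul_zero]
  · obtain ⟨σ, d, hx⟩ := hmono.exists_mono
    refine ⟨(b.symm.trans σ).trans b, fun i v hv => ?_⟩
    rw [hiff] at hv ⊢
    intro l hl
    obtain ⟨k, rfl⟩ := σ.surjective l
    rw [hx, mono_mulVec, hv k (fun e => hl (by simp [e])), mul_zero]

end CfsgLib.SLFour
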