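/-
SL_4: the stabiliser of two planes is maximal.
-/
import Cfsg.Agent.Lib.SLGeometric

set_option autoImplicit false
set_option linter.all false

open Cfsg

namespace CfsgLib.SLFour.Planes

open Matrix CfsgLib.Transvec CfsgLib.Classical22 CfsgLib.Classical22.Monomial
open CfsgLib.Classical22.DecompBlocks (InBlk inBlk_comp inBlk_single exists_perp comp_dot exists_block_perm fullPair_block cross fullPair_sub)
open scoped MatrixGroups

variable {ι : Type} [Fintype ι] [DecidableEq ι] {F : Type*} [Field F] {κ : Type} [DecidableEq κ] [Fintype κ] {blk : ι → κ}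
variable {M : Subgroup (GL ι F)}
  (hH : ∀ g : GL ι F, (g : Matrix ι ι F).det = 1 → (∃ σ : Equiv.Perm κ, ∀ i v, InBlk blk i v →
    InBlk blk (σ i) ((g : Matrix ι ι F) *ᵥ v)) → g ∈ M)
  (hblk : ∀ j, ∃ a b, a ≠ b ∧ blk a = j ∧ blk b = j)
include hH hblk

/-- A member outside the stabiliser gives an elementary pair across two blocks. -/
lemma exists_cross
    (hκ : Fintype.card κ = 2) {t : F} (ht0 : t ≠ 0) (ht : t * t ≠ 1)
    {g : GL ι F} (hg : g ∈ M)
    (hgH : ¬ ∃ σ : Equiv.Perm κ, ∀ i v, InBlk blk i v → InBlk blk (σ i) ((g : Matrix ι ι F) *ᵥ v)) :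
    ∃ a b : ι, blk a ≠ blk b ∧ FullPair M (Pi.single a 1) (Pi.single b 1) := by
  classical
  obtain ⟨i, v, hv, p, q, hp, hq, hpq⟩ : ∃ i v, InBlk blk i v ∧ ∃ p q, ((g : Matrix ι ι F) *ᵥ v) p ≠ 0 ∧
      ((g : Matrix ι ι F) *ᵥ v) q ≠ 0 ∧ blk p ≠ blk q := by
    by_contra hcon
    refine hgH (exists_block_perm g (fun j => (hblk j).elim fun a h => h.elim fun _ h' => ⟨a, h'.2.1⟩) ?_)
    intro i v hv a b ha hb
    by_contra hne
    exact hcon ⟨i, v, hv, a, b, ha, hb, hne⟩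
  obtain ⟨φ, hφ, hφ0, hφv⟩ := exists_perp (hblk i) v
  obtain ⟨u, hu⟩ : ∃ u : ι → F, u = (g : Matrix ι ι F) *ᵥ v := ⟨_, rfl⟩
  obtain ⟨ψ, hψ⟩ : ∃ ψ : ι → F, ψ = φ ᵥ* ((g⁻¹ : GL ι F) : Matrix ι ι F) := ⟨_, rfl⟩
  have hfull : FullPair M u ψ := hu ▸ hψ ▸ fullPair_conj hg hφv (fullPair_block hH hv hφ hφv)
  have hd : ψ ⬝ᵥ u = 0 := by rw [hu, hψ, vecMul_inv_dotProduct, hφv]
  have hψ0 : ψ ≠ 0 := fun e => hφ0 (by
    have h1 := congrArg (fun x => x ᵥ* (g : Matrix ι ι F)) (hψ.symm.trans e)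
    simpa [vecMul_vecMul] using h1)
  rw [← hu] at hp hq
  -- a coordinate of the centre outside a given block
  have hout : ∀ k : κ, ∃ a, blk a ≠ k ∧ u a ≠ 0 := fun k => by
    by_cases e : blk p = k
    · exact ⟨q, fun e' => hpq (e.trans e'.symm), hq⟩
    · exact ⟨p, e, hp⟩
  by_cases hbad : ∃ j, DecompBlocks.comp blk j ψ ⬝ᵥ u ≠ 0
  · obtain ⟨j, hj⟩ := hbad
    obtain ⟨w, hw, hw0, hψw⟩ := exists_perp (hblk j) ψ
    rw [dotProduct_comm] at hψw
    obtain ⟨c, hcj, hc⟩ : ∃ c, blk c ≠ j ∧ ψ c ≠ 0 := by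
      by_contra hcon
      refine hj ?_
      rw [← hd]
      refine congrArg (· ⬝ᵥ u) (funext fun l => ?_)
      by_cases e : blk l = j
      · simp [DecompBlocks.comp, e]
      · simp only [DecompBlocks.comp, if_neg e]
        by_contra hl
        exact hcon ⟨l, e, fun h => hl h.symm⟩
    exact cross hH hblk hd hfull hw hw0 (inBlk_comp j ψ) (by rw [comp_dot hw]; exact hψw) hψw hj hcj hc
  simp only [not_exists, not_not] at hbad
  obtain ⟨c, hc⟩ := Function.ne_iff.mp hψ0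
  rw [Pi.zero_apply] at hc
  obtain ⟨j, hjdef⟩ : ∃ j, j = blk c := ⟨_, rfl⟩
  obtain ⟨l, hl⟩ : ∃ l, l ≠ j := Fintype.exists_ne_of_one_lt_card (by omega) _
  have hsplit : ∀ k : κ, k = j ∨ k = l := fun k => by
    by_contra hk
    rw [not_or] at hk
    have h3 : ({j, l, k} : Finset κ).card = 3 :=
      Finset.card_eq_three.mpr ⟨j, l, k, Ne.symm hl, Ne.symm hk.1, Ne.symm hk.2, rfl⟩
    have := Finset.card_le_univ ({j, l, k} : Finset κ)
    omega
  obtain ⟨C, hC⟩ : ∃ C, C = DecompBlocks.comp blk j ψ := ⟨_, rfl⟩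
  obtain ⟨L, hL⟩ : ∃ L, L = DecompBlocks.comp blk l ψ := ⟨_, rfl⟩
  have hψsum : ψ = C + L := funext fun m => by
    rcases hsplit (blk m) with e | e <;> simp [hC, hL, DecompBlocks.comp, e, hl, Ne.symm hl]
  have hCu : C ⬝ᵥ u = 0 := hC ▸ hbad j
  have hCc : C c = ψ c := by simp [hC, DecompBlocks.comp, hjdef]
  have hCpair : FullPair M u C := by
    by_cases hL0 : L = 0
    · rwa [hψsum, hL0, add_zero] at hfull
    obtain ⟨c', hc'⟩ := Function.ne_iff.mp hL0
    have hc'l : blk c' = l := by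
      by_contra e
      exact hc' (by simp [hL, DecompBlocks.comp, e])
    obtain ⟨a, hadef⟩ : ∃ a, a = (ψ c)⁻¹ • C := ⟨_, rfl⟩
    obtain ⟨b, hbdef⟩ : ∃ b, b = (L c')⁻¹ • L := ⟨_, rfl⟩
    have hc'0 : L c' ≠ 0 := hc'
    have hac : a ⬝ᵥ Pi.single c 1 = 1 := by
      simp only [hadef, dotProduct_single, Pi.smul_apply, smul_eq_mul, mul_one, hCc]
      exact inv_mul_cancel₀ hc
    have hbc : b ⬝ᵥ Pi.single c' 1 = 1 := by
      simp only [hbdef, dotProduct_single, Pi.smul_apply, smul_eq_mul, mul_one]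
      exact inv_mul_cancel₀ hc'0
    have hau : a ⬝ᵥ u = 0 := by rw [hadef, smul_dotProduct, hCu, smul_zero]
    have hbu : b ⬝ᵥ u = 0 := by rw [hbdef, smul_dotProduct, hL, hbad, smul_zero]
    have haj : InBlk blk j a := hadef ▸ hC ▸ (inBlk_comp j ψ).smul _
    have hbl : InBlk blk l b := hbdef ▸ hL ▸ (inBlk_comp l ψ).smul _
    obtain ⟨R, hR⟩ : ∃ R, R = refl (Pi.single c 1) a t * refl (Pi.single c' 1) b t⁻¹ := ⟨_, rfl⟩
    have hRM : R ∈ M := by
      refine hH _ ?_ ⟨1, fun i x hx m hm => ?_⟩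
      · rw [hR, Units.val_mul, det_mul, det_refl hac ht0, det_refl hbc (inv_ne_zero ht0), mul_inv_cancel₀ ht0]
      rw [hR, mul_mulVec, refl_mulVec hac ht0, refl_mulVec hbc (inv_ne_zero ht0)]
      rw [Equiv.Perm.one_apply] at hm
      simp only [Pi.add_apply, Pi.smul_apply, smul_eq_mul, hx m hm, zero_add, dotProduct_add, dotProduct_smul]
      rw [haj.dot (inBlk_single hc'l _) (Ne.symm hl), mul_zero, add_zero]
      rcases hsplit i with rfl | rfl
      · rw [hbl.dot hx hl, mul_zero, zero_mul, zero_add, Pi.single_eq_of_ne (fun e : m = c => hm (e ▸ hjdef.symm)),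
          mul_zero]
      · rw [haj.dot hx (Ne.symm hl), mul_zero, zero_mul, add_zero,
          Pi.single_eq_of_ne (fun e : m = c' => hm (e ▸ hc'l)), mul_zero]
    have hRu : (R : Matrix ι ι F) *ᵥ u = u := by
      rw [hR, mul_mulVec, refl_mulVec hbc (inv_ne_zero ht0), hbu, mul_zero, zero_smul, add_zero, refl_mulVec hac ht0,
        hau, mul_zero, zero_smul, add_zero]
    have hR'u : ((R⁻¹ : GL ι F) : Matrix ι ι F) *ᵥ u = u := by conv_lhs => rw [← hRu, inv_mulVec_cancel]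
    have h1 := fullPair_conj (M.inv_mem hRM) hd hfull
    rw [hR'u, inv_inv] at h1
    have hd1 : (ψ ᵥ* (R : Matrix ι ι F)) ⬝ᵥ u = 0 := by rw [← dotProduct_mulVec, hRu, hd]
    have e : ψ ᵥ* (R : Matrix ι ι F) - t⁻¹ • ψ = (t - t⁻¹) • C := by
      rw [hR, Units.val_mul, ← vecMul_vecMul, refl_vecMul hac ht0, refl_vecMul hbc (inv_ne_zero ht0),
        add_dotProduct, smul_dotProduct, dotProduct_single, dotProduct_single, dotProduct_single, hadef, hbdef]
      have e1 : C c' = 0 := by simp [hC, DecompBlocks.comp, hc'l, hl]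
      have e2 : ψ c' = L c' := by simp [hL, DecompBlocks.comp, hc'l]
      simp only [Pi.smul_apply, smul_eq_mul, e1, e2, mul_one, mul_zero, add_zero]
      obtain ⟨k, hk, hk0⟩ : ∃ k, k = ψ c ∧ k ≠ 0 := ⟨_, rfl, hc⟩
      obtain ⟨k', hk', hk'0⟩ : ∃ k', k' = L c' ∧ k' ≠ 0 := ⟨_, rfl, hc'0⟩
      rw [← hk, ← hk', hψsum]
      match_scalars <;> field_simp <;> ring
    have hd2 : (t⁻¹ • ψ) ⬝ᵥ u = 0 := by rw [smul_dotProduct, hd, smul_zero]
    have h2 : FullPair M u (t⁻¹ • ψ) := fun x => by rw [smul_smul]; exact hfull _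
    have h3 := fullPair_sub hH hd1 hd2 h1 h2
    rw [e] at h3
    intro x
    have hne : t - t⁻¹ ≠ 0 := sub_ne_zero.mpr fun e' => ht (by
      have := congrArg (· * t) e'
      simpa [inv_mul_cancel₀ ht0] using this)
    have := h3 (x / (t - t⁻¹))
    rwa [smul_smul, div_mul_cancel₀ _ hne] at this
  obtain ⟨a, hac, hua⟩ := hout (blk c)
  obtain ⟨b, hba, hb⟩ : ∃ b, b ≠ a ∧ blk b = blk a := by
    obtain ⟨x, y, hxy, hx, hy⟩ := hblk (blk a)
    by_cases e : x = a
    · exact ⟨y, fun e' => hxy (e.trans e'.symm), hy⟩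
    · exact ⟨x, e, hx⟩
  exact cross hH hblk (w := Pi.single b 1) (χ := Pi.single a 1) (c := c) hCu hCpair (inBlk_single hb _) (by simp)
    (inBlk_single rfl _) (by simp [hba.symm]) (by simp [hC, DecompBlocks.comp, hb, hjdef, hac]) (by simpa using hua) (Ne.symm hac)
    (by rw [hCc]; exact hc)

/-- A subgroup of SL properly containing the stabiliser of the blocks is SL. -/
theorem le_of_not_block_perm
    (hperm : ∀ a b a' b', blk a ≠ blk b → blk a' ≠ blk b' →
      ∃ (π : Equiv.Perm ι) (σ : Equiv.Perm κ), π a = a' ∧ π b = b' ∧ ∀ l, blk (π l) = σ (blk l))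
    (hκ : Fintype.card κ = 2) {t : F} (ht0 : t ≠ 0) (ht : t * t ≠ 1)
    {g : GL ι F} (hg : g ∈ M)
    (hgH : ¬ ∃ σ : Equiv.Perm κ, ∀ i v, InBlk blk i v → InBlk blk (σ i) ((g : Matrix ι ι F) *ᵥ v)) :
    Cfsg.Geo.specialLinear ι F ≤ M := by
  classical
  obtain ⟨a0, b0, hab, hfull⟩ := exists_cross hH hblk hκ ht0 ht hg hgH
  have hall : ∀ a b : ι, a ≠ b → ∀ x : F, transv (Pi.single a 1) (Pi.single b x) ∈ M := by
    intro a b hne x
    by_cases hblkab : blk a = blk b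
    · have := fullPair_block hH (inBlk_single rfl (1 : F)) (inBlk_single hblkab.symm (1 : F))
        (by simp [hne.symm] : (Pi.single b 1 : ι → F) ⬝ᵥ Pi.single a 1 = 0) x
      rwa [← Pi.single_smul, smul_eq_mul, mul_one] at this
    · obtain ⟨π, σ, hπa, hπb, hπ⟩ := hperm a0 b0 a b hab hblkab
      obtain ⟨e, -, hdet⟩ := exists_det_one π (1 : ι → Fˣ) a0
      have hmem : mono π e ∈ M := hH _ hdet ⟨σ, fun i v hv l hl => by
        obtain ⟨m, rfl⟩ := π.surjective l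
        rw [mono_mulVec, hv m (fun h => hl (by rw [hπ, h])), mul_zero]⟩
      have hne0 : a0 ≠ b0 := fun h => hab (congrArg blk h)
      have h1 := M.mul_mem (M.mul_mem hmem (hfull ((e a0 : F)⁻¹ * x * e b0))) (M.inv_mem hmem)
      rw [← Pi.single_smul, smul_eq_mul, mul_one, mono_conj_transv _ _ hne0, hπa, hπb] at h1
      simpa [mul_assoc] using h1
  intro x hx
  rw [mem_specialLinear_iff] at hx
  have key := CfsgLib.Classical.SL_le_of_transvections (M.comap Matrix.SpecialLinearGroup.toGL) fun i j hij a => by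
    rw [Subgroup.mem_comap, toGL_transvection hij a]
    exact hall i j hij a
  have h1 : (⟨(x : Matrix ι ι F), hx⟩ : Matrix.SpecialLinearGroup ι F) ∈ M.comap Matrix.SpecialLinearGroup.toGL := by
    rw [key]; trivial
  have e : Matrix.SpecialLinearGroup.toGL ⟨(x : Matrix ι ι F), hx⟩ = x := Units.ext rfl
  exact e ▸ Subgroup.mem_comap.mp h1

end CfsgLib.SLFour.Planes

namespace CfsgLib.SLFour

open Matrix CfsgLib.Transvec CfsgLib.Classical22 CfsgLib.Classical22.Monomial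
open CfsgLib.Classical22.DecompBlocks (InBlk inBlk_single)
open CfsgLib.SLFour.Planes (le_of_not_block_perm)
open scoped MatrixGroups

theorem planes_maximal {F : Type*} [Field F] [Fintype F] (n : ℕ) (hn : n = 4) (D : Fin 2 → Submodule F (Fin n → F)) (hD : Cfsg.Geo.IsMDecomposition 2 D) (hq : 4 ≤ Fintype.card F) : Cfsg.Geo.IsMaximalIn (Cfsg.Geo.specialLinear (Fin n) F) (Cfsg.Geo.decompositionStabilizer D ⊓ Cfsg.Geo.specialLinear (Fin n) F) := by
  classical
  obtain ⟨e, P, hP⟩ := DecompCoords.exists_coords hD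
  obtain ⟨blk, hblkdef⟩ : ∃ blk : Fin n → Fin 2, blk = fun l => (e.symm l).1 := ⟨_, rfl⟩
  rw [← hblkdef] at hP
  have hblk_e : ∀ (j : Fin 2) (a : Fin 2), blk (e (j, a)) = j := fun j a => by simp [hblkdef]
  
  have hm0 := hD.pos
  refine ⟨lt_of_le_not_ge inf_le_right fun hle => ?_, fun M hHM hMK => ?_⟩
  · have h2 := hD.two_le
    obtain ⟨i0, i1, h01⟩ : ∃ i0 i1 : Fin 2, i0 ≠ i1 := ⟨0, 1, by decide⟩
    obtain ⟨a, ha⟩ : ∃ a, a = e (i0, ⟨0, hm0⟩) := ⟨_, rfl⟩
    obtain ⟨b, hb⟩ : ∃ b, b = e (i1, ⟨0, hm0⟩) := ⟨_, rfl⟩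
    have hab : a ≠ b := fun h => h01 (by rw [← hblk_e i0 ⟨0, hm0⟩, ← ha, h, hb, hblk_e])
    have hd := single_dotProduct_single (F := F) hab 1
    have hmem : P * transv (Pi.single a 1) (Pi.single b 1) * P⁻¹ ∈ Cfsg.Geo.decompositionStabilizer D := by
      refine (hle ?_).1
      rw [mem_specialLinear_iff, Units.val_mul, Units.val_mul, Matrix.det_units_conj]
      exact (mem_specialLinear_iff _).mp (transv_mem_specialLinear _ _)
    obtain ⟨σ, hσ⟩ := (DecompCoords.mem_stabilizer_iff hD hP _).mp hmem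
    have h1 := hσ i1 (Pi.single b 1) (inBlk_single (by rw [hb, hblk_e]) _)
    rw [show P⁻¹ * (P * transv (Pi.single a (1 : F)) (Pi.single b 1) * P⁻¹) * P =
        transv (Pi.single a (1 : F)) (Pi.single b 1) by group, transv_mulVec hd] at h1
    have hva : σ i1 = i0 := by
      by_contra h
      have := h1 a (by rw [ha, hblk_e]; exact Ne.symm h)
      simp [hab] at this
    have hvb : σ i1 = i1 := by
      by_contra h
      have := h1 b (by rw [hb, hblk_e]; exact Ne.symm h)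
      simp [hab.symm] at this
    exact h01 (hva.symm.trans hvb)
  by_cases hM : M ≤ Cfsg.Geo.decompositionStabilizer D
  · exact Or.inl (le_antisymm (le_inf hM hMK) hHM)
  right
  obtain ⟨g, hgM, hgH⟩ := SetLike.not_le_iff_exists.mp hM
  obtain ⟨N, hN⟩ : ∃ N : Subgroup (GL (Fin n) F), ∀ x, x ∈ N ↔ P * x * P⁻¹ ∈ M :=
    ⟨M.comap (MulAut.conj P).toMonoidHom, fun x => Iff.rfl⟩
  have hH : ∀ x : GL (Fin n) F, (x : Matrix (Fin n) (Fin n) F).det = 1 → (∃ σ : Equiv.Perm (Fin 2), ∀ i v,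
      InBlk blk i v → InBlk blk (σ i) ((x : Matrix (Fin n) (Fin n) F) *ᵥ v)) → x ∈ N := by
    intro x hx hσ
    refine (hN x).mpr (hHM ⟨(DecompCoords.mem_stabilizer_iff hD hP _).mpr ?_, ?_⟩)
    · rw [show P⁻¹ * (P * x * P⁻¹) * P = x by group]; exact hσ
    · show _ ∈ Cfsg.Geo.specialLinear (Fin n) F
      rw [mem_specialLinear_iff, Units.val_mul, Units.val_mul, Matrix.det_units_conj, hx]
  have hgN : P⁻¹ * g * P ∈ N := (hN _).mpr (by rw [show P * (P⁻¹ * g * P) * P⁻¹ = g by group]; exact hgM)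
  have hgN' := mt (DecompCoords.mem_stabilizer_iff hD hP g).mpr hgH
  have hNle : N ≤ Cfsg.Geo.specialLinear (Fin n) F := fun x hx => by
    have := (mem_specialLinear_iff _).mp (hMK ((hN x).mp hx))
    rw [Units.val_mul, Units.val_mul, Matrix.det_units_conj] at this
    exact (mem_specialLinear_iff _).mpr this
  suffices hle : Cfsg.Geo.specialLinear (Fin n) F ≤ N by
    refine le_antisymm hMK fun x hx => ?_
    have h3 : P⁻¹ * x * P ∈ N := hle (by
      rw [mem_specialLinear_iff, Units.val_mul, Units.val_mul, Matrix.det_units_conj']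
      exact (mem_specialLinear_iff _).mp hx)
    have h4 := (hN _).mp h3
    rwa [show P * (P⁻¹ * x * P) * P⁻¹ = x by group] at h4
  obtain ⟨t, ht0, ht⟩ : ∃ t : F, t ≠ 0 ∧ t * t ≠ 1 := by
    obtain ⟨t, ht⟩ := DecompLine.exists_notMem ({0, 1, -1} : Finset F) (lt_of_le_of_lt Finset.card_le_three (by omega))
    simp only [Finset.mem_insert, Finset.mem_singleton, not_or] at ht
    exact ⟨t, ht.1, fun h => by rcases mul_self_eq_one_iff.mp h with e | e <;> [exact ht.2.1 e; exact ht.2.2 e]⟩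
  refine le_of_not_block_perm hH
    (fun j => ⟨e (j, ⟨0, hm0⟩), e (j, ⟨1, by omega⟩), by simp, hblk_e _ _, hblk_e _ _⟩) ?_ (Fintype.card_fin 2) ht0 ht hgN hgN'
  · intro a b a' b' hab hab'
    simp only [hblkdef] at hab hab' ⊢
    obtain ⟨s1, hs1⟩ : ∃ s1, s1 = Equiv.swap (e.symm a).1 (e.symm a').1 := ⟨_, rfl⟩
    obtain ⟨σ, hσ⟩ : ∃ σ, σ = Equiv.swap (s1 (e.symm b).1) (e.symm b').1 * s1 := ⟨_, rfl⟩
    have hσa : σ (e.symm a).1 = (e.symm a').1 := by
      rw [hσ, Equiv.Perm.mul_apply, hs1, Equiv.swap_apply_left, Equiv.swap_apply_of_ne_of_ne ?_ hab']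
      intro h
      exact hab ((Equiv.swap (e.symm a).1 (e.symm a').1).injective ((Equiv.swap_apply_left _ _).trans h))
    have hσb : σ (e.symm b).1 = (e.symm b').1 := by rw [hσ, Equiv.Perm.mul_apply, Equiv.swap_apply_left]
    -- permutations inside the blocks
    obtain ⟨τ, hτ⟩ : ∃ τ : Fin 2 → Equiv.Perm (Fin 2), τ = fun j =>
        if j = (e.symm a).1 then Equiv.swap (e.symm a).2 (e.symm a').2
        else if j = (e.symm b).1 then Equiv.swap (e.symm b).2 (e.symm b').2 else 1 := ⟨_, rfl⟩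
    refine ⟨(e.symm.trans ((Equiv.prodShear σ τ))).trans e, σ, ?_, ?_, fun l => ?_⟩
    · rw [Equiv.trans_apply, Equiv.trans_apply]
      show e (σ (e.symm a).1, τ (e.symm a).1 (e.symm a).2) = a'
      rw [hσa, hτ]
      simp
    · rw [Equiv.trans_apply, Equiv.trans_apply]
      show e (σ (e.symm b).1, τ (e.symm b).1 (e.symm b).2) = b'
      rw [hσb, hτ]
      simp [Ne.symm hab]
    · simp [Equiv.prodShear_apply]

end CfsgLib.SLFour
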