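/-
SL_4: two Eichler groups of non-proportional forms, and transvections, in dimension four.
-/
import Cfsg.Agent.Lib.SLGeometric
import Cfsg.Agent.Lib.Classical22.Frame.RootSeed

set_option autoImplicit false
set_option linter.all false

namespace CfsgLib.SLFour.Quad

open Matrix CfsgLib.Transvec
open CfsgLib.Transvec.OrthOverSL (IsSymForm bvec bvec_dot bvec_injective perpD finrank_perpD_ge finrank_span_list_le exists_sing_in bvec_vecMul_inv)
open CfsgLib.Transvec.OrthOverSLEich (eX eX_mulVec eX_iso eX_fix eX_mem_specialLinear bvec_surjective exists_form exists_orth totally_singular exists_nonsing Rel)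
open CfsgLib.Classical22.Frame (exists_diag_value)
open scoped MatrixGroups

variable {ι : Type} [Fintype ι] [DecidableEq ι] {F : Type*} [Field F] [Fintype F]
  {B : LinearMap.BilinForm F (ι → F)}

/-- There is a transvection in `M`, its axis written through `B`. -/
def Good (B : LinearMap.BilinForm F (ι → F)) (M : Subgroup (GL ι F)) : Prop :=
  ∃ v z : ι → F, v ≠ 0 ∧ z ≠ 0 ∧ B v z = 0 ∧ transv v (bvec B z) ∈ M

lemma Good.change (hB : IsSymForm B) {B' : LinearMap.BilinForm F (ι → F)} (hB' : IsSymForm B')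
    {M : Subgroup (GL ι F)} (h : Good B' M) : Good B M := by
  obtain ⟨v, z, hv, hz, hvz, hm⟩ := h
  obtain ⟨y, hy⟩ := bvec_surjective hB (bvec B' z)
  refine ⟨v, y, hv, fun e => hz (bvec_injective hB' ?_), ?_, hy ▸ hm⟩
  · rw [← hy, e, map_zero, map_zero]
  · rw [← bvec_dot, hy, bvec_dot, hvz]

variable (hB : IsSymForm B) (hn : Fintype.card ι = 4)
include hB hn

/-- The orthogonal of a plane that is not totally singular has a non-singular vector. -/
lemma exists_nonsing2 (a b : ι → F) (h : B a a ≠ 0 ∨ B b b ≠ 0 ∨ B a b ≠ 0) :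
    ∃ x, B x a = 0 ∧ B x b = 0 ∧ B x x ≠ 0 := by
  obtain ⟨W, hW, hdim⟩ := exists_orth hB [a, b]
  simp at hdim
  by_contra hcon
  simp only [not_exists, not_and, not_not] at hcon
  have hW' : ∀ x ∈ W, B x x = 0 := fun x hx => hcon x ((hW x).mp hx a (by simp)) ((hW x).mp hx b (by simp))
  have hle : W.map (bvec B) ≤ Submodule.span F {x | x ∈ [bvec B a, bvec B b]} := by
    rintro _ ⟨y, hy, rfl⟩
    by_contra hnot
    obtain ⟨r, hr, hr1⟩ := exists_functional hnot
    have hrW : r ∈ W := (hW r).mpr fun e he => by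
      rw [← bvec_dot, dotProduct_comm]
      refine hr _ (Submodule.subset_span ?_)
      simp at he ⊢
      rcases he with rfl | rfl <;> simp
    rw [dotProduct_comm, bvec_dot, totally_singular hB hW' hrW hy] at hr1
    exact zero_ne_one hr1
  have hfr := finrank_span_list_le [bvec B a, bvec B b]
  have heq := Submodule.eq_of_le_of_finrank_le hle (by
    rw [← (Submodule.equivMapOfInjective (bvec B) (bvec_injective hB) W).finrank_eq]
    simp at hfr
    omega)
  have hmem : ∀ c, bvec B c ∈ Submodule.span F {x | x ∈ [bvec B a, bvec B b]} → c ∈ W := fun c hc => by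
    rw [← heq] at hc
    obtain ⟨y, hy, hyc⟩ := hc
    rwa [← bvec_injective hB hyc]
  have haW := hmem a (Submodule.subset_span (by simp))
  have hbW := hmem b (Submodule.subset_span (by simp))
  rcases h with h | h | h
  · exact h (hW' a haW)
  · exact h (hW' b hbW)
  · exact h ((hW a).mp haW b (by simp))

variable {R : (ι → F) → (ι → F) → Prop}

lemma rel_move (hR : Rel B R) {v z p w : ι → F} (h : R v z) (hp : B p p = 0) (hw : B p w = 0)
    (hpz : B p z = 0) (hwz : B w z = 0) : R ((B v w - B w w / 2 * B v p) • p - B v p • w) z := by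
  have h1 := hR.conj hp hw h
  rw [eX_fix hB hp hw (x := z) (by rw [hB.symm, hpz]) (by rw [hB.symm, hwz]), eX_mulVec hB hp hw v] at h1
  refine hR.sub (by simp [hpz, hwz]) ?_ h
  rwa [show v + (((B v w - B w w / 2 * B v p) • p) - B v p • w) = v + (B v w - B w w / 2 * B v p) • p - B v p • w by
    abel]

/-- An anisotropic second vector takes every first vector orthogonal to it. -/
lemma rel_nonsing (hR : Rel B R) {v z : ι → F} (hzz : B z z ≠ 0) (hv : v ≠ 0) (h : R v z) :
    ∀ u, B u z = 0 → R u z := by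
  have hz0 : z ≠ 0 := fun e => hzz (by simp [e])
  have h2 := hB.two
  -- a pairing puts all multiples of a singular vector in the class
  have key : ∀ v p, R v z → B p p = 0 → B p z = 0 → B v p ≠ 0 → ∀ k : F, R (k • p) z := by
    intro v p hv hpp hpz hvp k
    obtain ⟨w, hwz, hwp, hww⟩ := exists_nonsing2 hB hn z p (Or.inl hzz)
    have e : ∀ j : F, R ((j * B v w - j * j * B w w / 2 * B v p) • p - B v p • (j • w)) z := fun j => by
      have := rel_move hB hn hR hv hpp (w := j • w) (by rw [map_smul, hB.symm, hwp, smul_zero]) hpz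
        (by rw [map_smul, LinearMap.smul_apply, hwz, smul_zero])
      simpa [mul_assoc, mul_comm, mul_left_comm] using this
    have e2 : ∀ j : F, R ((-(B w w * B v p) * (j * j)) • p) z := fun j => by
      have := hR.add (e j) (e (-j))
      convert this using 1
      match_scalars <;> field_simp <;> ring
    obtain ⟨s, t, hst⟩ := exists_diag_value h2 (neg_ne_zero.mpr (mul_ne_zero hww hvp))
      (neg_ne_zero.mpr (mul_ne_zero hww hvp)) k
    have := hR.add (e2 s) (e2 t)
    rwa [← add_smul, hst] at this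
  -- singular vectors orthogonal to z pair with everything orthogonal to z
  have hsing : ∀ u, u ≠ 0 → B u z = 0 → ∃ p, B p p = 0 ∧ B p z = 0 ∧ B u p ≠ 0 := by
    intro u hu huz
    obtain ⟨W, hW, hdim⟩ := exists_orth hB [z]
    simp at hdim
    obtain ⟨s, hs, hs0, hss⟩ := exists_sing_in hB (W := W) (by omega)
    have hsz := (hW s).mp hs z (by simp)
    have hnots : s ∉ Submodule.span F {z} := fun hm => by
      obtain ⟨j, rfl⟩ := Submodule.mem_span_singleton.mp hm
      simp [hzz] at hsz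
      exact hs0 (by rw [hsz, zero_smul])
    have hnotu : u ∉ Submodule.span F {z} := fun hm => by
      obtain ⟨j, rfl⟩ := Submodule.mem_span_singleton.mp hm
      simp [hzz] at huz
      exact hu (by rw [huz, zero_smul])
    obtain ⟨y, hy, hy1⟩ := exists_form hB s _ hnots
    have hyz := hy z (Submodule.mem_span_singleton_self z)
    obtain ⟨t, ht⟩ : ∃ t, t = y - (B y y / 2) • s := ⟨_, rfl⟩
    have htt : B t t = 0 := by simp [ht, hss, hB.symm s y, hy1]; field_simp; ring
    have htz : B t z = 0 := by simp [ht, hyz, hsz]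
    have hts : B t s = 1 := by simp [ht, hss, hy1]
    by_cases hus : B u s = 0
    swap; · exact ⟨s, hss, hsz, hus⟩
    by_cases hut : B u t = 0
    swap; · exact ⟨t, htt, htz, hut⟩
    obtain ⟨x, hx, hx1⟩ := exists_form hB u _ hnotu
    have hxz := hx z (Submodule.mem_span_singleton_self z)
    obtain ⟨r, hr⟩ : ∃ r, r = x - B x t • s - B x s • t := ⟨_, rfl⟩
    have hrs : B r s = 0 := by simp [hr, hss, hts]
    have hrt : B r t = 0 := by simp [hr, htt, hB.symm s t, hts]
    have hrz : B r z = 0 := by simp [hr, hxz, hsz, htz]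
    have hur : B u r = 1 := by simp [hr, hus, hut, hB.symm u x, hx1]
    refine ⟨s + r + (-(B r r) / 2) • t, ?_, by simp [hsz, hrz, htz], by simp [hus, hut, hur]⟩
    simp [hss, htt, hB.symm s t, hts, hB.symm s r, hrs, hB.symm t r, hrt]
    field_simp
    ring
  obtain ⟨p, hpp, hpz, hvp⟩ := hsing v hv (hR.orth h)
  have hpR : R p z := by simpa using key v p h hpp hpz hvp 1
  have hp0 : p ≠ 0 := fun e => hvp (by simp [e])
  have hall : ∀ b, B b b = 0 → B b z = 0 → ∀ k : F, R (k • b) z := by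
    intro b hbb hbz k
    by_cases hb : b = 0
    · subst hb
      rw [smul_zero]
      simpa using key v p h hpp hpz hvp 0
    by_cases hpb : B p b = 0
    swap; · exact key p b hpR hbb hbz hpb k
    obtain ⟨a, haa, haz, hba⟩ := hsing b hb hbz
    obtain ⟨c, hcc, hcz, hpc⟩ := hsing p hp0 hpz
    have mid : ∀ a, B a a = 0 → B a z = 0 → B p a ≠ 0 → B a b ≠ 0 → R (k • b) z := fun a haa haz h1 h2 =>
      key a b (by simpa using key p a hpR haa haz h1 1) hbb hbz h2 k
    have hab : B a b ≠ 0 := by rwa [hB.symm]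
    by_cases hpa : B p a = 0
    swap; · exact mid a haa haz hpa hab
    by_cases hcb : B c b = 0
    swap; · exact mid c hcc hcz hpc hcb
    by_cases hca : B c a = 0
    · exact mid (a + c) (by simp [haa, hcc, hca, hB.symm a c]) (by simp [haz, hcz]) (by simp [hpa, hpc])
        (by simp [hcb, hab])
    · have hc : R c z := by simpa using key p c hpR hcc hcz hpc 1
      exact key a b (by simpa using key c a hc haa haz hca 1) hbb hbz hab k
  intro u hu
  by_cases hu0 : u = 0
  · subst hu0
    simpa using hall p hpp hpz 0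
  by_cases huu : B u u = 0
  · simpa using hall u huu hu 1
  obtain ⟨r, hrr, hr, hur⟩ := hsing u hu0 hu
  obtain ⟨c, hc⟩ : ∃ c, c = -B u u / (2 * B u r) := ⟨_, rfl⟩
  have hu' : B (u + c • r) (u + c • r) = 0 := by
    simp [hrr, hB.symm r u, hc]
    field_simp
    ring
  have h3 := hR.add (hall (u + c • r) hu' (by simp [hu, hr]) 1) (hall r hrr hr (-c))
  rwa [one_smul, neg_smul, add_neg_cancel_right] at h3

variable {M : Subgroup (GL ι F)} (hE : ∀ a w, B a a = 0 → B a w = 0 → eX B a w ∈ M)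
include hE

lemma rel_centre : Rel B (fun v z => B v z = 0 ∧ transv v (bvec B z) ∈ M) where
  orth h := h.1
  conj := by
    intro a w v z ha hw h
    refine ⟨by rw [eX_iso hB ha hw]; exact h.1, ?_⟩
    have h1 := M.mul_mem (M.mul_mem (hE a w ha hw) h.2) (M.inv_mem (hE a w ha hw))
    rwa [conj_transv _ (by rw [bvec_dot, h.1]), bvec_vecMul_inv hB (eX_iso hB ha hw)] at h1
  add := by
    intro v d z h1 h2
    refine ⟨by simp [h1.1, h2.1], ?_⟩
    rw [← transv_add_left (by rw [bvec_dot, h1.1]) (by rw [bvec_dot, h2.1])]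
    exact M.mul_mem h1.2 h2.2
  sub := by
    intro v d z hdz h1 h2
    refine ⟨hdz, ?_⟩
    have h3 := M.mul_mem (M.inv_mem h2.2) h1.2
    rwa [← transv_add_left (by rw [bvec_dot, h2.1]) (by rw [bvec_dot, hdz]), inv_mul_cancel_left] at h3

lemma rel_axis : Rel B (fun z v => B v z = 0 ∧ transv v (bvec B z) ∈ M) where
  orth h := by rw [hB.symm]; exact h.1
  conj := fun ha hw h => (rel_centre hB hn hE).conj ha hw h
  add := by
    intro z d v h1 h2
    refine ⟨by simp [h1.1, h2.1], ?_⟩
    rw [map_add, ← transv_mul (by rw [bvec_dot, h1.1]) (by rw [bvec_dot, h2.1])]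
    exact M.mul_mem h1.2 h2.2
  sub := by
    intro z d v hdv h1 h2
    rw [hB.symm] at hdv
    refine ⟨hdv, ?_⟩
    have h3 := M.mul_mem (M.inv_mem h2.2) h1.2
    rwa [map_add, ← transv_mul (by rw [bvec_dot, h2.1]) (by rw [bvec_dot, hdv]), inv_mul_cancel_left] at h3

/-- An axis proportional to its singular centre leads to an anisotropic axis. -/
lemma exists_aniso {v0 : ι → F} {c : F} (hv0 : v0 ≠ 0) (hvv : B v0 v0 = 0) (hc0 : c ≠ 0)
    (h : transv v0 (bvec B (c • v0)) ∈ M) : ∃ v z, v ≠ 0 ∧ B z z ≠ 0 ∧ B v z = 0 ∧ transv v (bvec B z) ∈ M := by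
      have hvz : B v0 (c • v0) = 0 := by rw [map_smul, hvv, smul_zero]
      have hc := rel_centre hB hn hE
      have h2 := hB.two
      obtain ⟨x, -, hx1⟩ := exists_form hB v0 ⊥ (fun hm => hv0 ((Submodule.mem_bot F).mp hm))
      obtain ⟨p, hp⟩ : ∃ p, p = x - (B x x / 2) • v0 := ⟨_, rfl⟩
      have hpp : B p p = 0 := by
        simp [hp, hvv, hB.symm v0 x, hx1]
        field_simp
        ring
      have hpv : B p v0 = 1 := by simp [hp, hvv, hx1]
      obtain ⟨w, hwp, hwv, hww⟩ := exists_nonsing2 hB hn p v0 (Or.inr (Or.inr (by rw [hpv]; exact one_ne_zero)))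
      have hpw : B p w = 0 := by rw [hB.symm, hwp]
      obtain ⟨v1, hv1⟩ : ∃ v1, v1 = (eX B p w : Matrix ι ι F) *ᵥ v0 := ⟨_, rfl⟩
      have h1 := (hc.conj hpp hpw ⟨hvz, h⟩).2
      rw [mulVec_smul, ← hv1] at h1
      have hv11 : B v1 v1 = 0 := by rw [hv1, eX_iso hB hpp hpw, hvv]
      obtain ⟨k, hk⟩ : ∃ k, k = B v1 v0 := ⟨_, rfl⟩
      have hk0 : k ≠ 0 := by
        rw [hk, hv1, eX_mulVec hB hpp hpw]
        simp [hvv, hpv, hwv, hB.symm v0 w, hB.symm v0 p, hww, h2]
      have hd : (c • bvec B v0) ⬝ᵥ v0 = 0 := by simp [bvec_dot, hvv]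
      rw [map_smul] at h h1
      have h3 := M.mul_mem (M.mul_mem h h1) (M.inv_mem h)
      rw [conj_transv _ (by simp [bvec_dot, hv11])] at h3
      have e1 : (transv v0 (c • bvec B v0) : Matrix ι ι F) *ᵥ v1 = v1 + (c * k) • v0 := by
        rw [transv_mulVec hd, smul_dotProduct, bvec_dot, ← hk, smul_eq_mul]
      have e2 : (c • bvec B v1) ᵥ* (((transv v0 (c • bvec B v0))⁻¹ : GL ι F) : Matrix ι ι F) =
          bvec B (c • (v1 - (c * k) • v0)) := by
        have h4 : bvec B v1 ⬝ᵥ v0 = k := by rw [bvec_dot, hB.symm, hk]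
        rw [transv_inv hd, transv_val (by rw [neg_dotProduct, hd, neg_zero]), vecMul_add, vecMul_one, vecMul_vecMulVec,
          smul_dotProduct, h4, map_smul, map_sub, map_smul]
        module
      rw [e1, e2] at h3
      refine ⟨_, _, fun e => hk0 ?_, ?_, ?_, h3⟩
      · have := congrArg (fun y => B y v0) e
        simpa [← hk, hvv] using this
      · simp [hv11, hvv, hB.symm v0 v1, ← hk]
        ring_nf
        refine ⟨hc0, ?_⟩
        exact neg_ne_zero.mpr (mul_ne_zero (mul_ne_zero hc0 (pow_ne_zero 2 hk0)) h2)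
      · simp [hv11, hvv, hB.symm v0 v1, ← hk]

/-- One transvection gives all of them. -/
theorem all_transv {v0 z0 : ι → F} (hv0 : v0 ≠ 0) (hz0 : z0 ≠ 0) (hvz : B v0 z0 = 0)
    (h : transv v0 (bvec B z0) ∈ M) : ∀ v φ : ι → F, φ ⬝ᵥ v = 0 → transv v φ ∈ M := by
  have hc := rel_centre hB hn hE
  have ha := rel_axis hB hn hE
  have h2 := hB.two
  -- an anisotropic axis
  obtain ⟨v, z, hv, hzz, hvz', hm⟩ : ∃ v z, v ≠ 0 ∧ B z z ≠ 0 ∧ B v z = 0 ∧ transv v (bvec B z) ∈ M := by
    by_cases hzz : B z0 z0 = 0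
    swap; · exact ⟨v0, z0, hv0, hzz, hvz, h⟩
    by_cases hvv : B v0 v0 = 0
    swap
    · obtain ⟨W, hW, hdim⟩ := exists_orth hB [v0]
      simp at hdim
      obtain ⟨z, hz, hzz'⟩ := exists_nonsing hB (W := W) (by omega)
      rw [hW] at hz
      have hzv := hz v0 (by simp)
      exact ⟨v0, z, hv0, hzz', by rw [hB.symm]; exact hzv,
        (rel_nonsing hB hn ha hvv hz0 ⟨hvz, h⟩ z hzv).2⟩
    by_cases hdep : z0 ∈ Submodule.span F {v0}
    · obtain ⟨c, rfl⟩ := Submodule.mem_span_singleton.mp hdep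
      exact exists_aniso hB hn hE hv0 hvv (fun e => hz0 (by rw [e, zero_smul])) h
    have hv0z : v0 ∉ Submodule.span F {z0} := fun hm => by
      obtain ⟨j, hj⟩ := Submodule.mem_span_singleton.mp hm
      have hj0 : j ≠ 0 := fun e => hv0 (by rw [← hj, e, zero_smul])
      exact hdep (Submodule.mem_span_singleton.mpr ⟨j⁻¹, by rw [← hj, inv_smul_smul₀ hj0]⟩)
    obtain ⟨x, hx, hx1⟩ := exists_form hB v0 _ hv0z
    obtain ⟨p, hp⟩ : ∃ p, p = x - (B x x / 2) • v0 := ⟨_, rfl⟩
    have hpp : B p p = 0 := by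
      simp [hp, hvv, hB.symm v0 x, hx1]
      field_simp
      ring
    have hpv : B p v0 = 1 := by simp [hp, hvv, hx1]
    have hpz : B p z0 = 0 := by simp [hp, hx z0 (Submodule.mem_span_singleton_self z0), hvz]
    have h1 := (rel_move hB hn hc ⟨hvz, h⟩ hpp (w := z0) hpz hpz hzz).2
    rw [hvz, hzz, hB.symm v0 p, hpv, show ((0 : F) - 0 / 2 * 1) = 0 by ring, zero_smul, zero_sub, one_smul] at h1
    refine exists_aniso hB hn hE (v0 := -z0) (c := -1) (neg_ne_zero.mpr hz0) (by simp [hzz]) (neg_ne_zero.mpr one_ne_zero) ?_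
    rwa [smul_neg, neg_smul, one_smul, neg_neg]
  -- all centres for every anisotropic axis
  have hz : ∀ u, B u z = 0 → transv u (bvec B z) ∈ M := fun u hu => (rel_nonsing hB hn hc hzz hv ⟨hvz', hm⟩ u hu).2
  have hns : ∀ y, B y y ≠ 0 → ∀ u, B u y = 0 → transv u (bvec B y) ∈ M := by
    intro y hyy u hu
    obtain ⟨r, hrz, hry, hrr⟩ := exists_nonsing2 hB hn z y (Or.inl hzz)
    have hr0 : r ≠ 0 := fun e => hrr (by simp [e])
    have h1 := rel_nonsing hB hn ha hrr (v := z) (z := r) (fun e => hzz (by simp [e])) ⟨hrz, hz r hrz⟩ y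
      (by rw [hB.symm, hry])
    exact (rel_nonsing hB hn hc hyy hr0 h1 u hu).2
  intro v φ hφ
  obtain ⟨y, rfl⟩ := bvec_surjective hB φ
  rw [bvec_dot] at hφ
  by_cases hyy : B y y = 0
  swap; · exact hns y hyy v hφ
  obtain ⟨W, hW, hdim⟩ := exists_orth hB [v]
  simp at hdim
  obtain ⟨r, hr, hrr⟩ := exists_nonsing hB (W := W) (by omega)
  rw [hW] at hr
  have hvr : B v r = 0 := by rw [hB.symm]; exact hr v (by simp)
  obtain ⟨r', hr', hrr', hsum⟩ : ∃ r', B v r' = 0 ∧ B r' r' ≠ 0 ∧ B (y - r') (y - r') ≠ 0 := by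
    by_cases e : B (y - r) (y - r) = 0
    · refine ⟨-r, by simp [hvr], by simpa using hrr, fun e' => hrr ?_⟩
      simp [hyy, hB.symm r y] at e e'
      have : (2 : F) * B r r = 0 := by linear_combination e + e'
      exact (mul_eq_zero.mp this).resolve_left h2
    · exact ⟨r, hvr, hrr, e⟩
  have h1 := hns r' hrr' v hr'
  have h2' := hns (y - r') hsum v (by simp [hφ, hr'])
  have h3 := M.mul_mem h1 h2'
  rwa [transv_mul (by rw [bvec_dot, hr']) (by rw [bvec_dot]; simp [hφ, hr']), ← map_add, add_sub_cancel] at h3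


end CfsgLib.SLFour.Quad
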