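/-
SL_4: the similarity group of a quadratic form is maximal.
-/
import Cfsg.Agent.Lib.Classical22.SLFour.Quad

set_option autoImplicit false
set_option linter.all false

namespace CfsgLib.SLFour.Quad

open Matrix CfsgLib.Transvec
open CfsgLib.Transvec.OrthOverSL (IsSymForm bvec bvec_dot bvec_injective perpD finrank_perpD_ge finrank_span_list_le exists_sing_in bvec_vecMul_inv)
open CfsgLib.Transvec.OrthOverSLEich (eX eX_mulVec eX_iso eX_fix eX_mem_specialLinear bvec_surjective exists_form exists_orth totally_singular exists_nonsing Rel)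
open CfsgLib.Classical22.Frame (exists_diag_value)
open scoped MatrixGroups

variable {ι : Type} [Fintype ι] [DecidableEq ι] {F : Type*} [Field F] [Fintype F]
  {B : LinearMap.BilinForm F (ι → F)} (hB : IsSymForm B) (hn : Fintype.card ι = 4)
  {B' : LinearMap.BilinForm F (ι → F)} (hB' : IsSymForm B') {M : Subgroup (GL ι F)}
  (hE : ∀ a w, B a a = 0 → B a w = 0 → eX B a w ∈ M)
  (hE' : ∀ a w, B' a a = 0 → B' a w = 0 → eX B' a w ∈ M)
include hB hn hB' hE hE'

/-- The commutator of two Eichler elements at a common singular vector. -/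
lemma pair_key (u y w w' : ι → F) (hu : B u u = 0) (hu' : B' u u = 0) (hy : bvec B y = bvec B' u) (huw : B u w = 0)
    (huw' : B' u w = 0) (huv : B u w' = 0) (huv' : B' u w' = 0) :
    transv u (bvec B ((-B w' w) • y + B' w w' • u)) ∈ M := by
  -- the commutator
  have key : ∀ u y w w' : ι → F, B u u = 0 → B' u u = 0 → bvec B y = bvec B' u → B u w = 0 → B' u w = 0 →
      B u w' = 0 → B' u w' = 0 → transv u (bvec B ((-B w' w) • y + B' w w' • u)) ∈ M := by
    intro u y w w' hu hu' hy huw huw' huv huv'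
    have hy' : ∀ x, B x y = B' x u := fun x => by rw [← bvec_dot, hy, bvec_dot]
    have hd : bvec B ((-B w' w) • y + B' w w' • u) ⬝ᵥ u = 0 := by simp [bvec_dot, hy', hu, hu']
    have e : eX B u w * eX B' u w' = eX B' u w' * eX B u w * transv u (bvec B ((-B w' w) • y + B' w w' • u)) := by
      refine gl_ext fun x => ?_
      rw [mul_mulVec, mul_mulVec, mul_mulVec, transv_mulVec hd, bvec_dot]
      simp only [eX_mulVec hB hu huw, eX_mulVec hB' hu' huv', map_add, map_sub,
        map_smul, LinearMap.add_apply, LinearMap.sub_apply, LinearMap.smul_apply, smul_eq_mul, hy', hu, hu', huw, huw',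
        huv, huv', hB.symm w u, hB.symm w' u, hB'.symm w u, hB'.symm w' u]
      match_scalars <;> ring
    have h1 := hE u w hu huw
    have h2 := hE' u w' hu' huv'
    have h3 := M.mul_mem (M.inv_mem (M.mul_mem h2 h1)) (M.mul_mem h1 h2)
    rwa [e, inv_mul_cancel_left] at h3
  exact key u y w w' hu hu' hy huw huw' huv huv'

/-- A common singular vector with independent images. -/
theorem indep {u y : ι → F} (hu0 : u ≠ 0) (hu : B u u = 0) (hu' : B' u u = 0) (hy : bvec B y = bvec B' u)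
    (hdep : y ∉ Submodule.span F {u}) : Good B M := by
  have hy' : ∀ x, B x y = B' x u := fun x => by rw [← bvec_dot, hy, bvec_dot]
  have huy : B u y = 0 := by rw [hy', hu']
  by_cases hyy : B y y = 0
  swap
  · obtain ⟨w, hwu, hwy, hww⟩ := exists_nonsing2 hB hn u y (Or.inr (Or.inl hyy))
    have huw : B u w = 0 := by rw [hB.symm]; exact hwu
    have huw' : B' u w = 0 := by rw [hB'.symm, ← hy']; exact hwy
    refine ⟨u, _, hu0, fun e0 => hdep (Submodule.mem_span_singleton.mpr ⟨B' w w / B w w, ?_⟩), ?_,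
      pair_key hB hn hB' hE hE' u y w w hu hu' hy huw huw' huw huw'⟩
    · have e1 : B w w • y = B' w w • u := by
        rw [neg_smul] at e0
        exact (neg_add_eq_zero.mp e0)
      rw [div_eq_mul_inv, mul_comm, mul_smul, ← e1, inv_smul_smul₀ hww]
    · simp [hy', hu, hu']
  have huy' : B' u y = 0 := by rw [hB'.symm, ← hy', hyy]
  by_cases hyy' : B' y y = 0
  swap
  · have h1 := pair_key hB hn hB' hE hE' u y y y hu hu' hy huy huy' huy huy'
    rw [hyy, neg_zero, zero_smul, zero_add] at h1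
    exact ⟨u, _, hu0, smul_ne_zero hyy' hu0, by simp [hu], h1⟩
  -- the totally singular plane
  obtain ⟨x, hx, hx1⟩ := exists_form hB y _ hdep
  obtain ⟨w, hw⟩ : ∃ w, w = x - (B x x / 2) • y := ⟨_, rfl⟩
  have hxu := hx u (Submodule.mem_span_singleton_self u)
  have h2 := hB.two
  have hww : B w w = 0 := by simp [hw, hyy, hB.symm y x, hx1]; field_simp; ring
  have hwy : B w y = 1 := by simp [hw, hyy, hx1]
  have hwu : B w u = 0 := by simp [hw, hxu, hB.symm y u, huy]
  have huw : B u w = 0 := by rw [hB.symm, hwu]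
  have hnw : B u (-w) = 0 := by rw [map_neg, huw, neg_zero]
  have hd : bvec B ((-2 : F) • u) ⬝ᵥ u = 0 := by simp [bvec_dot, hu]
  have e : (eX B u w * eX B' u y * eX B u (-w)) * (eX B u (-w) * eX B' u y * eX B u w) =
      eX B' u y * eX B' u y * transv u (bvec B ((-2 : F) • u)) := by
    refine gl_ext fun x => ?_
    simp only [mul_mulVec, transv_mulVec hd, bvec_dot]
    simp only [eX_mulVec hB hu huw, eX_mulVec hB hu hnw, eX_mulVec hB' hu' huy', map_add, map_sub, map_neg, map_smul,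
      LinearMap.add_apply, LinearMap.sub_apply, LinearMap.neg_apply, LinearMap.smul_apply, smul_eq_mul, hu, hu',
      huw, huy, huy', hyy, hyy', hww, hwy, hwu, ← hy', hB.symm y u, hB.symm y w, hB'.symm y u, hB'.symm w u]
    match_scalars <;> field_simp <;> ring
  have hT := hE' u y hu' huy'
  have h3 := M.mul_mem (M.mul_mem (M.mul_mem (hE u w hu huw) hT) (hE u (-w) hu hnw))
    (M.mul_mem (M.mul_mem (hE u (-w) hu hnw) hT) (hE u w hu huw))
  rw [e] at h3
  have h4 := M.mul_mem (M.inv_mem (M.mul_mem hT hT)) h3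
  rw [inv_mul_cancel_left] at h4
  exact ⟨u, _, hu0, smul_ne_zero (neg_ne_zero.mpr h2) hu0, by simp [hu], h4⟩

omit hn hB' hE hE' in
/-- Four vectors with this Gram matrix leave nothing orthogonal. -/
lemma exists_plane (hn : Fintype.card ι = 4) {u p : ι → F} (hu : B u u = 0) (hp : B p p = 0) (hpu : B p u = 1)
    {r : F} (hr : r ≠ 0) : ∃ w e, B w u = 0 ∧ B w p = 0 ∧ B w w = r ∧ B e u = 0 ∧ B e p = 0 ∧ B e w = 0 ∧ B e e ≠ 0 := by
  have h2 := hB.two
  obtain ⟨a, hau, hap, haa⟩ := exists_nonsing2 hB hn u p (Or.inr (Or.inr (by rw [hB.symm, hpu]; exact one_ne_zero)))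
  obtain ⟨W, hW, hdim⟩ := exists_orth hB [u, p, a]
  simp at hdim
  obtain ⟨b, hb, hb0⟩ := Submodule.exists_mem_ne_zero_of_ne_bot (p := W) (fun h => by
    rw [h, finrank_bot] at hdim; omega)
  rw [hW] at hb
  have hbu := hb u (by simp)
  have hbp := hb p (by simp)
  have hba := hb a (by simp)
  have hbb : B b b ≠ 0 := by
    intro hbb
    have hli : LinearIndependent F ![u, p, a, b] := by
      rw [Fintype.linearIndependent_iff]
      intro g hg i
      simp [Fin.sum_univ_four] at hg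
      have e1 := congrArg (fun x => B x u) hg
      have e2 := congrArg (fun x => B x p) hg
      have e3 := congrArg (fun x => B x a) hg
      simp [hu, hp, hpu, hB.symm u p, hau, hap, hbu, hbp, hba, hB.symm u a, hB.symm p a, haa] at e1 e2 e3
      simp [e1, e2, e3, hb0] at hg
      fin_cases i
      exacts [e2, e1, e3, hg]
    have hsp := hli.span_eq_top_of_card_eq_finrank (by simp [hn])
    obtain ⟨x, hx⟩ := hB.nondeg b hb0
    refine hx ?_
    have hmem : x ∈ Submodule.span F (Set.range ![u, p, a, b]) := by rw [hsp]; trivial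
    refine Submodule.span_induction (p := fun x _ => B x b = 0) ?_ (by simp) (fun x y _ _ h1 h1' => by simp [h1, h1'])
      (fun c x _ h1 => by simp [h1]) hmem
    rintro _ ⟨i, rfl⟩
    fin_cases i <;> simp [hB.symm _ b, hbu, hbp, hba, hbb]
  obtain ⟨s, t, hst⟩ := exists_diag_value h2 haa hbb r
  refine ⟨s • a + t • b, (t * B b b) • a - (s * B a a) • b, by simp [hau, hbu], by simp [hap, hbp], ?_,
    by simp [hau, hbu], by simp [hap, hbp], ?_, ?_⟩
  · simp [hba, hB.symm a b]; linear_combination hst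
  · simp [hba, hB.symm a b]; ring
  · simp [hba, hB.symm a b]
    intro e
    refine mul_ne_zero (mul_ne_zero haa hbb) hr ?_
    linear_combination e - B a a * B b b * hst

/-- Two forms with a common singular vector. -/
theorem core {u : ι → F} (hu0 : u ≠ 0) (hu : B u u = 0) (hu' : B' u u = 0)
    (hne : ∀ l : F, ∃ x, bvec B' x ≠ l • bvec B x) : Good B M := by
  have key := pair_key hB hn hB' hE hE'
  obtain ⟨y, hy⟩ := bvec_surjective hB (bvec B' u)
  have hy' : ∀ x, B x y = B' x u := fun x => by rw [← bvec_dot, hy, bvec_dot]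
  by_cases hdep : y ∈ Submodule.span F {u}
  swap
  · exact indep hB hn hB' hE hE' hu0 hu hu' hy hdep
  obtain ⟨l, rfl⟩ := Submodule.mem_span_singleton.mp hdep
  have fin : ∀ u : ι → F, u ≠ 0 → B u u = 0 → bvec B' u = l • bvec B u →
      (∃ w w', B u w = 0 ∧ B u w' = 0 ∧ B' w w' ≠ l * B w' w) →
      Good B M := by
    intro u hu0 hu hlu ⟨w, w', hw, hw', hne'⟩
    have hB'u : ∀ x, B' u x = l * B u x := fun x => by
      rw [hB'.symm, ← bvec_dot, hlu, smul_dotProduct, bvec_dot, smul_eq_mul, hB.symm]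
    refine ⟨u, _, hu0, fun e0 => hne' ?_, ?_, key u (l • u) w w' hu (by rw [hB'u, hu, mul_zero])
      (by rw [map_smul, hlu]) hw (by rw [hB'u, hw, mul_zero]) hw' (by rw [hB'u, hw', mul_zero])⟩
    · rw [smul_smul, ← add_smul, smul_eq_zero, or_iff_left hu0] at e0
      linear_combination e0
    · simp [hu]
  rw [map_smul] at hy
  by_cases hex : ∃ w w', B u w = 0 ∧ B u w' = 0 ∧ B' w w' ≠ l * B w' w
  · exact fin u hu0 hu hy.symm hex
  -- the difference of the forms lives on one functional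
  simp only [not_exists, not_and, not_not] at hex
  obtain ⟨e, -, he⟩ := exists_form hB u ⊥ (fun hm => hu0 ((Submodule.mem_bot F).mp hm))
  have hB'u : ∀ x, B' u x = l * B u x := fun x => by
    rw [hB'.symm, ← bvec_dot, ← hy, smul_dotProduct, bvec_dot, smul_eq_mul, hB.symm]
  obtain ⟨ye, hye⟩ := bvec_surjective hB (bvec B' e)
  obtain ⟨d, hd⟩ : ∃ d, d = ye - l • e := ⟨_, rfl⟩
  have hBd : ∀ x, B x d = B' x e - l * B x e := fun x => by
    rw [hd, map_sub, map_smul, smul_eq_mul, ← bvec_dot B ye x, hye, bvec_dot]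
  obtain ⟨c, hc⟩ : ∃ c, c = B e d := ⟨_, rfl⟩
  have hud : B u d = 0 := by rw [hBd, hB'u, sub_self]
  -- the difference on all pairs
  have hD : ∀ x z, B' x z - l * B x z = B x u * B z d + B z u * B x d - B x u * B z u * c := by
    intro x z
    obtain ⟨r, hr⟩ : ∃ r, r = x - B x u • e := ⟨_, rfl⟩
    obtain ⟨s, hs⟩ : ∃ s, s = z - B z u • e := ⟨_, rfl⟩
    have hru : B u r = 0 := by simp [hr, hB.symm u x, hB.symm u e, he]
    have hsu : B u s = 0 := by simp [hs, hB.symm u z, hB.symm u e, he]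
    have h0 := hex r s hru hsu
    have e1 := hBd x
    have e2 := hBd z
    have e3 := hBd e
    rw [← hc] at e3
    simp only [hr, hs, map_sub, map_smul, LinearMap.sub_apply, LinearMap.smul_apply, smul_eq_mul, hB.symm z x,
      hB.symm e x, hB.symm e z, hB'.symm e z] at h0 e1 e2
    linear_combination h0 - (B z u) * e1 - B x u * e2 + B x u * B z u * e3
  have h2 := hB.two
  obtain ⟨d', hd'⟩ : ∃ d', d' = d - (c / 2) • u := ⟨_, rfl⟩
  have hud' : B u d' = 0 := by simp [hd', hud, hu]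
  have hD' : ∀ x z, B' x z = l * B x z + B x u * B z d' + B z u * B x d' := fun x z => by
    have h1 := hD x z
    simp only [hd', map_sub, map_smul, smul_eq_mul]
    field_simp
    linear_combination 2 * h1
  by_cases hd'u : d' ∈ Submodule.span F {u}
  swap
  · have hnot : u ∉ Submodule.span F {d'} := fun hm => by
      obtain ⟨j, hj⟩ := Submodule.mem_span_singleton.mp hm
      have hj0 : j ≠ 0 := fun e0 => hu0 (by rw [← hj, e0, zero_smul])
      exact hd'u (Submodule.mem_span_singleton.mpr ⟨j⁻¹, by rw [← hj, inv_smul_smul₀ hj0]⟩)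
    obtain ⟨x₀, hx₀, hx₀u⟩ := exists_form hB u _ hnot
    obtain ⟨x, hx⟩ : ∃ x, x = x₀ - (B x₀ x₀ / 2) • u := ⟨_, rfl⟩
    have hxx : B x x = 0 := by simp [hx, hu, hB.symm u x₀, hx₀u]; field_simp; ring
    have hxu : B x u = 1 := by simp [hx, hu, hx₀u]
    have hxd : B x d' = 0 := by simp [hx, hud', hx₀ d' (Submodule.mem_span_singleton_self d')]
    refine indep hB hn hB' hE hE' (u := x) (y := l • x + d') (fun e0 => by simp [e0] at hxu) hxx ?_ ?_ fun hm => ?_
    · rw [hD', hxx, hxd]; ring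
    · funext i
      have h1 := hD' (Pi.single i 1) x
      rw [hxu, hxd] at h1
      show B (Pi.single i 1) (l • x + d') = B' (Pi.single i 1) x
      rw [h1, map_add, map_smul, smul_eq_mul]; ring
    · obtain ⟨j, hj⟩ := Submodule.mem_span_singleton.mp hm
      have h3 : d' = (j - l) • x := by rw [sub_smul, hj]; abel
      have h4 := congrArg (B u) h3
      rw [hud', map_smul, smul_eq_mul, hB.symm u x, hxu, mul_one] at h4
      exact hd'u (by rw [h3, ← h4, zero_smul]; exact Submodule.zero_mem _)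
  -- the difference has rank one
  obtain ⟨κ, hκ⟩ := Submodule.mem_span_singleton.mp hd'u
  have hD1 : ∀ x z, B' x z = l * B x z + 2 * κ * B x u * B z u := fun x z => by
    rw [hD', ← hκ]; simp only [map_smul, smul_eq_mul]; ring
  have hκ0 : κ ≠ 0 := fun e0 => by
    obtain ⟨z, hz⟩ := hne l
    refine hz (funext fun i => ?_)
    show B' (Pi.single i 1) z = l * B (Pi.single i 1) z
    rw [hD1, e0]; ring
  have hl : l ≠ 0 := fun e0 => by
    obtain ⟨x, hx⟩ := hB'.nondeg u hu0
    exact hx (by rw [hD1, e0, hu]; ring)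
  obtain ⟨x₀, -, hx₀u⟩ := exists_form hB u ⊥ (fun hm => hu0 ((Submodule.mem_bot F).mp hm))
  obtain ⟨p, hp⟩ : ∃ p, p = x₀ - (B x₀ x₀ / 2) • u := ⟨_, rfl⟩
  have hpp : B p p = 0 := by simp [hp, hu, hB.symm u x₀, hx₀u]; field_simp; ring
  have hpu : B p u = 1 := by simp [hp, hu, hx₀u]
  obtain ⟨r, hr0, hr⟩ : ∃ r : F, r ≠ 0 ∧ r * κ ≠ 2 * l := by
    by_cases e0 : (1 : F) * κ = 2 * l
    · exact ⟨-1, neg_ne_zero.mpr one_ne_zero, fun e1 => mul_ne_zero h2 hκ0 (by linear_combination e0 - e1)⟩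
    · exact ⟨1, one_ne_zero, e0⟩
  obtain ⟨w, e, hwu, hwp, hww, heu, hep, hew, hee⟩ := exists_plane hB hn hu hpp hpu hr0
  obtain ⟨u', hu'def⟩ : ∃ u', u' = u - (r / 2) • p - w := ⟨_, rfl⟩
  have hpw : B p (-w) = 0 := by rw [map_neg, hB.symm, hwp, neg_zero]
  obtain ⟨g, hg⟩ : ∃ g, g = eX B p (-w) := ⟨_, rfl⟩
  have hgu : ∀ x, B ((g : Matrix ι ι F) *ᵥ x) u = B x u' := fun x => by
    rw [hg, eX_mulVec hB hpp hpw, hu'def]
    simp [hpu, hwu, hww, hB.symm x p]
    ring
  obtain ⟨T, hT⟩ : ∃ T, T = Matrix.toLin' (g : Matrix ι ι F) := ⟨_, rfl⟩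
  obtain ⟨B'', hB''def⟩ : ∃ B'' : LinearMap.BilinForm F (ι → F), B'' = LinearMap.compl₁₂ B' T T := ⟨_, rfl⟩
  have hB''app : ∀ x z, B'' x z = B' ((g : Matrix ι ι F) *ᵥ x) ((g : Matrix ι ι F) *ᵥ z) := fun x z => by
    simp [hB''def, hT]
  have hB'' : IsSymForm B'' := by
    refine ⟨fun x z => by rw [hB''app, hB''app, hB'.symm], fun v hv => ?_, h2⟩
    obtain ⟨x, hx⟩ := hB'.nondeg _ (mulVec_ne_zero g hv)
    exact ⟨((g⁻¹ : GL ι F) : Matrix ι ι F) *ᵥ x, by rw [hB''app, mulVec_inv_cancel]; exact hx⟩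
  have hgM : g ∈ M := hg ▸ hE p (-w) hpp hpw
  have hE'' : ∀ a b, B'' a a = 0 → B'' a b = 0 → eX B'' a b ∈ M := fun a b haa hab => by
    have ha' := haa
    have hab' := hab
    rw [hB''app] at ha' hab'
    have h1 : g * eX B'' a b = eX B' ((g : Matrix ι ι F) *ᵥ a) ((g : Matrix ι ι F) *ᵥ b) * g := by
      refine gl_ext fun x => ?_
      rw [mul_mulVec, mul_mulVec, eX_mulVec hB'' haa hab, eX_mulVec hB' ha' hab', mulVec_sub, mulVec_add, mulVec_smul,
        mulVec_smul, hB''app, hB''app, hB''app]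
    have h3 := M.mul_mem (M.inv_mem hgM) (M.mul_mem (hE' _ _ ha' hab') hgM)
    rwa [← h1, inv_mul_cancel_left] at h3
  have hD'' : ∀ x z, B'' x z = l * B x z + 2 * κ * B x u' * B z u' := fun x z => by
    rw [hB''app, hD1, hgu, hgu, hg, eX_iso hB hpp hpw]
  obtain ⟨γ, δ, hγδ⟩ : ∃ γ δ : F, -4 * γ + γ * γ * r + δ * δ * B e e = -(2 * κ) / l := by
    obtain ⟨s, t, hst⟩ := exists_diag_value h2 hr0 hee (-(2 * κ) / l + 4 / r)
    exact ⟨s + 2 / r, t, by field_simp at hst ⊢; linear_combination hst⟩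
  obtain ⟨x, hx⟩ : ∃ x, x = (-(2 * γ)) • u + p + γ • w + δ • e := ⟨_, rfl⟩
  have hxu : B x u = 1 := by simp [hx, hu, hpu, hwu, heu]
  have hxp : B x p = -(2 * γ) := by simp [hx, hpp, hB.symm u p, hpu, hwp, hep]
  have hxw : B x w = γ * r := by simp [hx, hww, hew, hB.symm u w, hwu, hB.symm p w, hwp]
  have hxe : B x e = δ * B e e := by simp [hx, hB.symm w e, hew, hB.symm u e, heu, hB.symm p e, hep]
  have hxu' : B x u' = 1 := by simp [hu'def, hxu, hxp, hxw]; field_simp; ring
  have hxx : l * B x x + 2 * κ = 0 := by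
    have e1 : B x x = -(2 * γ) * B x u + B x p + γ * B x w + δ * B x e := by
      conv_lhs => arg 2; rw [hx]
      simp only [map_add, map_smul, smul_eq_mul]
    rw [e1, hxu, hxp, hxw, hxe]
    field_simp at hγδ
    linear_combination hγδ
  obtain ⟨yv, hyv⟩ := bvec_surjective hB' (bvec B'' x)
  have hx0 : x ≠ 0 := fun e0 => by simp [e0] at hxu
  refine Good.change hB hB' (indep hB' hn hB'' hE' hE'' hx0 (y := yv) ?_ ?_ hyv fun hm => ?_)
  · rw [hD1, hxu]; linear_combination hxx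
  · rw [hD'', hxu']; linear_combination hxx
  obtain ⟨j, hj⟩ := Submodule.mem_span_singleton.mp hm
  have h1 : ∀ z, l * B z x + 2 * κ * B z u' = j * (l * B z x + 2 * κ * B z u) := fun z => by
    have h3 := congrArg (· ⬝ᵥ z) hyv
    simp only [← hj, map_smul, smul_dotProduct, bvec_dot, smul_eq_mul] at h3
    rw [hD1, hD'', hxu, hxu'] at h3
    linear_combination -h3
  have a1 := h1 u
  have a2 := h1 p
  have a3 := h1 w
  have a4 := h1 e
  rw [hB.symm u x, hxu, show B u u' = -(r / 2) by simp [hu'def, hu, hB.symm u p, hpu, hB.symm u w, hwu], hu] at a1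
  rw [hB.symm p x, hxp, show B p u' = 1 by simp [hu'def, hpu, hpp, hB.symm p w, hwp], hpu] at a2
  rw [hB.symm w x, hxw, show B w u' = -r by simp [hu'def, hwu, hwp, hww], hwu] at a3
  rw [hB.symm e x, hxe, show B e u' = 0 by simp [hu'def, heu, hep, hew], heu] at a4
  by_cases hj1 : j = 1
  · rw [hj1] at a3
    exact mul_ne_zero (mul_ne_zero h2 hκ0) hr0 (by linear_combination -a3)
  have hj' : 1 - j ≠ 0 := sub_ne_zero.mpr (Ne.symm hj1)
  have hγ : γ * l = κ := by
    have : 2 * (1 - j) * (κ - γ * l) = 0 := by linear_combination a2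
    simpa [sub_eq_zero, h2, hj', eq_comm] using this
  have hjm : j = -1 := by
    have : κ * r * (j + 1) = 0 := by linear_combination -a3 + (1 - j) * r * hγ
    exact eq_neg_of_add_eq_zero_left ((mul_eq_zero.mp this).resolve_left (mul_ne_zero hκ0 hr0))
  rw [hjm] at a1
  field_simp at a1
  exact hr (by linear_combination -a1)

/-- The Eichler elements of two non-proportional forms give a transvection. -/
theorem exists_transv (hne : ∀ l : F, ∃ x, bvec B' x ≠ l • bvec B x) : Good B M := by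
  by_cases hcz : ∃ u, u ≠ 0 ∧ B u u = 0 ∧ B' u u = 0
  · obtain ⟨u, hu0, hu, hu'⟩ := hcz
    exact core hB hn hB' hE hE' hu0 hu hu' hne
  simp only [not_exists, not_and] at hcz
  obtain ⟨v, -, hv0, hv'⟩ := exists_sing_in hB' (W := ⊤) (by rw [finrank_top, Module.finrank_fintype_fun_eq_card, hn]; norm_num)
  obtain ⟨W, hW, hdim⟩ := exists_orth hB [v]
  simp at hdim
  obtain ⟨u, hu, hu0, huu⟩ := exists_sing_in hB (W := W) (by omega)
  have huv := (hW u).mp hu v (by simp)
  obtain ⟨W', hW', hdim'⟩ := exists_orth hB [u, v]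
  simp at hdim'
  obtain ⟨w, hw, hwu⟩ := SetLike.not_le_iff_exists.mp (fun h : W' ≤ Submodule.span F {u} => by
    have := Submodule.finrank_mono h
    rw [finrank_span_singleton hu0] at this
    omega)
  have hwu' := (hW' w).mp hw u (by simp)
  have hwv := (hW' w).mp hw v (by simp)
  have huw : B u w = 0 := by rw [hB.symm, hwu']
  obtain ⟨g, hg⟩ : ∃ g, g = eX B u w := ⟨_, rfl⟩
  obtain ⟨T, hT⟩ : ∃ T, T = Matrix.toLin' (g : Matrix ι ι F) := ⟨_, rfl⟩
  obtain ⟨B'', hB''def⟩ : ∃ B'' : LinearMap.BilinForm F (ι → F), B'' = LinearMap.compl₁₂ B' T T := ⟨_, rfl⟩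
  have hB''app : ∀ x z, B'' x z = B' ((g : Matrix ι ι F) *ᵥ x) ((g : Matrix ι ι F) *ᵥ z) := fun x z => by
    simp [hB''def, hT]
  have hB'' : IsSymForm B'' := by
    refine ⟨fun x z => by rw [hB''app, hB''app, hB'.symm], fun v hv => ?_, hB.two⟩
    obtain ⟨x, hx⟩ := hB'.nondeg _ (mulVec_ne_zero g hv)
    exact ⟨((g⁻¹ : GL ι F) : Matrix ι ι F) *ᵥ x, by rw [hB''app, mulVec_inv_cancel]; exact hx⟩
  have hgM : g ∈ M := hg ▸ hE u w huu huw
  have hE'' : ∀ a b, B'' a a = 0 → B'' a b = 0 → eX B'' a b ∈ M := fun a b haa hab => by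
    have ha' := haa
    have hab' := hab
    rw [hB''app] at ha' hab'
    have h1 : g * eX B'' a b = eX B' ((g : Matrix ι ι F) *ᵥ a) ((g : Matrix ι ι F) *ᵥ b) * g := by
      refine gl_ext fun x => ?_
      rw [mul_mulVec, mul_mulVec, eX_mulVec hB'' haa hab, eX_mulVec hB' ha' hab', mulVec_sub, mulVec_add, mulVec_smul,
        mulVec_smul, hB''app, hB''app, hB''app]
    have h3 := M.mul_mem (M.inv_mem hgM) (M.mul_mem (hE' _ _ ha' hab') hgM)
    rwa [← h1, inv_mul_cancel_left] at h3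
  have hgv : (g : Matrix ι ι F) *ᵥ v = v := by
    rw [hg]; exact eX_fix hB huu huw (by rw [hB.symm, huv]) (by rw [hB.symm, hwv])
  have hgu : (g : Matrix ι ι F) *ᵥ u = u := by rw [hg]; exact eX_fix hB huu huw huu huw
  refine Good.change hB hB' (core hB' hn hB'' hE' hE'' hv0 hv' (by rw [hB''app, hgv, hv']) fun l => ?_)
  by_contra hcon
  simp only [not_exists, not_not] at hcon
  have hl : ∀ x z, B'' x z = l * B' x z := fun x z => by
    rw [← bvec_dot, hcon, smul_dotProduct, bvec_dot, smul_eq_mul]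
  have h3 := hl u u
  rw [hB''app, hgu] at h3
  have hl1 : l = 1 := (mul_eq_right₀ (hcz u hu0 huu)).mp h3.symm
  obtain ⟨x, hx, hxw⟩ := exists_form hB w _ hwu
  have h4 := hl x u
  rw [hB''app, hgu, hl1, one_mul, hg, eX_mulVec hB huu huw, hx u (Submodule.mem_span_singleton_self u), hxw] at h4
  simp at h4
  exact hcz u hu0 huu h4

omit hB hn hB' hE hE'

end CfsgLib.SLFour.Quad

namespace CfsgLib.SLFour

open Cfsg Matrix CfsgLib.Transvec
open CfsgLib.Transvec.OrthOverSL (IsSymForm bvec bvec_dot bvec_injective exists_sing_in)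
open CfsgLib.Transvec.OrthOverSLEich (eX eX_iso eX_mem_specialLinear exists_orth)
open scoped MatrixGroups

theorem quad_maximal {F : Type*} [Field F] [Fintype F] (n : ℕ) (hn : n = 4) (hodd : Odd (Fintype.card F)) (Q : (Fin n → F) → F) (hQ : Cfsg.Geo.IsNondegenerateQuadraticForm Q) : Cfsg.Geo.IsMaximalIn (Cfsg.Geo.specialLinear (Fin n) F) (Cfsg.Geo.quadSimilarityGroup Q ⊓ Cfsg.Geo.specialLinear (Fin n) F) := by
  classical
  have h2 : (2 : F) ≠ 0 := fun h => by
    haveI : CharP F 2 := CharTwo.of_one_ne_zero_of_two_eq_zero one_ne_zero h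
    have := FiniteField.even_card_iff_char_two.mp (ringChar.eq F 2)
    rw [Nat.odd_iff] at hodd
    omega
  have hbil := hQ.polar_bilinear
  obtain ⟨B, hBdef⟩ : ∃ B, B = toBilin hbil := ⟨_, rfl⟩
  have hBapp : ∀ x y, B x y = QuadraticMap.polar Q x y := fun x y => by rw [hBdef]; rfl
  have hBQ : ∀ x, B x x = 2 * Q x := fun x => by
    rw [hBapp, QuadraticMap.polar, ← two_smul F x, hQ.smul]; ring
  have hB : IsSymForm B :=
    ⟨fun x y => by rw [hBapp, hBapp, QuadraticMap.polar_comm],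
      fun v hv => by obtain ⟨x, hx⟩ := (hQ.nondegenerate v hv).1; exact ⟨x, by rw [hBapp]; exact hx⟩, h2⟩
  refine ⟨lt_of_le_not_ge inf_le_right fun hle => ?_, fun M hHM hMK => ?_⟩
  · obtain ⟨v, hv⟩ : ∃ v, Q v ≠ 0 := by
      by_contra hcon
      simp only [not_exists, not_not] at hcon
      have hz : ∀ x y, B x y = 0 := fun x y => by rw [hBapp, QuadraticMap.polar, hcon, hcon, hcon]; ring
      obtain ⟨x, hx⟩ := hB.nondeg (Pi.single ⟨0, by omega⟩ 1) (by simp)
      exact hx (hz _ _)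
    obtain ⟨W, hW, hdim⟩ := exists_orth hB [v]
    simp [Fintype.card_fin] at hdim
    obtain ⟨z, hz, hz0, -⟩ := exists_sing_in hB (W := W) (by omega)
    have hzv' := (hW z).mp hz v (by simp)
    have hzv : z ∉ Submodule.span F {v} := fun hm => by
      obtain ⟨k, rfl⟩ := Submodule.mem_span_singleton.mp hm
      rw [map_smul, LinearMap.smul_apply, hBQ, smul_eq_mul, mul_eq_zero, or_iff_left (mul_ne_zero h2 hv)] at hzv'
      exact hz0 (by rw [hzv', zero_smul])
    have hvz : B v z = 0 := by rw [hB.symm]; exact hzv'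
    have hd : bvec B z ⬝ᵥ v = 0 := by rw [bvec_dot, hvz]
    obtain ⟨c, hc⟩ := (hle (transv_mem_specialLinear v (bvec B z))).1
    have happ : ∀ x, (transv v (bvec B z) : Matrix (Fin n) (Fin n) F) *ᵥ x = x + B x z • v := fun x => by
      rw [transv_mulVec hd, bvec_dot]
    have h1 := hc v
    rw [happ, hvz, zero_smul, add_zero] at h1
    have hc1 : (c : F) = 1 := ((mul_eq_right₀ hv).mp h1.symm)
    obtain ⟨x, hx1, hx2⟩ := exists_functional (E := Submodule.span F {bvec B v}) (u := bvec B z) (fun hm => hzv (by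
      obtain ⟨k, hk⟩ := Submodule.mem_span_singleton.mp hm
      exact Submodule.mem_span_singleton.mpr ⟨k, bvec_injective hB (by rw [map_smul, hk])⟩))
    have hxv : B x v = 0 := by
      rw [← bvec_dot, dotProduct_comm]; exact hx1 _ (Submodule.mem_span_singleton_self _)
    have hxz : B x z = 1 := by rw [← bvec_dot, dotProduct_comm, hx2]
    have h3 := hc x
    rw [happ, hc1, one_mul, hxz, one_smul] at h3
    have h4 : B (x + v) (x + v) = B x x := by rw [hBQ, hBQ, h3]
    simp only [map_add, LinearMap.add_apply, hxv, hB.symm v x, hBQ v] at h4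
    exact mul_ne_zero h2 hv (by linear_combination h4)
  by_cases hM : M ≤ Cfsg.Geo.quadSimilarityGroup Q
  · exact Or.inl (le_antisymm (le_inf hM hMK) hHM)
  right
  obtain ⟨g, hgM, hg⟩ := SetLike.not_le_iff_exists.mp hM
  have hE : ∀ a w, B a a = 0 → B a w = 0 → eX B a w ∈ M := fun a w ha hw => by
    refine hHM ⟨⟨1, fun x => ?_⟩, eX_mem_specialLinear⟩
    rw [Units.val_one, one_mul]
    have := eX_iso hB ha hw x x
    rw [hBQ, hBQ] at this
    exact mul_left_cancel₀ h2 this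
  obtain ⟨T, hT⟩ : ∃ T, T = Matrix.toLin' ((g⁻¹ : GL (Fin n) F) : Matrix (Fin n) (Fin n) F) := ⟨_, rfl⟩
  obtain ⟨B', hB'def⟩ : ∃ B' : LinearMap.BilinForm F (Fin n → F), B' = LinearMap.compl₁₂ B T T := ⟨_, rfl⟩
  have hB'app : ∀ x y, B' x y = B (((g⁻¹ : GL (Fin n) F) : Matrix _ _ F) *ᵥ x) (((g⁻¹ : GL (Fin n) F) : Matrix _ _ F) *ᵥ y) :=
    fun x y => by simp [hB'def, hT]
  have hB' : IsSymForm B' := by
    refine ⟨fun x y => by rw [hB'app, hB'app, hB.symm], fun v hv => ?_, h2⟩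
    obtain ⟨x, hx⟩ := hB.nondeg _ (mulVec_ne_zero g⁻¹ hv)
    exact ⟨(g : Matrix _ _ F) *ᵥ x, by rw [hB'app, inv_mulVec_cancel]; exact hx⟩
  have hconj : ∀ w, bvec B w ᵥ* ((g⁻¹ : GL (Fin n) F) : Matrix _ _ F) = bvec B' ((g : Matrix _ _ F) *ᵥ w) := by
    intro w
    funext j
    have h : (bvec B w ᵥ* ((g⁻¹ : GL (Fin n) F) : Matrix _ _ F)) ⬝ᵥ Pi.single j 1 =
        bvec B' ((g : Matrix _ _ F) *ᵥ w) ⬝ᵥ Pi.single j 1 := by
      rw [← dotProduct_mulVec, bvec_dot, bvec_dot, hB'app, inv_mulVec_cancel]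
    simpa using h
  have hE' : ∀ a w, B' a a = 0 → B' a w = 0 → eX B' a w ∈ M := by
    intro a w ha haw
    obtain ⟨a0, rfl⟩ : ∃ a0 : Fin n → F, a = (g : Matrix (Fin n) (Fin n) F) *ᵥ a0 := ⟨_, (mulVec_inv_cancel g a).symm⟩
    obtain ⟨w0, rfl⟩ : ∃ w0 : Fin n → F, w = (g : Matrix (Fin n) (Fin n) F) *ᵥ w0 := ⟨_, (mulVec_inv_cancel g w).symm⟩
    rw [hB'app, inv_mulVec_cancel] at ha
    rw [hB'app, inv_mulVec_cancel, inv_mulVec_cancel] at haw
    have h1 : bvec B (w0 + (B w0 w0 / 2) • a0) ⬝ᵥ a0 = 0 := by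
      rw [bvec_dot, map_add, map_smul, haw, ha, smul_zero, add_zero]
    have h2' : (-bvec B a0) ⬝ᵥ w0 = 0 := by rw [neg_dotProduct, bvec_dot, hB.symm, haw, neg_zero]
    have e : g * eX B a0 w0 * g⁻¹ = eX B' ((g : Matrix _ _ F) *ᵥ a0) ((g : Matrix _ _ F) *ᵥ w0) := by
      rw [eX, eX, show g * (transv a0 (bvec B (w0 + (B w0 w0 / 2) • a0)) * transv w0 (-bvec B a0)) * g⁻¹ =
        (g * transv a0 (bvec B (w0 + (B w0 w0 / 2) • a0)) * g⁻¹) * (g * transv w0 (-bvec B a0) * g⁻¹) by group,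
        conj_transv _ h1, conj_transv _ h2', neg_vecMul, hconj, hconj, mulVec_add, mulVec_smul, hB'app,
        inv_mulVec_cancel]
    rw [← e]
    exact M.mul_mem (M.mul_mem hgM (hE a0 w0 ha haw)) (M.inv_mem hgM)
  have hne : ∀ l : F, ∃ x, bvec B' x ≠ l • bvec B x := by
    intro l
    by_contra hcon
    simp only [not_exists, not_not] at hcon
    have key : ∀ x, Q (((g⁻¹ : GL (Fin n) F) : Matrix _ _ F) *ᵥ x) = l * Q x := fun x => by
      have h1 := congrArg (· ⬝ᵥ x) (hcon x)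
      simp only [smul_dotProduct, bvec_dot, hB'app, hBQ, smul_eq_mul] at h1
      exact mul_left_cancel₀ h2 (by rw [h1]; ring)
    have hl : l ≠ 0 := by
      intro hl
      obtain ⟨i⟩ : Nonempty (Fin n) := ⟨⟨0, by omega⟩⟩
      obtain ⟨y, hy⟩ := hB'.nondeg (Pi.single i 1) (by simp)
      refine hy ?_
      rw [← bvec_dot, hcon, hl, zero_smul, zero_dotProduct]
    refine hg ((Cfsg.Geo.quadSimilarityGroup Q).inv_mem (x := g⁻¹) ⟨Units.mk0 l hl, fun x => key x⟩ |> fun h => ?_)
    rwa [inv_inv] at h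
  have hcard : Fintype.card (Fin n) = 4 := by simp [hn]
  obtain ⟨v, z, hv, hz0, hvz, ht⟩ := Quad.exists_transv hB hcard hB' hE hE' hne
  exact le_antisymm hMK (specialLinear_le (Quad.all_transv hB hcard hE hv hz0 hvz ht))

end CfsgLib.SLFour
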