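/-
Unitary forms in dimension at least four: subgroups generated by the unitary transvections together with one
further element.
-/
import Cfsg.Agent.Lib.Transvec.Unitary

set_option autoImplicit false
set_option linter.all false

namespace CfsgLib.SLFour.Unit

open Matrix CfsgLib.Transvec
open CfsgLib.Transvec.Unitary (uvec uT Pair exists_skew exists_trace_ne_zero exists_trace_eq exists_norm_eq smul_right'
  add_right' zero_left' zero_right' neg_left' sub_left' sub_right' eq_zero_comm self_fixed linL uvec_dot uvec_smul uvec_add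
  uvec_surjective uT_dot uT_mulVec iso_uT uvec_vecMul_inv exists_perp_pair pair_add pair_sub pair_diff)
open scoped MatrixGroups

variable {ι : Type} [Fintype ι] [DecidableEq ι] {F : Type*} [Field F]
variable {σ : F ≃+* F} {f : (ι → F) → (ι → F) → F} (hf : Cfsg.Geo.IsUnitaryForm σ f)

include hf

/-- A vector orthogonal to two given ones and outside a small subspace. -/
lemma exists_perp_two (hdim : 4 ≤ Fintype.card ι) (a b : ι → F) (E : Submodule F (ι → F))
    (hE : Module.finrank F E ≤ 1) : ∃ y, f y a = 0 ∧ f y b = 0 ∧ y ∉ E := by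
  let T : (ι → F) →ₗ[F] F × F := (linL hf a).prod (linL hf b)
  have h1 := LinearMap.finrank_range_add_finrank_ker T
  have h2 := Submodule.finrank_le (LinearMap.range T)
  rw [Module.finrank_prod, Module.finrank_self] at h2
  rw [Module.finrank_fintype_fun_eq_card] at h1
  have hne : ¬ LinearMap.ker T ≤ E := fun h => by
    have h3 := Submodule.finrank_mono h
    omega
  obtain ⟨y, hy, hyE⟩ := SetLike.not_le_iff_exists.mp hne
  have hy' : (f y a, f y b) = 0 := LinearMap.mem_ker.mp hy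
  rw [Prod.mk_eq_zero] at hy'
  exact ⟨y, hy'.1, hy'.2, hyE⟩

variable [Finite F]

/-- An isotropic vector orthogonal to `p` and not a multiple of it. -/
lemma exists_iso_perp (hdim : 4 ≤ Fintype.card ι) (p : ι → F) :
    ∃ v, f v v = 0 ∧ f v p = 0 ∧ v ∉ Submodule.span F {p} := by
  classical
  have hle1 : ∀ a : ι → F, Module.finrank F (Submodule.span F ({a} : Set (ι → F))) ≤ 1 := fun a => by
    refine le_trans (finrank_span_le_card _) ?_
    simp
  obtain ⟨x, hxp, -, hx⟩ := exists_perp_two hf hdim p p _ (hle1 p)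
  by_cases hxx : f x x = 0
  · exact ⟨x, hxx, hxp, hx⟩
  have hle2 : Module.finrank F (Submodule.span F ({p, x} : Set (ι → F))) ≤ 2 := by
    refine le_trans (finrank_span_le_card _) ?_
    rw [Set.toFinset_insert, Set.toFinset_singleton]
    exact Finset.card_le_two
  obtain ⟨y, hyp, hyx, hy⟩ : ∃ y, f y p = 0 ∧ f y x = 0 ∧ y ∉ Submodule.span F ({p, x} : Set (ι → F)) := by
    by_contra hcon
    simp only [not_exists, not_and, not_not] at hcon
    let T : (ι → F) →ₗ[F] F × F := (linL hf p).prod (linL hf x)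
    have h1 := LinearMap.finrank_range_add_finrank_ker T
    have h2 := Submodule.finrank_le (LinearMap.range T)
    rw [Module.finrank_prod, Module.finrank_self] at h2
    rw [Module.finrank_fintype_fun_eq_card] at h1
    have hle : LinearMap.ker T ≤ Submodule.span F ({p, x} : Set (ι → F)) := fun y hy => by
      have hy' : (f y p, f y x) = 0 := LinearMap.mem_ker.mp hy
      rw [Prod.mk_eq_zero] at hy'
      exact hcon y hy'.1 hy'.2
    have heq := Submodule.eq_of_le_of_finrank_le hle (by omega)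
    have hxT : x ∈ LinearMap.ker T := heq ▸ Submodule.subset_span (by simp)
    have hx' : (f x p, f x x) = 0 := LinearMap.mem_ker.mp hxT
    rw [Prod.mk_eq_zero] at hx'
    exact hxx hx'.2
  by_cases hyy : f y y = 0
  · exact ⟨y, hyy, hyp, fun h => hy (Submodule.span_mono (by simp) h)⟩
  obtain ⟨b, hb⟩ := exists_norm_eq hf.ne_refl hf.involutive (b := -(f x x / f y y))
    (by rw [map_neg, map_div₀, self_fixed hf, self_fixed hf])
  refine ⟨x + b • y, ?_, ?_, fun h => ?_⟩
  · rw [hf.add_left, add_right' hf, add_right' hf, hf.smul_left, hf.smul_left, smul_right' hf, smul_right' hf,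
      (eq_zero_comm hf).mp hyx, hyx]
    have : f x x + b * σ b * f y y = 0 := by rw [hb, neg_mul, div_mul_cancel₀ _ hyy, add_neg_cancel]
    linear_combination this
  · rw [hf.add_left, hf.smul_left, hxp, hyp]; ring
  · obtain ⟨k, hk⟩ := Submodule.mem_span_singleton.mp h
    have hb0 : b ≠ 0 := by
      rintro rfl
      rw [zero_mul] at hb
      exact hxx ((div_eq_zero_iff.mp (neg_eq_zero.mp hb.symm)).resolve_right hyy)
    refine hy ?_
    rw [show y = b⁻¹ • (k • p - x) from by rw [hk, add_sub_cancel_left, inv_smul_smul₀ hb0]]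
    exact Submodule.smul_mem _ _ (Submodule.sub_mem _ (Submodule.smul_mem _ _ (Submodule.subset_span (by simp)))
      (Submodule.subset_span (by simp)))

/-- The isotropic vectors orthogonal to `p` span the orthogonal of `p`. -/
lemma mem_span_iso (hdim : 4 ≤ Fintype.card ι) {p x : ι → F} (hx : f x p = 0) :
    x ∈ Submodule.span F {v | f v v = 0 ∧ f v p = 0} := by
  obtain ⟨v, hv, hvp, hvs⟩ := exists_iso_perp hf hdim p
  have key : ∀ x, f x p = 0 → f x v ≠ 0 → x ∈ Submodule.span F {v | f v v = 0 ∧ f v p = 0} := by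
    intro x hx hxv
    obtain ⟨t, ht⟩ := exists_trace_eq hf.ne_refl hf.involutive (b := -f x x) (by rw [map_neg, self_fixed hf])
    obtain ⟨a, ha⟩ : ∃ a, a = t / f v x := ⟨_, rfl⟩
    have hvx : f v x ≠ 0 := fun h => hxv ((eq_zero_comm hf).mp h)
    have hi : f (x + a • v) (x + a • v) = 0 := by
      have h1 : a * f v x = t := by rw [ha, div_mul_cancel₀ t hvx]
      have h2 : σ a * f x v = σ t := by rw [← h1, map_mul, ← hf.herm]
      rw [hf.add_left, add_right' hf, add_right' hf, hf.smul_left, hf.smul_left, smul_right' hf, smul_right' hf, hv]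
      linear_combination h1 + h2 + ht
    have h3 : x + a • v ∈ {v | f v v = 0 ∧ f v p = 0} :=
      ⟨hi, by rw [hf.add_left, hf.smul_left, hx, hvp, mul_zero, add_zero]⟩
    have := Submodule.sub_mem _ (Submodule.subset_span h3) (Submodule.smul_mem _ a (Submodule.subset_span
      (show v ∈ {v | f v v = 0 ∧ f v p = 0} from ⟨hv, hvp⟩)))
    rwa [add_sub_cancel_right] at this
  by_cases hxv : f x v = 0
  · obtain ⟨z, hzp, hzv⟩ := exists_perp_pair hf hvs
    have := Submodule.sub_mem _
      (key (x + z) (by rw [hf.add_left, hx, hzp, add_zero]) (by rw [hf.add_left, hxv, zero_add]; exact hzv))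
      (key z hzp hzv)
    rwa [add_sub_cancel_right] at this
  · exact key x hx hxv

/-- An isotropic vector orthogonal to `p` pairing non-trivially with `w`. -/
lemma exists_iso_test (hdim : 4 ≤ Fintype.card ι) {p w : ι → F} (h : w ∉ Submodule.span F {p}) :
    ∃ v, f v v = 0 ∧ f v p = 0 ∧ f v w ≠ 0 := by
  obtain ⟨z, hzp, hzw⟩ := exists_perp_pair hf h
  by_contra hcon
  simp only [not_exists, not_and, not_not] at hcon
  have : Submodule.span F {v | f v v = 0 ∧ f v p = 0} ≤ LinearMap.ker (linL hf w) :=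
    Submodule.span_le.mpr fun v hv => hcon v hv.1 hv.2
  exact hzw (this (mem_span_iso hf hdim hzp))

/-- An isotropic vector pairing non-trivially with two given non-zero vectors. -/
lemma exists_iso_avoid (hdim : 4 ≤ Fintype.card ι) {a b : ι → F} (ha : a ≠ 0) (hb : b ≠ 0) :
    ∃ z, f z z = 0 ∧ f z a ≠ 0 ∧ f z b ≠ 0 := by
  have h0 : ∀ {c : ι → F}, c ≠ 0 → c ∉ Submodule.span F ({(0 : ι → F)} : Set (ι → F)) := fun hc h => by
    rw [Submodule.span_zero_singleton, Submodule.mem_bot] at h; exact hc h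
  obtain ⟨z1, h1, -, h1a⟩ := exists_iso_test hf hdim (h0 ha)
  by_cases h1b : f z1 b = 0
  swap
  · exact ⟨z1, h1, h1a, h1b⟩
  obtain ⟨z2, h2, -, h2b⟩ := exists_iso_test hf hdim (h0 hb)
  by_cases h2a : f z2 a = 0
  swap
  · exact ⟨z2, h2, h2a, h2b⟩
  by_cases h12 : f z1 z2 = 0
  · refine ⟨z1 + z2, ?_, ?_, ?_⟩
    · rw [hf.add_left, add_right' hf, add_right' hf, h1, h2, h12, (eq_zero_comm hf).mp h12]; ring
    · rw [hf.add_left, h2a, add_zero]; exact h1a
    · rw [hf.add_left, h1b, zero_add]; exact h2b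
  obtain ⟨c, hc0, hc⟩ := exists_skew hf.ne_refl hf.involutive
  obtain ⟨k, hk⟩ : ∃ k, k = σ (c / f z1 z2) := ⟨_, rfl⟩
  have e1 : σ k * f z1 z2 = c := by rw [hk, hf.involutive, div_mul_cancel₀ c h12]
  have e2 : k * f z2 z1 = σ c := by rw [← e1, map_mul, hf.involutive, ← hf.herm]
  have hk0 : k ≠ 0 := by
    rintro rfl
    rw [map_zero, zero_mul] at e1
    exact hc0 e1.symm
  refine ⟨z1 + k • z2, ?_, ?_, ?_⟩
  · rw [hf.add_left, add_right' hf, add_right' hf, hf.smul_left, hf.smul_left, smul_right' hf, smul_right' hf, h1,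
      h2]
    linear_combination e1 + e2 + hc
  · rw [hf.add_left, hf.smul_left, h2a, mul_zero, add_zero]; exact h1a
  · rw [hf.add_left, hf.smul_left, h1b, zero_add]; exact mul_ne_zero hk0 h2b

/-- If `g` carries isotropic flags to flags of the same kind then it is a similarity. -/
lemma mem_similarity (hdim : 4 ≤ Fintype.card ι) (g : GL ι F)
    (h : ∀ v, v ≠ 0 → f v v = 0 →
      ∃ a : F, ∀ x, f ((g : Matrix ι ι F) *ᵥ x) ((g : Matrix ι ι F) *ᵥ v) = a * f x v) :
    g ∈ Cfsg.Geo.similarityGroup f := by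
  choose a ha using h
  have key : ∀ u v (hu : u ≠ 0) (hv : v ≠ 0) (hu' : f u u = 0) (hv' : f v v = 0), f u v ≠ 0 →
      a v hv hv' = σ (a u hu hu') := by
    intro u v hu hv hu' hv' huv
    have h1 := ha v hv hv' u
    have h2 := ha u hu hu' v
    rw [hf.herm, h2, map_mul, ← hf.herm u v] at h1
    exact (mul_right_cancel₀ huv h1).symm
  have hsame : ∀ u v (hu : u ≠ 0) (hv : v ≠ 0) (hu' : f u u = 0) (hv' : f v v = 0),
      a u hu hu' = a v hv hv' := by
    intro u v hu hv hu' hv'
    obtain ⟨z, hz, hzu, hzv⟩ := exists_iso_avoid hf hdim hu hv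
    have hz0 : z ≠ 0 := fun h => hzu (by rw [h, zero_left' hf])
    rw [key z u hz0 hu hz hu' hzu, key z v hz0 hv hz hv' hzv]
  obtain ⟨v₀, hv₀', -, hv₀s⟩ := exists_iso_perp hf hdim 0
  have hv₀ : v₀ ≠ 0 := fun h => hv₀s (by rw [h]; exact Submodule.zero_mem _)
  obtain ⟨a₀, ha₀⟩ : ∃ a₀, a₀ = a v₀ hv₀ hv₀' := ⟨_, rfl⟩
  have hall : ∀ v x, f ((g : Matrix ι ι F) *ᵥ x) ((g : Matrix ι ι F) *ᵥ v) = a₀ * f x v := by
    intro v
    refine Submodule.span_induction (p := fun v _ => ∀ x,
        f ((g : Matrix ι ι F) *ᵥ x) ((g : Matrix ι ι F) *ᵥ v) = a₀ * f x v) ?_ ?_ ?_ ?_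
      (mem_span_iso hf hdim (p := 0) (x := v) (zero_right' hf v))
    · rintro v ⟨hv, -⟩ x
      by_cases hv0 : v = 0
      · rw [hv0, mulVec_zero, zero_right' hf, zero_right' hf, mul_zero]
      · rw [ha v hv0 hv, ha₀, hsame v v₀ hv0 hv₀ hv hv₀']
    · intro x; rw [mulVec_zero, zero_right' hf, zero_right' hf, mul_zero]
    · intro v w _ _ hv hw x
      rw [mulVec_add, add_right' hf, add_right' hf, hv, hw, mul_add]
    · intro c v _ hv x
      rw [mulVec_smul, smul_right' hf, smul_right' hf, hv]; ring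
  have ha0 : a₀ ≠ 0 := by
    intro h
    obtain ⟨x, hx⟩ := (hf.nondegenerate _ (mulVec_ne_zero g hv₀)).1
    have := hall v₀ (((g⁻¹ : GL ι F) : Matrix ι ι F) *ᵥ x)
    rw [mulVec_inv_cancel, h, zero_mul] at this
    exact hx this
  exact ⟨Units.mk0 a₀ ha0, fun u v => by rw [Units.val_mk0]; exact hall v u⟩

variable {M : Subgroup (GL ι F)} (hU : ∀ v, f v v = 0 → ∀ c, c + σ c = 0 → uT f v c ∈ M)

include hU

/-- An isotropic centre whose transvections with its own axis are all present. -/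
lemma exists_full_iso (hdim : 4 ≤ Fintype.card ι) {p w : ι → F} (hp : f p p = 0) (hpw : f p w = 0)
    (hw : w ∉ Submodule.span F {p}) (h : Pair f M p w) : FullPair M p (uvec f p) := by
  obtain ⟨v, hv, hvp, hvw⟩ := exists_iso_test hf hdim hw
  obtain ⟨c, hc0, hc⟩ := exists_skew hf.ne_refl hf.involutive
  have hwv : f w v ≠ 0 := fun h0 => hvw ((eq_zero_comm hf).mp h0)
  have hpv : f p v = 0 := (eq_zero_comm hf).mp hvp
  have key : ∀ b, Pair f M p ((c * f w v * b) • p) := by
    intro b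
    have hi : f (v + b • p) (v + b • p) = 0 := by
      rw [hf.add_left, add_right' hf, add_right' hf, hf.smul_left, hf.smul_left, smul_right' hf, smul_right' hf,
        hv, hvp, hpv, hp]
      ring
    have hperp : f p (v + b • p) = 0 := by rw [add_right' hf, smul_right' hf, hpv, hp, mul_zero, add_zero]
    have h1 := pair_diff hf hU hi hperp hpw h hc
    rw [add_right' hf, smul_right' hf, (eq_zero_comm hf).mp hpw, mul_zero, add_zero] at h1
    have h2 := pair_diff hf hU hv hpv hpw h hc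
    have h3 := pair_sub hf hU (by rw [smul_right' hf, hperp, mul_zero]) (by rw [smul_right' hf, hpv, mul_zero]) h1 h2
    rwa [← smul_sub, add_sub_cancel_left, smul_smul] at h3
  intro a
  have h4 := key (σ a / (c * f w v))
  rwa [mul_div_cancel₀ _ (mul_ne_zero hc0 hwv), Pair, uvec_smul hf, hf.involutive] at h4

/-- An anisotropic vector all of whose pairs are present. -/
lemma exists_allPairs (hdim : 4 ≤ Fintype.card ι) {p : ι → F} (hp0 : p ≠ 0) (hp : f p p = 0)
    (hfull : FullPair M p (uvec f p)) :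
    ∃ x, f x x ≠ 0 ∧ ∀ φ : ι → F, φ ⬝ᵥ x = 0 → FullPair M x φ := by
  obtain ⟨r, hr, -, hrp⟩ := exists_iso_test hf hdim (p := 0) (w := p)
    (by rw [Submodule.span_zero_singleton, Submodule.mem_bot]; exact hp0)
  obtain ⟨c, hc0, hc⟩ := exists_skew hf.ne_refl hf.involutive
  have hpr : f p r ≠ 0 := fun h0 => hrp ((eq_zero_comm hf).mp h0)
  obtain ⟨q', hq'⟩ : ∃ q', q' = (uT f r c : Matrix ι ι F) *ᵥ p := ⟨_, rfl⟩
  have hq'full : FullPair M q' (uvec f q') := by
    have := fullPair_conj (hU r hr c hc) (by rw [uvec_dot hf, hp]) hfull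
    rwa [uvec_vecMul_inv hf (iso_uT hf hr hc), ← hq'] at this
  have hq'q' : f q' q' = 0 := by rw [hq', iso_uT hf hr hc, hp]
  have hq'p : f q' p ≠ 0 := by
    rw [hq', uT_mulVec hf hr, hf.add_left, hf.smul_left, hp, zero_add]
    exact mul_ne_zero (mul_ne_zero hc0 hpr) hrp
  obtain ⟨q, hq⟩ : ∃ q, q = (f q' p)⁻¹ • q' := ⟨_, rfl⟩
  have hqp : f q p = 1 := by rw [hq, hf.smul_left, inv_mul_cancel₀ hq'p]
  have hpq : f p q = 1 := by rw [hf.herm, hqp, map_one]
  have hqq : f q q = 0 := by rw [hq, hf.smul_left, smul_right' hf, hq'q']; ring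
  have hqfull : FullPair M q (uvec f q) := by
    intro b
    have := fullPair_smul_left (by rw [uvec_dot hf, hq'q']) hq'full (f q' p)⁻¹
    rw [← hq] at this
    rw [hq, uvec_smul hf, smul_smul, ← hq]
    exact this _
  obtain ⟨a, ha⟩ := exists_trace_ne_zero hf.ne_refl
  obtain ⟨x, hx⟩ : ∃ x, x = q + a • p := ⟨_, rfl⟩
  obtain ⟨w, hw⟩ : ∃ w, w = q - σ a • p := ⟨_, rfl⟩
  have hxx : f x x ≠ 0 := by
    rw [hx, hf.add_left, add_right' hf, add_right' hf, hf.smul_left, hf.smul_left, smul_right' hf, smul_right' hf,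
      hqq, hqp, hpq, hp]
    intro h0
    exact ha (by linear_combination h0)
  have hxw : f x w = 0 := by
    rw [hx, hw, hf.add_left, sub_right' hf, sub_right' hf, hf.smul_left, hf.smul_left, smul_right' hf,
      smul_right' hf, hf.involutive, hqq, hqp, hpq, hp]
    ring
  -- all multiples of w
  have hxwpair : ∀ b : F, Pair f M x (b • w) := by
    intro b
    have hd : (a • uvec f p) ⬝ᵥ p = 0 := by rw [smul_dotProduct, uvec_dot hf, hp, smul_zero]
    have h1 := fullPair_conj (hfull a) (by rw [uvec_dot hf, hqq]) hqfull (σ b)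
    rw [transv_mulVec hd, smul_dotProduct, uvec_dot hf, hqp, smul_eq_mul, mul_one, ← hx] at h1
    have e : uvec f q ᵥ* (((transv p (a • uvec f p))⁻¹ : GL ι F) : Matrix ι ι F) = uvec f w := by
      funext j
      have h2 : (uvec f q ᵥ* (((transv p (a • uvec f p))⁻¹ : GL ι F) : Matrix ι ι F)) ⬝ᵥ Pi.single j 1 =
          uvec f w ⬝ᵥ Pi.single j 1 := by
        rw [← dotProduct_mulVec, uvec_dot hf, uvec_dot hf, transv_inv hd,
          transv_mulVec (by rw [neg_dotProduct, hd, neg_zero]), neg_dotProduct, smul_dotProduct, uvec_dot hf,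
          smul_eq_mul, hf.add_left, hf.smul_left, hpq, hw, sub_right' hf, smul_right' hf, hf.involutive]
        ring
      simpa using h2
    rw [e, ← uvec_smul hf] at h1
    exact h1
  have hwx : w ∉ Submodule.span F {x} := by
    intro hm
    obtain ⟨k, hk⟩ := Submodule.mem_span_singleton.mp hm
    rw [← hk, smul_right' hf, mul_eq_zero, or_iff_left hxx, map_eq_zero_iff _ σ.injective] at hxw
    rw [hxw, zero_smul, hw, eq_comm, sub_eq_zero] at hk
    rw [hk, hf.smul_left, hp, mul_zero] at hqp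
    exact zero_ne_one hqp
  -- multiples of isotropic vectors pairing with a good one
  have hstep : ∀ u v, f x u = 0 → (∀ b : F, Pair f M x (b • u)) → f v v = 0 → f v x = 0 → f u v ≠ 0 →
      ∀ b : F, Pair f M x (b • v) := by
    intro u v hxu hu hv hvx huv b
    have := pair_diff hf hU hv ((eq_zero_comm hf).mp hvx) (by rw [smul_right' hf, hxu, mul_zero])
      (hu (b / (c * f u v))) hc
    rw [hf.smul_left] at this
    rwa [show c * (b / (c * f u v) * f u v) = b by field_simp] at this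
  obtain ⟨v₀, hv₀, hv₀x, hv₀w⟩ := exists_iso_test hf hdim hwx
  have hwv₀ : f w v₀ ≠ 0 := fun h0 => hv₀w ((eq_zero_comm hf).mp h0)
  have hgood := hstep w v₀ hxw hxwpair hv₀ hv₀x hwv₀
  have hiso : ∀ v, f v v = 0 → f v x = 0 → ∀ b : F, Pair f M x (b • v) := by
    intro v hv hvx
    by_cases h1 : f w v = 0
    · by_cases h2 : f v₀ v = 0
      · intro b
        have h3 : ∀ b : F, Pair f M x (b • (v + v₀)) := hstep w (v + v₀) hxw hxwpair
          (by rw [hf.add_left, add_right' hf, add_right' hf, hv, hv₀, h2, (eq_zero_comm hf).mp h2]; ring)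
          (by rw [hf.add_left, hvx, hv₀x, add_zero]) (by rw [add_right' hf, h1, zero_add]; exact hwv₀)
        have := pair_sub hf hU (by rw [smul_right' hf, add_right' hf, (eq_zero_comm hf).mp hvx,
          (eq_zero_comm hf).mp hv₀x, add_zero, mul_zero]) (by rw [smul_right' hf, (eq_zero_comm hf).mp hv₀x,
          mul_zero]) (h3 b) (hgood b)
        rwa [← smul_sub, add_sub_cancel_right] at this
      · exact hstep v₀ v ((eq_zero_comm hf).mp hv₀x) hgood hv hvx h2
    · exact hstep w v hxw hxwpair hv hvx h1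
  refine ⟨x, hxx, fun φ hφ b => ?_⟩
  obtain ⟨z, rfl⟩ := uvec_surjective hf φ
  rw [uvec_dot hf] at hφ
  have hall : f x z = 0 ∧ ∀ b : F, Pair f M x (b • z) := by
    refine Submodule.span_induction (p := fun z _ => f x z = 0 ∧ ∀ b : F, Pair f M x (b • z)) ?_ ?_ ?_ ?_
      (mem_span_iso hf hdim ((eq_zero_comm hf).mp hφ))
    · exact fun v hv => ⟨(eq_zero_comm hf).mp hv.2, hiso v hv.1 hv.2⟩
    · refine ⟨zero_right' hf x, fun b => ?_⟩
      have : uvec f (b • (0 : ι → F)) = 0 := funext fun j => by rw [uvec, smul_zero, zero_right' hf]; rfl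
      rw [Pair, this, transv_zero]; exact M.one_mem
    · refine fun y z _ _ hy hz => ⟨by rw [add_right' hf, hy.1, hz.1, add_zero], fun b => ?_⟩
      rw [smul_add]
      exact pair_add hf hU (by rw [smul_right' hf, hy.1, mul_zero]) (by rw [smul_right' hf, hz.1, mul_zero])
        (hy.2 b) (hz.2 b)
    · exact fun k y _ hy => ⟨by rw [smul_right' hf, hy.1, mul_zero], fun b => by rw [smul_smul]; exact hy.2 _⟩
  have := hall.2 (σ b)
  rwa [Pair, uvec_smul hf, hf.involutive] at this

/-- From one anisotropic vector with all pairs to every transvection. -/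
lemma all_pairs (hdim : 4 ≤ Fintype.card ι) {x₀ : ι → F} (hx₀ : f x₀ x₀ ≠ 0)
    (h : ∀ φ : ι → F, φ ⬝ᵥ x₀ = 0 → FullPair M x₀ φ) : ∀ y φ : ι → F, φ ⬝ᵥ y = 0 → transv y φ ∈ M := by
  have hzero : ∀ φ : ι → F, φ ⬝ᵥ (0 : ι → F) = 0 → FullPair M 0 φ := fun φ hφ a => by
    have : transv (0 : ι → F) (a • φ) = 1 :=
      gl_ext fun x => by rw [transv_mulVec (dotProduct_zero _)]; simp
    rw [this]; exact M.one_mem
  have hsmul : ∀ (k : F) (v : ι → F), (∀ φ : ι → F, φ ⬝ᵥ v = 0 → FullPair M v φ) →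
      ∀ φ : ι → F, φ ⬝ᵥ (k • v) = 0 → FullPair M (k • v) φ := by
    intro k v hv φ hφ
    by_cases hk : k = 0
    · rw [hk, zero_smul] at hφ ⊢; exact hzero φ hφ
    · rw [dotProduct_smul, smul_eq_mul, mul_eq_zero, or_iff_right hk] at hφ
      exact fullPair_smul_left hφ (hv φ hφ) k
  let W : Submodule F (ι → F) :=
    { carrier := {v | ∀ φ : ι → F, φ ⬝ᵥ v = 0 → FullPair M v φ}
      zero_mem' := hzero
      smul_mem' := hsmul
      add_mem' := by
        intro v w hv hw
        by_cases hw' : w ∈ Submodule.span F {v}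
        · obtain ⟨k, rfl⟩ := Submodule.mem_span_singleton.mp hw'
          show ∀ φ : ι → F, φ ⬝ᵥ (v + k • v) = 0 → FullPair M (v + k • v) φ
          rw [show v + k • v = (1 + k) • v by rw [add_smul, one_smul]]
          exact hsmul _ v hv
        · obtain ⟨ψ, hψ, hψw⟩ := exists_functional hw'
          have hd := hψ v (Submodule.mem_span_singleton_self v)
          have h1 := hv ψ hd 1
          rw [one_smul] at h1
          have h2 := allPairs_conj h1 hw
          rw [transv_mulVec hd, hψw, one_smul, add_comm] at h2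
          exact h2 }
  obtain ⟨c, hc0, hc⟩ := exists_skew hf.ne_refl hf.involutive
  have hx₀W : x₀ ∈ W := h
  have hmove : ∀ z r, z ∈ W → f r r = 0 → f z r ≠ 0 → r ∈ W := by
    intro z r hz hr hzr
    have h1 : (uT f r c : Matrix ι ι F) *ᵥ z ∈ W := allPairs_conj (hU r hr c hc) hz
    rw [uT_mulVec hf hr, W.add_mem_iff_right hz] at h1
    exact (Submodule.smul_mem_iff _ (mul_ne_zero hc0 hzr)).mp h1
  have hx₀0 : x₀ ≠ 0 := fun h0 => hx₀ (by rw [h0, zero_left' hf])
  have hiso : ∀ r, f r r = 0 → r ∈ W := by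
    intro r hr
    by_cases hr0 : r = 0
    · rw [hr0]; exact W.zero_mem
    by_cases hxr : f x₀ r = 0
    · obtain ⟨r₁, h1, h1x, h1r⟩ := exists_iso_avoid hf hdim hx₀0 hr0
      exact hmove r₁ r (hmove x₀ r₁ hx₀W h1 fun h0 => h1x ((eq_zero_comm hf).mp h0)) hr h1r
    · exact hmove x₀ r hx₀W hr hxr
  intro y φ hφ
  have hy : y ∈ W := (Submodule.span_le.mpr fun v hv => hiso v hv.1) (mem_span_iso hf hdim (p := 0) (zero_right' hf y))
  simpa using hy φ hφ 1

/-- A group containing the unitary transvections and an element that is no similarity contains all transvections. -/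
theorem all_pairs_of_not_similarity (hdim : 4 ≤ Fintype.card ι) {g : GL ι F} (hgM : g ∈ M)
    (hg : g ∉ Cfsg.Geo.similarityGroup f) : ∀ y φ : ι → F, φ ⬝ᵥ y = 0 → transv y φ ∈ M := by
  obtain ⟨c, hc0, hc⟩ := exists_skew hf.ne_refl hf.involutive
  -- some transvection outside
  obtain ⟨v, hv0, hv, hnot⟩ : ∃ v, v ≠ 0 ∧ f v v = 0 ∧
      ∀ a : F, ∃ x, f ((g : Matrix ι ι F) *ᵥ x) ((g : Matrix ι ι F) *ᵥ v) ≠ a * f x v := by
    by_contra hcon
    simp only [not_exists, not_and, not_forall, not_not] at hcon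
    exact hg (mem_similarity hf hdim g hcon)
  obtain ⟨p, hp⟩ : ∃ p, p = (g : Matrix ι ι F) *ᵥ v := ⟨_, rfl⟩
  obtain ⟨w, hw⟩ := uvec_surjective hf ((c • uvec f v) ᵥ* ((g⁻¹ : GL ι F) : Matrix ι ι F))
  have hfw : ∀ x, f ((g : Matrix ι ι F) *ᵥ x) w = c * f x v := fun x => by
    rw [← uvec_dot hf, hw, vecMul_inv_dotProduct, smul_dotProduct, uvec_dot hf, smul_eq_mul]
  have hpw : f p w = 0 := by rw [hp, hfw, hv, mul_zero]
  have hpair : Pair f M p w := by
    have h1 := M.mul_mem (M.mul_mem hgM (hU v hv c hc)) (M.inv_mem hgM)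
    rwa [uT, conj_transv g (uT_dot hf hv c), ← hw, ← hp] at h1
  have hwp : w ∉ Submodule.span F {p} := by
    intro hm
    obtain ⟨k, hk⟩ := Submodule.mem_span_singleton.mp hm
    by_cases hk0 : k = 0
    · obtain ⟨x, hx⟩ := (hf.nondegenerate v hv0).1
      have := hfw x
      rw [← hk, hk0, zero_smul, zero_right' hf] at this
      exact mul_ne_zero hc0 hx this.symm
    · obtain ⟨x, hx⟩ := hnot (c / σ k)
      refine hx ?_
      have := hfw x
      rw [← hk, smul_right' hf] at this
      have hk' : σ k ≠ 0 := (map_ne_zero_iff _ σ.injective).mpr hk0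
      rw [← hp, div_mul_eq_mul_div, eq_div_iff hk', mul_comm, this]
  have hp0 : p ≠ 0 := hp ▸ mulVec_ne_zero g hv0
  -- make the centre isotropic
  obtain ⟨p', w', hp'0, hp', hpw', hwp', hpair'⟩ : ∃ p' w', p' ≠ 0 ∧ f p' p' = 0 ∧ f p' w' = 0 ∧
      w' ∉ Submodule.span F {p'} ∧ Pair f M p' w' := by
    by_cases hpp : f p p = 0
    · exact ⟨p, w, hp0, hpp, hpw, hwp, hpair⟩
    obtain ⟨v₀, hv₀, hv₀p, hv₀w⟩ := exists_iso_test hf hdim hwp
    have hwv₀ : f w v₀ ≠ 0 := fun h0 => hv₀w ((eq_zero_comm hf).mp h0)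
    obtain ⟨u, hu⟩ : ∃ u, u = (c * f w v₀) • v₀ := ⟨_, rfl⟩
    have hu' : Pair f M p u := hu ▸ pair_diff hf hU hv₀ ((eq_zero_comm hf).mp hv₀p) hpw hpair hc
    have hpu : f p u = 0 := by rw [hu, smul_right' hf, (eq_zero_comm hf).mp hv₀p, mul_zero]
    have hv₀0 : v₀ ≠ 0 := fun h0 => hv₀w (by rw [h0, zero_left' hf])
    have hu0 : u ≠ 0 := hu ▸ smul_ne_zero (mul_ne_zero hc0 hwv₀) hv₀0
    have hps : p ∉ Submodule.span F {u} := fun hm => by
      obtain ⟨k, hk⟩ := Submodule.mem_span_singleton.mp hm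
      exact hpp (by rw [← hk] at hpu ⊢; rw [smul_right' hf, hpu, mul_zero])
    obtain ⟨r, hr, hru, hrp⟩ := exists_iso_test hf hdim hps
    have hur : f u r = 0 := (eq_zero_comm hf).mp hru
    have hpr : f p r ≠ 0 := fun h0 => hrp ((eq_zero_comm hf).mp h0)
    obtain ⟨k, hk⟩ : ∃ k, k = c * f p r := ⟨_, rfl⟩
    have hdr : uvec f u ⬝ᵥ r = 0 := by rw [uvec_dot hf, hru]
    refine ⟨r, σ k • u, fun h0 => hrp (by rw [h0, zero_left' hf]), hr, by rw [smul_right' hf, hru, mul_zero],
      fun hm => ?_, ?_⟩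
    · obtain ⟨j, hj⟩ := Submodule.mem_span_singleton.mp hm
      have h1 : f p (j • r) = 0 := by rw [hj, smul_right' hf, hpu, mul_zero]
      rw [smul_right' hf, mul_eq_zero, or_iff_left hpr, map_eq_zero_iff _ σ.injective] at h1
      rw [h1, zero_smul, eq_comm, smul_eq_zero, or_iff_left hu0, map_eq_zero_iff _ σ.injective, hk] at hj
      exact mul_ne_zero hc0 hpr hj
    · have h2 := M.mul_mem (M.mul_mem (hU r hr c hc) hu') (M.inv_mem (hU r hr c hc))
      rw [conj_transv _ (by rw [uvec_dot hf, hpu]), uvec_vecMul_inv hf (iso_uT hf hr hc), uT_mulVec hf hr,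
        uT_mulVec hf hr, hur, mul_zero, zero_smul, add_zero, ← hk] at h2
      have h3 := M.mul_mem (M.inv_mem hu') h2
      rw [← transv_add_left (by rw [uvec_dot hf, hpu]) (by rw [dotProduct_smul, hdr, smul_zero]),
        inv_mul_cancel_left, transv_smul_left k hdr] at h3
      rwa [Pair, uvec_smul hf, hf.involutive]
  obtain ⟨x, hx, hxall⟩ := exists_allPairs hf hU hdim hp'0 hp' (exists_full_iso hf hU hdim hp' hpw' hwp' hpair')
  exact all_pairs hf hU hdim hx hxall

end CfsgLib.SLFour.Unit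

namespace CfsgLib.SLFour

open Cfsg Matrix CfsgLib.Transvec CfsgLib.SLFour.Unit
open CfsgLib.Transvec.Unitary (uvec uT iso_uT uvec_dot eq_zero_comm exists_perp_pair)
open scoped MatrixGroups

theorem unitary_maximal {F : Type*} [Field F] [Fintype F] (n : ℕ) (hn : 4 ≤ n) (σ : F ≃+* F) (f : (Fin n → F) → (Fin n → F) → F) (hf : Cfsg.Geo.IsUnitaryForm σ f) : Cfsg.Geo.IsMaximalIn (Cfsg.Geo.specialLinear (Fin n) F) (Cfsg.Geo.similarityGroup f ⊓ Cfsg.Geo.specialLinear (Fin n) F) := by
  have hdim : 4 ≤ Fintype.card (Fin n) := by rw [Fintype.card_fin]; omega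
  refine ⟨lt_of_le_not_ge inf_le_right fun hle => ?_, fun M hHM hMK => ?_⟩
  · obtain ⟨v, hv, -, hvs⟩ := exists_iso_perp hf hdim 0
    obtain ⟨w, hwv, -, hw⟩ := exists_perp_two hf hdim v v (Submodule.span F {v})
      (le_trans (finrank_span_le_card _) (by simp))
    have hd : uvec f w ⬝ᵥ v = 0 := by rw [uvec_dot hf, (eq_zero_comm hf).mp hwv]
    obtain ⟨c, hc⟩ := (hle (transv_mem_specialLinear v (uvec f w))).1
    obtain ⟨x, hxv, hxw⟩ := exists_perp_pair hf hw
    have hv0 : v ≠ 0 := fun h0 => hvs (by rw [h0]; exact Submodule.zero_mem _)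
    obtain ⟨y, hy⟩ := (hf.nondegenerate v hv0).2
    have hyv : f y v ≠ 0 := fun h0 => hy ((eq_zero_comm hf).mp h0)
    have happ : ∀ z, (transv v (uvec f w) : Matrix (Fin n) (Fin n) F) *ᵥ z = z + f z w • v := fun z => by
      rw [transv_mulVec hd, uvec_dot hf]
    have hvw : f v w = 0 := (eq_zero_comm hf).mp hwv
    have h1 := hc y v
    rw [happ, happ, hvw, zero_smul, add_zero, hf.add_left, hf.smul_left, hv, mul_zero, add_zero] at h1
    have hc1 : (c : F) = 1 := (mul_eq_right₀ hyv).mp h1.symm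
    have h2 := hc x y
    rw [happ, happ, hc1, one_mul, hf.add_left, hf.smul_left, Unitary.add_right' hf, Unitary.add_right' hf,
      Unitary.smul_right' hf, Unitary.smul_right' hf, hv, hxv] at h2
    exact mul_ne_zero hxw hy (by linear_combination h2)
  by_cases hM : M ≤ Cfsg.Geo.similarityGroup f
  · exact Or.inl (le_antisymm (le_inf hM hMK) hHM)
  right
  obtain ⟨g, hgM, hg⟩ := SetLike.not_le_iff_exists.mp hM
  refine le_antisymm hMK (specialLinear_le (all_pairs_of_not_similarity hf (fun v hv c hc => hHM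
    ⟨⟨1, fun x y => ?_⟩, transv_mem_specialLinear _ _⟩) hdim hgM hg))
  rw [Units.val_one, one_mul]
  exact iso_uT hf hv hc x y


end CfsgLib.SLFour
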